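import Groth.Agent.SiteCmp.K578.Hyp
import Groth.Agent.SiteCmp.K578.Van

/-!
# Left completeness and bounds for complexes on a ringed space whose cohomology sheaves are acyclic on a
basis
-/

set_option autoImplicit false
set_option backward.defeqAttrib.useBackward true
set_option backward.isDefEq.respectTransparency false

universe w u

open CategoryTheory CategoryTheory.Limits Opposite TopologicalSpace DerivedCategory

namespace K182.TopRlim

open K578.ModTest K578.ModExtPM

variable {T : TopCat.{u}} (O : Sheaf (Opens.grothendieckTopology T) CommRingCat.{u})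
  [HasDerivedCategory.{w} (ModSite.Mod O)]

/-- `A`-modules are acyclic on the members of `B`. -/
def AcycOn (A : ObjectProperty (ModSite.Mod O)) (B : Set (Opens T)) : Prop :=
  ∀ F, A F → ∀ V ∈ B, ∀ q : ℕ, 0 < q → Subsingleton (ModSite.HU O F q V)

lemma exists_cover {B : Set (Opens T)} (hB : Opens.IsBasis B) (U : Opens T) (S : Sieve U)
    (hS : S ∈ Opens.grothendieckTopology T U) :
    ∃ (ι : Type u) (Y : ι → Opens T) (g : ∀ i, Y i ⟶ U),
      (∀ i, S.arrows (g i)) ∧ Sieve.ofArrows Y g ∈ Opens.grothendieckTopology T U ∧ ∀ i, Y i ∈ B := by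
  have h : ∀ x : U, ∃ (V : Opens T) (g : V ⟶ U), S.arrows g ∧ x.1 ∈ V ∧ V ∈ B := by
    intro x
    obtain ⟨V, g, hg, hx⟩ := hS x.1 x.2
    obtain ⟨W, hW, hxW, hWV⟩ := (Opens.isBasis_iff_nbhd.1 hB) hx
    exact ⟨W, homOfLE (hWV.trans (leOfHom g)), S.downward_closed hg (homOfLE hWV), hxW, hW⟩
  choose V g hg hx hV using h
  refine ⟨U, V, g, hg, fun x hx' => ?_, hV⟩
  exact ⟨V ⟨x, hx'⟩, g ⟨x, hx'⟩, Sieve.ofArrows_mk V g ⟨x, hx'⟩, hx ⟨x, hx'⟩⟩

/-- The derived limit of the truncations for complexes with cohomology in `A`. -/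
theorem isRlimVia {A : ObjectProperty (ModSite.Mod O)} {B : Set (Opens T)} (hB : Opens.IsBasis B)
    (hA : AcycOn O A B) (Y : DerivedCategory (ModSite.Mod O)) [HasProduct (CohCx.truncTower Y)]
    (hY : WSerre.cohIn A Y) :
    CohCx.IsRlimVia (CohCx.truncTower Y) (CohCx.truncTowerMap Y) Y (CohCx.toTruncTower Y) := by
  refine K578.Hyp.isRlimVia O A B (fun U => ?_) (fun V _ => ⟨0, fun S hS => ?_⟩) Y hY
  · obtain ⟨ι, Y, g, _, h2, h3⟩ := exists_cover hB U ⊤ ((Opens.grothendieckTopology T).top_mem U)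
    exact ⟨ι, Y, g, h2, h3⟩
  · obtain ⟨ι, Y, g, h1, h2, h3⟩ := exists_cover hB V S hS
    exact ⟨ι, Y, g, h1, h2, fun i F hF k hk => hA F hF (Y i) (h3 i) k hk⟩

/-- `Hom(PM_U[0], Y[m]) = 0` for `Y ∈ D^{≤ b}`, `m > b + d`. -/
theorem hom_PM_eq_zero {A : ObjectProperty (ModSite.Mod O)} {B : Set (Opens T)} (hB : Opens.IsBasis B)
    (hA : AcycOn O A B) (U : Opens T) (d : ℕ)
    (hd : ∀ F, A F → ∀ q : ℕ, d < q → Subsingleton (ModSite.HU O F q U))
    (Y : DerivedCategory (ModSite.Mod O)) (hY : WSerre.cohIn A Y) (b : ℤ) [Y.IsLE b] (m : ℤ) (hm : b + d < m)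
    (x : (singleFunctor _ 0).obj ((PM (ModSite.ringSh O)).obj U) ⟶ Y⟦m⟧) : x = 0 := by
  have := K578.Hyp.hasProduct_truncTower O Y
  have : HasExt.{u + 1} (ModSite.Mod O) := HasExt.standard _
  refine K578.Van.hom_eq_zero_of_isLE.{w, u + 1, u} _ Y (isRlimVia O hB hA Y hY) b d (fun q k hk => ?_) m hm x
  exact (subsingleton_ext_iff O _ k U).2 (hd _ (hY q) k (by exact_mod_cast hk))

section Unit

variable (R : Sheaf (Opens.grothendieckTopology T) RingCat.{u})

/-- A section over the whole space as a compatible family. -/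
noncomputable def toSections (F : SheafOfModules.{u} R) (s : F.val.obj (op ⊤)) : F.sections :=
  PresheafOfModules.sectionsMk (fun U => F.val.map (homOfLE le_top : U.unop ⟶ ⊤).op s) (by
    intro U V f
    exact (F.val.map_comp_apply _ _ s).symm)

lemma toSections_top (F : SheafOfModules.{u} R) (s : F.val.obj (op ⊤)) :
    (toSections R F s).val (op ⊤) = s := by
  change F.val.map (𝟙 _) s = s
  rw [F.val.map_id]
  rfl

lemma sections_ext_top (F : SheafOfModules.{u} R) (s t : F.sections) (h : s.val (op ⊤) = t.val (op ⊤)) : s = t :=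
  PresheafOfModules.sections_ext _ _ fun U => by
    have h1 := s.property (homOfLE le_top : U.unop ⟶ ⊤).op
    have h2 := t.property (homOfLE le_top : U.unop ⟶ ⊤).op
    rw [← h1, ← h2, h]

/-- The unit module is the free module on the whole space. -/
noncomputable def unitIso : SheafOfModules.unit R ≅ (PM R).obj ⊤ where
  hom := ((PM R).obj ⊤).unitHomEquiv.symm (toSections R _ (gen R ⊤))
  inv := (homEq R ⊤ (SheafOfModules.unit R)).symm (1 : R.obj.obj (op ⊤))
  hom_inv_id := by
    apply (SheafOfModules.unit R).unitHomEquiv.injective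
    rw [SheafOfModules.unitHomEquiv_comp_apply, Equiv.apply_symm_apply]
    apply sections_ext_top
    refine (congrArg (((homEq R ⊤ (SheafOfModules.unit R)).symm (1 : R.obj.obj (op ⊤))).val.app (op ⊤))
      (toSections_top R _ (gen R ⊤))).trans ?_
    exact (homEq_apply _).symm.trans (Equiv.apply_symm_apply _ _)
  inv_hom_id := by
    apply (homEq R ⊤ _).injective
    rw [homEq_comp, Equiv.apply_symm_apply]
    refine (SheafOfModules.unitHomEquiv_apply_coe _ _ (op ⊤)).symm.trans ?_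
    rw [Equiv.apply_symm_apply, toSections_top]
    rfl

end Unit

/-- `Hom(O[0], Y[m]) = 0` for `Y ∈ D^{≤ b}`, `m > b + d`. -/
theorem hom_unit_eq_zero {A : ObjectProperty (ModSite.Mod O)} {B : Set (Opens T)} (hB : Opens.IsBasis B)
    (hA : AcycOn O A B) (d : ℕ)
    (hd : ∀ F, A F → ∀ q : ℕ, d < q → Subsingleton (ModSite.HU O F q ⊤))
    (Y : DerivedCategory (ModSite.Mod O)) (hY : WSerre.cohIn A Y) (b : ℤ) [Y.IsLE b] (m : ℤ) (hm : b + d < m)
    (x : (singleFunctor _ 0).obj (ModSite.unit O) ⟶ Y⟦m⟧) : x = 0 := by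
  have h := hom_PM_eq_zero O hB hA ⊤ d hd Y hY b m hm
    ((singleFunctor _ 0).map (unitIso (ModSite.ringSh O)).inv ≫ x)
  rw [← cancel_epi ((singleFunctor _ 0).map (unitIso (ModSite.ringSh O)).inv), h, comp_zero]

end K182.TopRlim
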