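import Groth.Agent.SiteCmp.K578.Bound
import Groth.Agent.SiteCmp.K578.PushComp
import Groth.Agent.FSch.K182.TopRlim

/-!
# Vanishing of the cohomology sheaves of `RF Y` from vanishing of `Hom(P₁(fn V)[0], Y[j])` on a basis
-/

set_option autoImplicit false
universe w w₁ w₂ w' u v₁ v₂ v₃ v₄ u₁ u₂ u₃ u₄

open CategoryTheory CategoryTheory.Limits Opposite DerivedCategory TopologicalSpace

namespace K182.RFZero

open Groth.Agent.CohtopB Groth.Agent.CohtopB.TestSys K578.Bound K578.LComp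

section Abs

variable {A₁ : Type (u₁ + 1)} [Category.{u₁} A₁] [Abelian A₁] [HasDerivedCategory.{w₁} A₁]
  {A₂ : Type u₂} [Category.{v₂} A₂] [Abelian A₂] [HasDerivedCategory.{w₂} A₂]
  {C : Type u₃} [Category.{v₃} C] {P₁ : C ⥤ A₁}
  {D : Type u₄} [Category.{v₄} D] {K : GrothendieckTopology D} {P₂ : D ⥤ A₂} (hP₂ : TestSystem K P₂)
  {fn : D ⥤ C} {RF : DerivedCategory A₁ ⥤ DerivedCategory A₂} [RF.CommShift ℤ] [RF.IsTriangulated]
  (cmp : LocComp K P₁ P₂ fn RF)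

include hP₂ cmp in
/-- `H⁰(RF Y) = 0` if `Hom(P₁(fn V)[0], Y) = 0` for `V` in a basis. -/
theorem isZero_H0 (B' : D → Prop) (hB' : ∀ U : D, gen (⊤ : Sieve U) B' ∈ K U) (Y : DerivedCategory A₁)
    (h : ∀ V, B' V → ∀ ξ : (singleFunctor A₁ 0).obj (P₁.obj (fn.obj V)) ⟶ Y, ξ = 0) :
    IsZero ((homologyFunctor A₂ 0).obj (RF.obj Y)) := by
  refine hP₂.isZero _ fun U s => ?_
  let T2 : Sieve U :=
    { arrows := fun W g => ∃ ξ : (singleFunctor A₁ 0).obj (P₁.obj (fn.obj W)) ⟶ Y,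
        can₀ (cmp.η.app W ≫ RF.map ξ) = P₂.map g ≫ s
      downward_closed := by
        rintro W W' g ⟨ξ, h1⟩ k
        refine ⟨(singleFunctor A₁ 0).map (P₁.map (fn.map k)) ≫ ξ, ?_⟩
        have h5 := cmp.η.naturality k
        dsimp only [Functor.comp_map] at h5
        rw [RF.map_comp, ← reassoc_of% h5, can₀_precomp, h1, P₂.map_comp, Category.assoc] }
  have hT2 : T2 ∈ K U := by
    obtain ⟨T1, hT1, h1⟩ := loc_surj₀ hP₂ s
    refine K.transitive hT1 _ fun W g hg => ?_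
    obtain ⟨x, hx⟩ := h1 g hg
    obtain ⟨T3, hT3, h3⟩ := cmp.surj x
    refine K.superset_covering (fun W' g' hg' => ?_) hT3
    obtain ⟨ξ, hξ⟩ := h3 g' hg'
    refine ⟨ξ, ?_⟩
    rw [hξ, can₀_precomp, hx, P₂.map_comp, Category.assoc]
  refine eq_zero_of_gen hP₂ T2 B' (gen_mem_of_cover B' hB' T2 hT2) s ?_
  rintro W g ⟨ξ, h1⟩ hW
  rw [← h1, h W hW ξ, RF.map_zero, comp_zero, can₀_zero]

end Abs

section Top

variable {T₁ T₂ : TopCat.{u}} {O₁ : Sheaf (Opens.grothendieckTopology T₁) CommRingCat.{u}}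
  {O₂ : Sheaf (Opens.grothendieckTopology T₂) CommRingCat.{u}}
  (f : ModSite.RMor O₁ O₂) [SiteCmp.HasRpushD f]

attribute [local instance] HasDerivedCategory.standard

open K578.ModTest

/-- Vanishing of `H^j(Rf_* Y)`, `Y ∈ D^{≤ e}`, `j > e`, if the cohomology sheaves of `Y` are acyclic on a basis
of `T₁` containing the inverse images of the members of a basis of `T₂`. -/
theorem isZero_homology (A : ObjectProperty (ModSite.Mod O₁)) {B₁ : Set (Opens T₁)} (hB₁ : Opens.IsBasis B₁)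
    (hA : TopRlim.AcycOn O₁ A B₁) {B₂ : Set (Opens T₂)} (hB₂ : Opens.IsBasis B₂)
    (hf : ∀ V ∈ B₂, f.fn.obj V ∈ B₁) (Y : DerivedCategory (ModSite.Mod O₁)) (hY : WSerre.cohIn A Y)
    (e : ℤ) [Y.IsLE e] (j : ℤ) (hj : e < j) :
    IsZero ((homologyFunctor _ j).obj ((SiteCmp.RpushD f).obj Y)) := by
  letI := K578.Der.rpushCommShift f
  have := K578.Der.rpush_isTriangulated f
  have h0 : IsZero ((homologyFunctor _ 0).obj ((SiteCmp.RpushD f).obj (Y⟦j⟧))) := by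
    refine isZero_H0 (testSystem (ModSite.ringSh O₂)) (K578.PushComp.comp f) (fun V => V ∈ B₂) (fun U => ?_) _
      fun V hV ξ => ?_
    · obtain ⟨ι, Z, g, h1, h2, h3⟩ := TopRlim.exists_cover hB₂ U ⊤ ((Opens.grothendieckTopology T₂).top_mem U)
      exact gen_mem_of_ofArrows ⊤ _ Z g h1 h2 h3
    · exact TopRlim.hom_PM_eq_zero O₁ hB₁ hA _ 0 (fun F hF q hq => hA F hF _ (hf V hV) q hq) Y hY e j
        (by simpa using hj) ξ
  exact h0.of_iso ((((homologyFunctor _ 0).shiftIso j 0 j (by lia)).app _).symm ≪≫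
    (homologyFunctor _ 0).mapIso (((SiteCmp.RpushD f).commShiftIso j).symm.app _))

end Top

end K182.RFZero
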