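import Groth.Agent.ModSite.K296.Ab
import Groth.Agent.Gaga.H976.TM3

/-!
# Sections of filtered colimits of sheaves of modules come locally from a stage;
finite type modules on compact spaces and filtered colimits
-/

set_option autoImplicit false
set_option backward.defeqAttrib.useBackward true
set_option backward.isDefEq.respectTransparency false

universe u v w

open CategoryTheory CategoryTheory.Limits Opposite TopologicalSpace

namespace K182.ColimLoc

section Site

variable {C : Type u} [SmallCategory C] {J : GrothendieckTopology C} {K : Type u} [SmallCategory K] [IsFiltered K]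

/-- Sections of a filtered colimit of sheaves of abelian groups come locally from a stage. -/
theorem exists_local_ab {D : K ⥤ Sheaf J AddCommGrpCat.{u}} {c : Cocone D} (hc : IsColimit c) {V : C}
    (s : c.pt.obj.obj (op V)) :
    ∃ S ∈ J V, ∀ ⦃Y : C⦄ (f : Y ⟶ V), S f → ∃ (d : K) (x : (D.obj d).obj.obj (op Y)),
      (c.ι.app d).hom.app (op Y) x = c.pt.obj.map f.op s := by
  let E := colimit.cocone (D ⋙ sheafToPresheaf J AddCommGrpCat.{u})
  have hE : IsColimit E := colimit.isColimit _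
  let c' := Sheaf.sheafifyCocone E
  have hc' : IsColimit c' := Sheaf.isColimitSheafifyCocone E hE
  let e : c.pt ≅ c'.pt := hc.coconePointUniqueUpToIso hc'
  let s' : c'.pt.obj.obj (op V) := e.hom.hom.app (op V) s
  have hls : Presheaf.IsLocallySurjective J (toSheafify J E.pt) := inferInstance
  refine ⟨_, hls.imageSieve_mem (U := V) s', fun Y f hf => ?_⟩
  obtain ⟨y, hy⟩ := hf
  have hEY : IsColimit (((evaluation Cᵒᵖ AddCommGrpCat.{u}).obj (op Y)).mapCocone E) :=
    isColimitOfPreserves _ hE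
  obtain ⟨d, x, hx⟩ := Concrete.isColimit_exists_rep _ hEY y
  refine ⟨d, x, ?_⟩
  have h1 : c.ι.app d ≫ e.hom = c'.ι.app d := hc.comp_coconePointUniqueUpToIso_hom hc' d
  have h2 : (c'.ι.app d).hom = E.ι.app d ≫ toSheafify J E.pt := Sheaf.sheafifyCocone_ι_app_val E d
  have h3 : Function.Injective (e.hom.hom.app (op Y)) := by
    have : IsIso (e.hom.hom) := (sheafToPresheaf J _).map_isIso e.hom
    have : IsIso (e.hom.hom.app (op Y)) := inferInstance
    exact ((ConcreteCategory.isIso_iff_bijective _).1 this).1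
  apply h3
  have h4 : e.hom.hom.app (op Y) ((c.ι.app d).hom.app (op Y) x) = (c'.ι.app d).hom.app (op Y) x := by
    rw [← h1]; rfl
  have h5 : e.hom.hom.app (op Y) (c.pt.obj.map f.op s) = c'.pt.obj.map f.op s' :=
    NatTrans.naturality_apply e.hom.hom f.op s
  rw [h4, h5, h2]
  refine Eq.trans ?_ hy
  change (toSheafify J E.pt).app (op Y) ((E.ι.app d).app (op Y) x) = _
  congr 1

variable {R : Sheaf J RingCat.{u}}

/-- Sections of a filtered colimit of sheaves of modules come locally from a stage. -/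
theorem exists_local {D : K ⥤ SheafOfModules.{u} R} {c : Cocone D} (hc : IsColimit c) {V : C}
    (s : c.pt.val.obj (op V)) :
    ∃ S ∈ J V, ∀ ⦃Y : C⦄ (f : Y ⟶ V), S f → ∃ (d : K) (x : (D.obj d).val.obj (op Y)),
      (c.ι.app d).val.app (op Y) x = c.pt.val.restrictₛₗ f.op s := by
  have := K296.Ab.preservesColimitsOfShape_toSheaf R K
  exact exists_local_ab (isColimitOfPreserves (SheafOfModules.toSheaf.{u} R) hc) s

end Site

section Top

open Groth.Agent.Gaga.H976.TM0 Groth.Agent.Gaga.H976.TM1 Groth.Agent.Gaga.H976.TM2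
  Groth.Agent.Gaga.H976.TM3

variable {T : TopCat.{u}} {R : Sheaf (Opens.grothendieckTopology T) RingCat.{u}}
  {K : Type u} [SmallCategory K] [IsFiltered K]

lemma rs_app {M N : SheafOfModules.{u} R} (f : M ⟶ N) {U V : Opens T} (h : V ≤ U) (t : M.val.obj (op U)) :
    f.val.app (op V) (rs M h t) = rs N h (f.val.app (op U) t) :=
  app_res f (homOfLE h).op t

/-- Let `N` be of finite type near `x`, and `p : colim D ↠ N`. Some stage generates `N` near `x`. -/
theorem exists_gen_near {D : K ⥤ SheafOfModules.{u} R} {c : Cocone D} (hc : IsColimit c)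
    {N : SheafOfModules.{u} R} (p : c.pt ⟶ N) [Epi p] (x : T) (hx : FTAt N x) :
    ∃ (W : Opens T) (_ : x ∈ W) (d : K) (n : ℕ) (s : Fin n → N.val.obj (op W)), LGen N W s ∧
      ∀ k, ∃ y : (D.obj d).val.obj (op W), (c.ι.app d ≫ p).val.app (op W) y = s k := by
  obtain ⟨W, hxW, n, s, hs⟩ := hx
  have h1 : ∀ k : Fin n, ∃ (V : Opens T) (hV : V ≤ W) (_ : x ∈ V) (d : K) (y : (D.obj d).val.obj (op V)),
      (c.ι.app d ≫ p).val.app (op V) y = rs N hV (s k) := by
    intro k
    obtain ⟨S, hS, h⟩ := (epi_iff p).1 inferInstance W (s k)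
    obtain ⟨V, g, hg, hxV⟩ := hS x hxW
    obtain ⟨t, ht⟩ := h g hg
    obtain ⟨S', hS', h'⟩ := exists_local hc t
    obtain ⟨V', g', hg', hxV'⟩ := hS' x hxV
    obtain ⟨d, y, hy⟩ := h' g' hg'
    refine ⟨V', (leOfHom g').trans (leOfHom g), hxV', d, y, ?_⟩
    change p.val.app (op V') ((c.ι.app d).val.app (op V') y) = _
    rw [hy]
    refine (rs_app p (leOfHom g') t).trans ?_
    rw [ht]
    exact rs_rs N (leOfHom g) (leOfHom g') (s k)
  choose V hV hxV d y hy using h1
  obtain ⟨V₀, hV₀, hxV₀⟩ : ∃ V₀ : Opens T, (∀ k, V₀ ≤ V k) ∧ x ∈ V₀ := by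
    refine ⟨⟨⋂ k, (V k : Set T), isOpen_iInter_of_finite fun k => (V k).2⟩, fun k z hz => ?_, ?_⟩
    · exact Set.mem_iInter.1 hz k
    · exact Set.mem_iInter.2 hxV
  have hW₀ : V₀ ⊓ W ≤ W := inf_le_right
  classical
  obtain ⟨d₀, hd₀⟩ := IsFiltered.sup_objs_exists (Finset.univ.image d)
  refine ⟨V₀ ⊓ W, ⟨hxV₀, hxW⟩, d₀, n, fun k => rs N hW₀ (s k), ?_, fun k => ?_⟩
  · intro V' hV' t z hz
    obtain ⟨V'', h'', hz', cc, hcc⟩ := hs V' (hV'.trans hW₀) t z hz
    refine ⟨V'', h'', hz', cc, hcc.trans ?_⟩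
    refine Finset.sum_congr rfl fun j _ => ?_
    rw [rs_rs]
  · obtain ⟨a⟩ := hd₀ (X := d k) (Finset.mem_image_of_mem _ (Finset.mem_univ k))
    have hle : V₀ ⊓ W ≤ V k := inf_le_left.trans (hV₀ k)
    refine ⟨(D.map a).val.app _ (rs (D.obj (d k)) hle (y k)), ?_⟩
    have h2 : (c.ι.app d₀ ≫ p).val.app (op (V₀ ⊓ W)) ((D.map a).val.app _ (rs (D.obj (d k)) hle (y k))) =
        ((D.map a) ≫ c.ι.app d₀ ≫ p).val.app (op (V₀ ⊓ W)) (rs (D.obj (d k)) hle (y k)) := rfl
    rw [h2, c.w_assoc, rs_app, hy, rs_rs]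

/-- If `N` is of finite type on a compact space and `colim D ↠ N`, some stage maps onto `N`. -/
theorem exists_epi [CompactSpace T] {D : K ⥤ SheafOfModules.{u} R} {c : Cocone D} (hc : IsColimit c)
    {N : SheafOfModules.{u} R} (p : c.pt ⟶ N) [Epi p] (hN : N.IsFiniteType) :
    ∃ d : K, Epi (c.ι.app d ≫ p) := by
  rw [isFiniteType_iff] at hN
  choose W hW d n s hs y hy using fun x => exists_gen_near hc p x (hN x)
  obtain ⟨t, ht⟩ := isCompact_univ.elim_finite_subcover (fun x => (W x : Set T)) (fun x => (W x).2)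
    (fun x _ => Set.mem_iUnion.2 ⟨x, hW x⟩)
  classical
  obtain ⟨d₀, hd₀⟩ := IsFiltered.sup_objs_exists (t.image d)
  refine ⟨d₀, (epi_iff _).2 fun V v => ?_⟩
  refine ⟨⟨fun Y g => ∃ z : (D.obj d₀).val.obj (op Y), (c.ι.app d₀ ≫ p).val.app (op Y) z =
    N.val.restrictₛₗ g.op v, ?_⟩, ?_, fun Y g hg => hg⟩
  · rintro Y Z g ⟨z, hz⟩ h
    refine ⟨rs _ (leOfHom h) z, ?_⟩
    rw [rs_app, hz]
    exact rs_rs N (leOfHom g) (leOfHom h) v
  · intro x hx
    obtain ⟨x', hx't, hx'⟩ := Set.mem_iUnion₂.1 (ht (Set.mem_univ x))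
    have hxx : x ∈ V ⊓ W x' := ⟨hx, hx'⟩
    obtain ⟨V'', h'', hz', cc, hcc⟩ := hs x' (V ⊓ W x') inf_le_right (rs N inf_le_left v) x hxx
    refine ⟨V'', homOfLE (h''.trans inf_le_left), ?_, hz'⟩
    obtain ⟨a⟩ := hd₀ (X := d x') (Finset.mem_image_of_mem _ hx't)
    have hle : V'' ≤ W x' := h''.trans inf_le_right
    refine ⟨∑ j, cc j • (D.map a).val.app _ (rs (D.obj (d x')) hle (y x' j)), ?_⟩
    rw [app_sum]
    refine Eq.trans (Finset.sum_congr rfl fun j _ => ?_) (hcc.symm.trans ?_)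
    · rw [app_smul]
      congr 1
      have h2 : (c.ι.app d₀ ≫ p).val.app (op V'') ((D.map a).val.app _ (rs (D.obj (d x')) hle (y x' j))) =
        ((D.map a) ≫ c.ι.app d₀ ≫ p).val.app (op V'') (rs (D.obj (d x')) hle (y x' j)) := rfl
      rw [h2, c.w_assoc, rs_app, hy]
    · exact rs_rs N inf_le_left h'' v

end Top

end K182.ColimLoc
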