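import Groth.Agent.FSch.K182.KanLeg

/-!
# Exactness of the Kan extension of an exact functor from a class of objects to its ind-class
-/

set_option autoImplicit false
set_option backward.defeqAttrib.useBackward true
set_option backward.isDefEq.respectTransparency false
set_option linter.unusedSectionVars false

universe w v v₁ v₂ v₃ u u₁ u₂ u₃

namespace K182.KanExact

open CategoryTheory Category Limits K182.KanLeg

section

variable {J : Type w} [Category.{v} J] {D : Type u} [Category.{v₁} D] [Abelian D]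

lemma exact_of_evaluation (S : ShortComplex (J ⥤ D)) (h : ∀ j, (S.map ((evaluation J D).obj j)).Exact) :
    S.Exact := by
  rw [ShortComplex.exact_iff_isZero_homology, Functor.isZero_iff]
  intro j
  have h' := (ShortComplex.exact_iff_isZero_homology _).1 (h j)
  exact h'.of_iso (S.mapHomologyIso ((evaluation J D).obj j)).symm

lemma shortExact_of_evaluation (S : ShortComplex (J ⥤ D))
    (h : ∀ j, (S.map ((evaluation J D).obj j)).ShortExact) : S.ShortExact where
  exact := exact_of_evaluation S (fun j => (h j).exact)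
  mono_f := by
    have : ∀ j, Mono (S.f.app j) := fun j => (h j).mono_f
    exact NatTrans.mono_of_mono_app _
  epi_g := by
    have : ∀ j, Epi (S.g.app j) := fun j => (h j).epi_g
    exact NatTrans.epi_of_epi_app _

end

variable {C : Type u₁} [Category.{v₁} C] [Abelian C]

section Sub

variable (P : ObjectProperty C) [P.ContainsZero] [P.IsClosedUnderKernels] [P.IsClosedUnderCokernels]
  [P.IsClosedUnderFiniteProducts]

lemma preservesFiniteLimits_ι : PreservesFiniteLimits P.ι := by
  have := P.preservesKernels_ι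
  exact P.ι.preservesFiniteLimits_of_preservesKernels

lemma preservesFiniteColimits_ι : PreservesFiniteColimits P.ι := by
  have := P.preservesCokernels_ι
  exact P.ι.preservesFiniteColimits_of_preservesCokernels

/-- Short exactness in the full subcategory. -/
lemma shortExact_iff (S : ShortComplex P.FullSubcategory) : (S.map P.ι).ShortExact ↔ S.ShortExact := by
  have := preservesFiniteLimits_ι P
  have := preservesFiniteColimits_ι P
  refine ⟨fun h => ?_, fun h => h.map_of_exact P.ι⟩
  have h1 := h.mono_f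
  have h2 := h.epi_g
  exact { exact := (ShortComplex.exact_map_iff_of_faithful S P.ι).1 h.exact
          mono_f := P.ι.mono_of_mono_map h1
          epi_g := P.ι.epi_of_epi_map h2 }

end Sub

/-- Closure under kernels and zero implies closure under isomorphisms. -/
lemma closedUnderIso (Q : ObjectProperty C) [Q.ContainsZero] [Q.IsClosedUnderKernels] :
    Q.IsClosedUnderIsomorphisms where
  of_iso {X Y} e hX := by
    obtain ⟨Z, hZ, hQZ⟩ := ObjectProperty.exists_prop_of_containsZero Q
    have h : IsLimit (KernelFork.ofι (f := (0 : X ⟶ Z)) e.inv (by simp)) :=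
      KernelFork.IsLimit.ofι _ _ (fun g _ => g ≫ e.hom) (fun g _ => by simp) (fun g _ m hm => by
        rw [← cancel_mono e.inv, hm]; simp)
    exact Q.prop_of_isLimit_kernelFork h hX hQZ

lemma prop_biprod' (Q : ObjectProperty C) [Q.IsClosedUnderFiniteProducts] {X Y : C} (hX : Q X) (hY : Q Y) :
    Q (X ⊞ Y) := by
  refine Q.prop_of_isLimit (BinaryBiproduct.isLimit X Y) ?_
  rintro ⟨_ | _⟩
  · exact hX
  · exact hY

section

variable (Q : ObjectProperty C)

/-- The subobjects of `N` with underlying object in `Q`. -/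
def SubQ (N : C) : Type _ := {N' : Subobject N // Q (N' : C)}

noncomputable instance (N : C) : PartialOrder (SubQ Q N) := inferInstanceAs (PartialOrder {N' : Subobject N // Q (N' : C)})

/-- The tautological diagram. -/
noncomputable def diag (N : C) : SubQ Q N ⥤ C where
  obj j := (j.1 : C)
  map {i j} h := Subobject.ofLE i.1 j.1 (leOfHom h)

/-- The tautological cocone. -/
noncomputable def toN (N : C) : diag Q N ⟶ (Functor.const _).obj N where
  app j := j.1.arrow
  naturality i j h := by
    dsimp [diag]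
    rw [Subobject.ofLE_arrow, comp_id]

instance (N : C) (j : SubQ Q N) : Mono ((toN Q N).app j) := inferInstanceAs (Mono j.1.arrow)

omit [Abelian C] in
lemma diag_prop (N : C) (j : SubQ Q N) : Q ((diag Q N).obj j) := j.2

variable [Q.IsClosedUnderIsomorphisms] (P : ObjectProperty C)

/-- images in `P`-objects of `Q`-objects are `Q`-objects. -/
abbrev HImg : Prop := ∀ ⦃X N : C⦄ (φ : X ⟶ N), Q X → P N → Q (image φ)

/-- Maps from `Q`-objects can be lifted along epimorphisms of `P`-objects, after an epimorphism. -/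
abbrev HLift : Prop := ∀ ⦃N L X : C⦄ (p : N ⟶ L) [Epi p] (x : X ⟶ L), P N → P L → Q X →
  ∃ (X' : C) (_ : Q X') (q : X' ⟶ X) (y : X' ⟶ N), Epi q ∧ q ≫ x = y ≫ p

variable {Q P} (himg : HImg Q P)

include himg in
/-- Every map from a `Q`-object factors through a `Q`-subobject. -/
lemma exists_fac {X N : C} (φ : X ⟶ N) (hX : Q X) (hN : P N) :
    ∃ (j : SubQ Q N) (z : X ⟶ (diag Q N).obj j), z ≫ (toN Q N).app j = φ := by
  refine ⟨⟨Subobject.mk (image.ι φ), Q.prop_of_iso (Subobject.underlyingIso (image.ι φ)).symm (himg φ hX hN)⟩,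
    factorThruImage φ ≫ (Subobject.underlyingIso (image.ι φ)).inv, ?_⟩
  change _ ≫ (Subobject.mk (image.ι φ)).arrow = φ
  rw [assoc, Subobject.underlyingIso_arrow, image.fac]

include himg in
lemma isFiltered [Q.ContainsZero] [Q.IsClosedUnderFiniteProducts] (N : C) (hN : P N) : IsFiltered (SubQ Q N) := by
  have h0 : Nonempty (SubQ Q N) := by
    obtain ⟨Z, hZ, hQZ⟩ := ObjectProperty.exists_prop_of_containsZero Q
    exact ⟨(exists_fac himg (0 : Z ⟶ N) hQZ hN).choose⟩
  have h1 : IsDirectedOrder (SubQ Q N) := ⟨fun a b => by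
    obtain ⟨j, z, hz⟩ := exists_fac himg (biprod.desc a.1.arrow b.1.arrow) (prop_biprod' Q a.2 b.2) hN
    refine ⟨j, ?_, ?_⟩
    · exact Subobject.le_of_comm (biprod.inl ≫ z) (by
        rw [assoc]; erw [hz]; rw [biprod.inl_desc])
    · exact Subobject.le_of_comm (biprod.inr ≫ z) (by
        rw [assoc]; erw [hz]; rw [biprod.inr_desc])⟩
  infer_instance

end

section Small

variable (Q : ObjectProperty C) [LocallySmall.{w} C] [WellPowered.{w} C] (N : C)

instance : Small.{w} (SubQ Q N) := inferInstanceAs (Small.{w} {N' : Subobject N // Q (N' : C)})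

lemma essentiallySmall : EssentiallySmall.{w} (SubQ Q N) :=
  (essentiallySmall_iff_of_thin).2 inferInstance

variable (A' : Type u₃) [Category.{v₃} A'] [HasFilteredColimitsOfSize.{w, w} A'] [IsFiltered (SubQ Q N)]

lemma hasColimitsOfShape : HasColimitsOfShape (SubQ Q N) A' := by
  have := essentiallySmall.{w} Q N
  have : IsFiltered (SmallModel.{w} (SubQ Q N)) := IsFiltered.of_equivalence (equivSmallModel.{w} (SubQ Q N))
  exact hasColimitsOfShape_of_equivalence (equivSmallModel.{w} (SubQ Q N)).symm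

lemma hasExactColimitsOfShape [AB5OfSize.{w, w} A'] :
    haveI := hasColimitsOfShape.{w} Q N A'
    HasExactColimitsOfShape (SubQ Q N) A' := by
  have := essentiallySmall.{w} Q N
  have : IsFiltered (SmallModel.{w} (SubQ Q N)) := IsFiltered.of_equivalence (equivSmallModel.{w} (SubQ Q N))
  exact HasExactColimitsOfShape.of_domain_equivalence A' (equivSmallModel.{w} (SubQ Q N)).symm

end Small

section Main

variable (Q P : ObjectProperty C) [Q.ContainsZero] [Q.IsClosedUnderKernels] [Q.IsClosedUnderCokernels]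
  [Q.IsClosedUnderFiniteProducts] [P.ContainsZero] [P.IsClosedUnderKernels] [P.IsClosedUnderCokernels]
  [P.IsClosedUnderFiniteProducts]

section Fun

variable {N Lo : C} (p : N ⟶ Lo)

/-- The transformation `N' ⟶ L`. -/
noncomputable def τ : diag Q N ⟶ (Functor.const _).obj Lo := toN Q N ≫ (Functor.const _).map p

omit [Q.ContainsZero] [Q.IsClosedUnderKernels] [Q.IsClosedUnderCokernels]
  [Q.IsClosedUnderFiniteProducts] in
lemma τ_app (j : SubQ Q N) : (τ Q p).app j = (toN Q N).app j ≫ p := rfl

/-- The kernels of `N' ⟶ L`. -/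
noncomputable abbrev K : SubQ Q N ⥤ C := kernel (τ Q p)

/-- The images of `N' ⟶ L`. -/
noncomputable abbrev I : SubQ Q N ⥤ C := cokernel (kernel.ι (τ Q p))

lemma ker_w (j : SubQ Q N) : (kernel.ι (τ Q p)).app j ≫ (τ Q p).app j = 0 := by
  rw [← NatTrans.comp_app, kernel.condition]; rfl

lemma coker_w (j : SubQ Q N) : (kernel.ι (τ Q p)).app j ≫ (cokernel.π (kernel.ι (τ Q p))).app j = 0 := by
  rw [← NatTrans.comp_app, cokernel.condition]; rfl

/-- The kernel fork at `j`. -/
noncomputable def isKer (j : SubQ Q N) : IsLimit (KernelFork.ofι (f := (τ Q p).app j) ((kernel.ι (τ Q p)).app j)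
    (ker_w Q p j)) :=
  KernelFork.mapIsLimit _ (kernelIsKernel (τ Q p)) ((evaluation _ _).obj j)

/-- The cokernel cofork at `j`. -/
noncomputable def isCoker (j : SubQ Q N) : IsColimit (CokernelCofork.ofπ (f := (kernel.ι (τ Q p)).app j)
    ((cokernel.π (kernel.ι (τ Q p))).app j) (coker_w Q p j)) :=
  CokernelCofork.mapIsColimit _ (cokernelIsCokernel (kernel.ι (τ Q p))) ((evaluation _ _).obj j)

variable {Q P} (himg : HImg Q P) (hL : P Lo)

include himg hL in
lemma K_prop (j : SubQ Q N) : Q ((K Q p).obj j) := by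
  have h0 : (kernel.ι (τ Q p)).app j ≫ factorThruImage ((τ Q p).app j) = 0 := by
    rw [← cancel_mono (image.ι ((τ Q p).app j)), assoc, image.fac, zero_comp, ker_w]
  exact Q.prop_of_isLimit_kernelFork (isKernelOfComp (f := factorThruImage ((τ Q p).app j))
    (image.ι ((τ Q p).app j)) ((τ Q p).app j) (isKer Q p j) h0 (image.fac _)) j.2 (himg _ j.2 hL)

include himg hL in
lemma I_prop (j : SubQ Q N) : Q ((I Q p).obj j) :=
  Q.prop_of_isColimit_cokernelCofork (isCoker Q p j) (K_prop p himg hL j) j.2

variable (Q)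

/-- The map from the image to `L`. -/
noncomputable def ρ : I Q p ⟶ (Functor.const _).obj Lo := cokernel.desc _ (τ Q p) (kernel.condition _)

lemma π_ρ (j : SubQ Q N) : (cokernel.π (kernel.ι (τ Q p))).app j ≫ (ρ Q p).app j = (τ Q p).app j := by
  rw [← NatTrans.comp_app, ρ, cokernel.π_desc]

instance (j : SubQ Q N) : Mono ((ρ Q p).app j) := by
  have : Mono (ρ Q p) := inferInstanceAs (Mono (Abelian.factorThruCoimage (τ Q p)))
  infer_instance

instance (j : SubQ Q N) : Epi ((cokernel.π (kernel.ι (τ Q p))).app j) := inferInstance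

instance (j : SubQ Q N) : Mono ((kernel.ι (τ Q p)).app j) := inferInstance

variable {M : C} (i : M ⟶ N) (hi : i ≫ p = 0) (hM : IsLimit (KernelFork.ofι i hi))

/-- The map from the kernel to `M`. -/
noncomputable def lam (j : SubQ Q N) : (K Q p).obj j ⟶ M :=
  (KernelFork.IsLimit.lift' hM ((kernel.ι (τ Q p)).app j ≫ (toN Q N).app j) (by
    rw [assoc, ← τ_app, ker_w])).1

lemma lam_i (j : SubQ Q N) : lam Q p i hi hM j ≫ i = (kernel.ι (τ Q p)).app j ≫ (toN Q N).app j :=
  (KernelFork.IsLimit.lift' hM ((kernel.ι (τ Q p)).app j ≫ (toN Q N).app j) (by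
    rw [assoc, ← τ_app, ker_w])).2

instance (j : SubQ Q N) : Mono (lam Q p i hi hM j) := by
  have : Mono (lam Q p i hi hM j ≫ i) := by
    rw [lam_i]
    infer_instance
  exact mono_of_mono _ i

lemma lam_nat [Mono i] {j k : SubQ Q N} (a : j ⟶ k) : (K Q p).map a ≫ lam Q p i hi hM k = lam Q p i hi hM j := by
  rw [← cancel_mono i, assoc, lam_i, lam_i, NatTrans.naturality_assoc, (toN Q N).naturality]
  erw [comp_id]

end Fun

variable {Q P} (hQP : Q ≤ P) (himg : HImg Q P) (hlift : HLift Q P)

section

variable {N Lo M : C} (p : N ⟶ Lo) (i : M ⟶ N) (hi : i ≫ p = 0) (hM : IsLimit (KernelFork.ofι i hi)) [Mono i]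

include himg in
lemma exists_fac_K {X : C} (hX : Q X) (hN : P N) (x : X ⟶ M) :
    ∃ (j : SubQ Q N) (z : X ⟶ (K Q p).obj j), z ≫ lam Q p i hi hM j = x := by
  have := closedUnderIso Q
  obtain ⟨j, z, hz⟩ := exists_fac himg (x ≫ i) hX hN
  have h1 : z ≫ (τ Q p).app j = 0 := by
    rw [τ_app, reassoc_of% hz, hi, comp_zero]
  obtain ⟨z', hz'⟩ := KernelFork.IsLimit.lift' (isKer Q p j) z h1
  refine ⟨j, z', ?_⟩
  have hz'' : z' ≫ (kernel.ι (τ Q p)).app j = z := hz'
  rw [← cancel_mono i, assoc, lam_i, reassoc_of% hz'', hz]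

include himg hlift in
lemma exists_fac_I {X : C} (hX : Q X) (hN : P N) (hL : P Lo) [Epi p] (x : X ⟶ Lo) :
    ∃ (j : SubQ Q N) (z : X ⟶ (I Q p).obj j), z ≫ (ρ Q p).app j = x := by
  obtain ⟨X', hX', q, y, hq, hy⟩ := hlift p x hN hL hX
  have := closedUnderIso Q
  obtain ⟨j, z, hz⟩ := exists_fac himg y hX' hN
  have h : (z ≫ (cokernel.π (kernel.ι (τ Q p))).app j) ≫ (ρ Q p).app j = q ≫ x := by
    rw [assoc, π_ρ, τ_app, reassoc_of% hz, hy]
  have : StrongEpi q := strongEpi_of_epi q
  have sq : CommSq (z ≫ (cokernel.π (kernel.ι (τ Q p))).app j) q ((ρ Q p).app j) x := ⟨h⟩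
  exact ⟨j, sq.lift, sq.fac_right⟩

end

section Exact

variable {A' : Type u₃} [Category.{v₃} A'] [Abelian A'] (G : Q.FullSubcategory ⥤ A')
  [(ObjectProperty.ιOfLE hQP).HasPointwiseLeftKanExtension G]

variable {S : ShortComplex P.FullSubcategory} (hS : (S.map P.ι).ShortExact)

include hS in
lemma hi' : S.f.hom ≫ S.g.hom = 0 := (S.map P.ι).zero

/-- The functor `N' ↦ N'`. -/
noncomputable abbrev F₂ (N : C) : SubQ Q N ⥤ Q.FullSubcategory := Q.lift (diag Q N) (diag_prop Q N)

lemma hm₂ (N : P.FullSubcategory) {i j : SubQ Q N.obj} (a : i ⟶ j) :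
    (ObjectProperty.ιOfLE hQP).map ((F₂ N.obj).map a) ≫ P.homMk ((toN Q N.obj).app j) =
      P.homMk ((toN Q N.obj).app i) := by
  ext
  exact ((toN Q N.obj).naturality a).trans (Category.comp_id _)

/-- The cocone for `N`. -/
noncomputable def c₂ (N : P.FullSubcategory) : Cocone (F₂ (Q := Q) N.obj ⋙ G) :=
  cocone (ObjectProperty.ιOfLE hQP) G (F₂ N.obj) N (fun j => P.homMk ((toN Q N.obj).app j)) (hm₂ hQP N)

/-- `G(N') → (Lan G)(N)`. -/
noncomputable def isColimit₂ (N : P.FullSubcategory) [IsFiltered (SubQ Q N.obj)] :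
    IsColimit (c₂ hQP G N) := by
  have := closedUnderIso Q
  refine isColimit _ G _ N _ (hm₂ hQP N) (fun j => ?_) (fun Y y => ?_)
  · refine P.ι.mono_of_mono_map ?_
    exact inferInstanceAs (Mono ((toN Q N.obj).app j))
  · obtain ⟨j, z, hz⟩ := exists_fac himg y.hom Y.2 N.2
    exact ⟨j, P.homMk z, by ext; exact hz⟩

section Three

variable {M N Lo : P.FullSubcategory} (f : M ⟶ N) (g : N ⟶ Lo) [Mono f.hom] [Epi g.hom] (hi : f.hom ≫ g.hom = 0)
  (hM : IsLimit (KernelFork.ofι f.hom hi)) [IsFiltered (SubQ Q N.obj)]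

/-- The functor `N' ↦ ker(N' → L)`. -/
noncomputable abbrev F₁ : SubQ Q N.obj ⥤ Q.FullSubcategory := Q.lift (K Q g.hom) (K_prop g.hom himg Lo.2)

/-- The functor `N' ↦ im(N' → L)`. -/
noncomputable abbrev F₃ : SubQ Q N.obj ⥤ Q.FullSubcategory := Q.lift (I Q g.hom) (I_prop g.hom himg Lo.2)

lemma hm₁ {i j : SubQ Q N.obj} (a : i ⟶ j) :
    (ObjectProperty.ιOfLE hQP).map ((F₁ himg g).map a) ≫ P.homMk (Y := M) (lam Q g.hom f.hom hi hM j) =
      P.homMk (lam Q g.hom f.hom hi hM i) := by
  ext
  exact lam_nat Q g.hom f.hom hi hM a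

lemma hm₃ {i j : SubQ Q N.obj} (a : i ⟶ j) :
    (ObjectProperty.ιOfLE hQP).map ((F₃ himg g).map a) ≫ P.homMk ((ρ Q g.hom).app j) =
      P.homMk ((ρ Q g.hom).app i) := by
  ext
  exact ((ρ Q g.hom).naturality a).trans (Category.comp_id _)

/-- The cocone for `M`. -/
noncomputable def c₁ : Cocone (F₁ himg g ⋙ G) :=
  cocone (ObjectProperty.ιOfLE hQP) G (F₁ himg g) M
      (fun j => P.homMk (lam Q g.hom f.hom hi hM j)) (hm₁ hQP himg f g hi hM)

/-- The cocone for `L`. -/
noncomputable def c₃ : Cocone (F₃ himg g ⋙ G) :=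
  cocone (ObjectProperty.ιOfLE hQP) G (F₃ himg g) Lo
      (fun j => P.homMk ((ρ Q g.hom).app j)) (hm₃ hQP himg g)

/-- `(Lan G)(M)` as a colimit of `G(ker(N' → L))`. -/
noncomputable def isColimit₁ :
    IsColimit (c₁ hQP himg G f g hi hM) := by
  refine isColimit _ G _ M _ (hm₁ hQP himg f g hi hM) (fun j => ?_) (fun Y y => ?_)
  · refine P.ι.mono_of_mono_map ?_
    exact inferInstanceAs (Mono (lam Q g.hom f.hom hi hM j))
  · obtain ⟨j, z, hz⟩ := exists_fac_K himg g.hom f.hom hi hM Y.2 N.2 y.hom
    exact ⟨j, P.homMk z, by ext; exact hz⟩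

include hlift in
/-- `(Lan G)(L)` as a colimit of `G(im(N' → L))`. -/
noncomputable def isColimit₃ :
    IsColimit (c₃ hQP himg G g) := by
  refine isColimit _ G _ Lo _ (hm₃ hQP himg g) (fun j => ?_) (fun Y y => ?_)
  · refine P.ι.mono_of_mono_map ?_
    exact inferInstanceAs (Mono ((ρ Q g.hom).app j))
  · obtain ⟨j, z, hz⟩ := exists_fac_I himg hlift g.hom Y.2 N.2 Lo.2 y.hom
    exact ⟨j, P.homMk z, by ext; exact hz⟩

/-- The short complex of functors `SubQ ⥤ Q`. -/
noncomputable def SC [PreservesFiniteLimits G] [PreservesFiniteColimits G] : ShortComplex (SubQ Q N.obj ⥤ A') where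
  X₁ := F₁ himg g ⋙ G
  X₂ := F₂ N.obj ⋙ G
  X₃ := F₃ himg g ⋙ G
  f := Functor.whiskerRight { app := fun j => Q.homMk ((kernel.ι (τ Q g.hom)).app j)
                              naturality := fun i j a => by
                                ext
                                exact (kernel.ι (τ Q g.hom)).naturality a } G
  g := Functor.whiskerRight { app := fun j => Q.homMk ((cokernel.π (kernel.ι (τ Q g.hom))).app j)
                              naturality := fun i j a => by
                                ext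
                                exact (cokernel.π (kernel.ι (τ Q g.hom))).naturality a } G
  zero := by
    ext j
    have h : (Q.homMk ((kernel.ι (τ Q g.hom)).app j) : (F₁ himg g).obj j ⟶ (F₂ N.obj).obj j) ≫
        (Q.homMk ((cokernel.π (kernel.ι (τ Q g.hom))).app j) : (F₂ N.obj).obj j ⟶ (F₃ himg g).obj j) = 0 := by
      ext
      exact coker_w Q g.hom j
    have := G.additive_of_preserves_binary_products
    exact (G.map_comp _ _).symm.trans ((congrArg G.map h).trans (G.map_zero _ _))

/-- The short complex in the full subcategory. -/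
noncomputable def T (j : SubQ Q N.obj) : ShortComplex Q.FullSubcategory where
  X₁ := (F₁ himg g).obj j
  X₂ := (F₂ N.obj).obj j
  X₃ := (F₃ himg g).obj j
  f := Q.homMk ((kernel.ι (τ Q g.hom)).app j)
  g := Q.homMk ((cokernel.π (kernel.ι (τ Q g.hom))).app j)
  zero := by
    ext
    exact coker_w Q g.hom j

lemma T_shortExact (j : SubQ Q N.obj) : (T himg g j).ShortExact := by
  rw [← shortExact_iff]
  exact { exact := ShortComplex.exact_of_g_is_cokernel _ (isCoker Q g.hom j)
          mono_f := inferInstanceAs (Mono ((kernel.ι (τ Q g.hom)).app j))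
          epi_g := inferInstanceAs (Epi ((cokernel.π (kernel.ι (τ Q g.hom))).app j)) }

lemma SC_shortExact [PreservesFiniteLimits G] [PreservesFiniteColimits G] : (SC himg G g).ShortExact :=
  shortExact_of_evaluation _ fun j => by
    have := G.additive_of_preserves_binary_products
    exact (T_shortExact himg g j).map_of_exact G

end Three

include himg hlift in
/-- The Kan extension preserves short exact sequences. -/
theorem map_shortExact [PreservesFiniteLimits G] [PreservesFiniteColimits G]
    [LocallySmall.{w} C] [WellPowered.{w} C] [HasFilteredColimitsOfSize.{w, w} A'] [AB5OfSize.{w, w} A']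
    [((ObjectProperty.ιOfLE hQP).pointwiseLeftKanExtension G).PreservesZeroMorphisms]
    (S : ShortComplex P.FullSubcategory) (hS : S.ShortExact) :
    (S.map ((ObjectProperty.ιOfLE hQP).pointwiseLeftKanExtension G)).ShortExact := by
  have hS' := (shortExact_iff P S).2 hS
  have : Mono S.f.hom := hS'.mono_f
  have : Epi S.g.hom := hS'.epi_g
  have hi : S.f.hom ≫ S.g.hom = 0 := (S.map P.ι).zero
  have hM : IsLimit (KernelFork.ofι S.f.hom hi) := hS'.fIsKernel
  have := closedUnderIso Q
  have : IsFiltered (SubQ Q S.X₂.obj) := isFiltered himg S.X₂.obj S.X₂.2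
  have := hasColimitsOfShape.{w} Q S.X₂.obj A'
  have := hasExactColimitsOfShape.{w} Q S.X₂.obj A'
  have h := SC_shortExact himg G S.g
  have e1 := isColimit₁ hQP himg G S.f S.g hi hM
  have e2 := isColimit₂ hQP himg G S.X₂
  have e3 := isColimit₃ hQP himg hlift G S.g
  have hf : ∀ j, (c₁ hQP himg G S.f S.g hi hM).ι.app j ≫
        ((ObjectProperty.ιOfLE hQP).pointwiseLeftKanExtension G).map S.f =
      (SC himg G S.g).f.app j ≫ (c₂ hQP G S.X₂).ι.app j := by
    intro j
    refine (leg_map _ _ _ _).trans (Eq.trans ?_ (map_leg (ObjectProperty.ιOfLE hQP) G (T himg S.g j).f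
      (P.homMk ((toN Q S.X₂.obj).app j))).symm)
    congr 1
    ext
    exact lam_i Q S.g.hom S.f.hom hi hM j
  have hg : ∀ j, (c₂ hQP G S.X₂).ι.app j ≫
        ((ObjectProperty.ιOfLE hQP).pointwiseLeftKanExtension G).map S.g =
      (SC himg G S.g).g.app j ≫ (c₃ hQP himg G S.g).ι.app j := by
    intro j
    refine (leg_map _ _ _ _).trans (Eq.trans ?_ (map_leg (ObjectProperty.ιOfLE hQP) G (T himg S.g j).g
      (P.homMk ((ρ Q S.g.hom).app j))).symm)
    congr 1
    ext
    exact (π_ρ Q S.g.hom j).symm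
  have hmono := h.mono_f
  have hepi := h.epi_g
  exact { exact := colim.exact_mapShortComplex h.exact e1 e2 e3 _ _ hf hg
          mono_f := colim.map_mono' (SC himg G S.g).f e1 e2 _ hf
          epi_g := colim.map_epi' (SC himg G S.g).g _ e3 _ hg }

include himg hlift in
/-- The Kan extension is exact. -/
theorem exact [PreservesFiniteLimits G] [PreservesFiniteColimits G]
    [LocallySmall.{w} C] [WellPowered.{w} C] [HasFilteredColimitsOfSize.{w, w} A'] [AB5OfSize.{w, w} A'] :
    PreservesFiniteLimits ((ObjectProperty.ιOfLE hQP).pointwiseLeftKanExtension G) ∧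
      PreservesFiniteColimits ((ObjectProperty.ιOfLE hQP).pointwiseLeftKanExtension G) := by
  have := G.additive_of_preserves_binary_products
  have : (ObjectProperty.ιOfLE hQP).Additive := ⟨rfl⟩
  have : ((ObjectProperty.ιOfLE hQP).pointwiseLeftKanExtension G).Additive := additive _ _
  exact ((Functor.exact_tfae _).out 0 3).1 (map_shortExact hQP himg hlift G)

end Exact

end Main

end K182.KanExact
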