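import Groth.Agent.FSch.K180.IndUnion
import Groth.Agent.FSch.K182.KanExact

/-!
# The ind-class of a coherent-like class: closure instances, images, lifting, presentations by monos
-/

set_option autoImplicit false
set_option backward.defeqAttrib.useBackward true
set_option backward.isDefEq.respectTransparency false

universe v u

namespace K182.IndKan

open CategoryTheory Category Limits K180.IndUnion K182.KanExact

variable {C : Type u} [Category.{v} C] [Abelian C] [IsGrothendieckAbelian.{v} C]
  {Q : ObjectProperty C} (hQ : CohCls Q)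

include hQ

omit [IsGrothendieckAbelian.{v} C] in
lemma containsZero_ind : (ObjectProperty.ind.{v} Q).ContainsZero :=
  ⟨⟨_, isZero_zero C, ObjectProperty.le_ind Q _ (hQ.zero (isZero_zero C))⟩⟩

lemma closedUnderKernels_ind : (ObjectProperty.ind.{v} Q).IsClosedUnderKernels where
  kernels_le := by
    rintro _ ⟨f, k, hk, h1, h2⟩
    exact ObjectProperty.prop_of_iso _ (IsLimit.conePointUniqueUpToIso (limit.isLimit _) hk) (hQ.ind_kernel f h1 h2)

lemma closedUnderCokernels_ind : (ObjectProperty.ind.{v} Q).IsClosedUnderCokernels where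
  cokernels_le := by
    rintro _ ⟨f, k, hk, h1, h2⟩
    exact ObjectProperty.prop_of_iso _ (IsColimit.coconePointUniqueUpToIso (colimit.isColimit _) hk)
      (hQ.ind_cokernel f h1 h2)

omit hQ in
lemma closedUnderBinaryProducts {P : ObjectProperty C} [P.IsClosedUnderIsomorphisms]
    (h : ∀ {A B : C}, P A → P B → P (A ⊞ B)) : P.IsClosedUnderLimitsOfShape (Discrete WalkingPair) where
  limitsOfShape_le := by
    rintro X ⟨p⟩
    have h1 : P (p.diag.obj ⟨WalkingPair.left⟩ ⊞ p.diag.obj ⟨WalkingPair.right⟩) :=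
      h (p.prop_diag_obj _) (p.prop_diag_obj _)
    have e : X ≅ p.diag.obj ⟨WalkingPair.left⟩ ⨯ p.diag.obj ⟨WalkingPair.right⟩ :=
      p.isLimit.conePointUniqueUpToIso (limit.isLimit _) ≪≫ HasLimit.isoOfNatIso (diagramIsoPair _)
    exact P.prop_of_iso ((biprod.isoProd _ _) ≪≫ e.symm) h1

lemma closedUnderFiniteProducts_ind : (ObjectProperty.ind.{v} Q).IsClosedUnderFiniteProducts := by
  have := closedUnderBinaryProducts (P := ObjectProperty.ind.{v} Q) (fun h1 h2 => hQ.ind_biprod h1 h2)
  have := containsZero_ind hQ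
  exact ObjectProperty.IsClosedUnderFiniteProducts.mk'

lemma himg : HImg Q (ObjectProperty.ind.{v} Q) := fun _ _ φ h1 h2 =>
  hQ.img (factorThruImage φ) (image.ι φ) h1 h2

lemma hlift (hfg : ∀ {X : C}, Q X → ∀ {J : Type v} [SmallCategory J] [IsFiltered J] {D : J ⥤ C} {c : Cocone D}
    (_ : IsColimit c) (p : c.pt ⟶ X) [Epi p], ∃ j, Epi (c.ι.app j ≫ p)) :
    HLift Q (ObjectProperty.ind.{v} Q) := by
  intro N L X p _ x hN hL hX
  have hXi : ObjectProperty.ind.{v} Q X := ObjectProperty.le_ind Q _ hX
  have hY : ObjectProperty.ind.{v} Q (pullback x p) := by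
    have := closedUnderKernels_ind hQ
    exact (ObjectProperty.ind.{v} Q).prop_of_isLimit_kernelFork
      (Abelian.PullbackToBiproductIsKernel.isLimitPullbackToBiproduct x p) (hQ.ind_biprod hXi hN) hL
  obtain ⟨J, _, _, pres, hJ⟩ := hY
  obtain ⟨j, hj⟩ := hfg hX pres.isColimit (pullback.fst x p)
  exact ⟨pres.diag.obj j, hJ j, pres.ι.app j ≫ pullback.fst x p, pres.ι.app j ≫ pullback.snd x p, hj, by
    rw [assoc, assoc, pullback.condition]⟩

omit hQ in
/-- An object which is the supremum of a directed set of subobjects satisfying `Q` has a presentation by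
monomorphisms from objects satisfying `Q`. -/
theorem presentation_of_directedOn {X : C} (S : Set (Subobject X)) (hne : S.Nonempty) (hdir : DirectedOn (· ≤ ·) S)
    (hS : ∀ A ∈ S, Q (A : C)) (hsup : sSup S = ⊤) :
    ∃ (J : Type v) (_ : SmallCategory J) (_ : IsFiltered J) (pres : ColimitPresentation J X),
      (∀ j : J, Q (pres.diag.obj j)) ∧ ∀ j : J, Mono (pres.ι.app j) := by
  obtain ⟨J, ⟨e⟩⟩ : ∃ J : Type v, Nonempty (J ≃ S) := ⟨Shrink.{v} S, ⟨(equivShrink S).symm⟩⟩
  let _ : Preorder J := Preorder.lift (fun j => (e j : Subobject X))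
  obtain ⟨A₀, hA₀⟩ := hne
  have : Nonempty J := ⟨e.symm ⟨A₀, hA₀⟩⟩
  have : IsDirected J (· ≤ ·) := ⟨fun a b => by
    obtain ⟨B, hB, h1, h2⟩ := hdir _ (e a).2 _ (e b).2
    refine ⟨e.symm ⟨B, hB⟩, ?_, ?_⟩
    · change ((e a : Subobject X)) ≤ ((e (e.symm ⟨B, hB⟩) : S) : Subobject X)
      rw [Equiv.apply_symm_apply]
      exact h1
    · change ((e b : Subobject X)) ≤ ((e (e.symm ⟨B, hB⟩) : S) : Subobject X)
      rw [Equiv.apply_symm_apply]
      exact h2⟩
  have : IsFiltered J := inferInstance
  let F : J ⥤ MonoOver X :=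
    (Monotone.functor (f := fun j : J => (e j : Subobject X)) (fun _ _ h => h)) ⋙
      Subobject.representative
  let c : Cocone (F ⋙ MonoOver.forget X) :=
    { pt := Over.mk (𝟙 X)
      ι := { app := fun j => Over.homMk (F.obj j).obj.hom (by
               change (F.obj j).obj.hom ≫ 𝟙 X = (F.obj j).obj.hom
               rw [Category.comp_id])
             naturality := fun j k f => by
               ext
               change (F.map f).hom.left ≫ (F.obj k).obj.hom = (F.obj j).obj.hom ≫ 𝟙 X
               rw [Category.comp_id]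
               exact Over.w (F.map f).hom } }
  have hm : Mono c.pt.hom := inferInstanceAs (Mono (𝟙 X))
  have hsup' : Subobject.mk c.pt.hom = ⨆ j, Subobject.mk (F.obj j).obj.hom := by
    have h1 : Subobject.mk c.pt.hom = ⊤ := (Subobject.isIso_iff_mk_eq_top _).1
      (inferInstanceAs (IsIso (𝟙 X)))
    rw [h1, eq_comm, eq_top_iff, ← hsup]
    apply sSup_le
    intro A hA
    have h2 : Subobject.mk (F.obj (e.symm ⟨A, hA⟩)).obj.hom = A := by
      change Subobject.mk (Subobject.arrow ((e (e.symm ⟨A, hA⟩) : S) : Subobject X)) = A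
      rw [Subobject.mk_arrow, Equiv.apply_symm_apply]
    exact h2.ge.trans (le_iSup (fun j => Subobject.mk (F.obj j).obj.hom) (e.symm ⟨A, hA⟩))
  have hc := IsGrothendieckAbelian.isColimitMapCoconeOfSubobjectMkEqISup F c hsup'
  refine ⟨J, inferInstance, inferInstance, ⟨_, _, hc⟩, fun j => hS _ (e j).2, fun j => ?_⟩
  exact inferInstanceAs (Mono (F.obj j).obj.hom)

/-- A presentation of an ind-object by a directed system of subobjects. -/
theorem exists_mono_presentation {X : C} (hX : ObjectProperty.ind.{v} Q X) :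
    ∃ (J : Type v) (_ : SmallCategory J) (_ : IsFiltered J) (pres : ColimitPresentation J X),
      (∀ j : J, Q (pres.diag.obj j)) ∧ ∀ j : J, Mono (pres.ι.app j) := by
  obtain ⟨h1, h2⟩ := hQ.ind_iff.1 hX
  refine presentation_of_directedOn {A : Subobject X | Q (A : C)} ?_ ?_ (fun A hA => hA) h2
  · have := hQ.iso
    refine ⟨⊥, hQ.zero ?_⟩
    exact IsZero.of_iso (isZero_zero C) (Subobject.botCoeIsoZero)
  · intro A hA B hB
    obtain ⟨D, hD, hAD, hBD⟩ := hQ.exists_ge h1 A B hA hB
    exact ⟨D, hD, hAD, hBD⟩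

end K182.IndKan
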