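import Groth.Agent.FSch.K182.FBound
import Groth.Agent.FSch.K182.RFZero
import Groth.Agent.FSch.K182.IndKan
import Groth.Agent.FSch.K182.ColimLoc
import Groth.Agent.SiteCmp.K578.Der
import Groth.Prelude.Def_FSch6

/-!
# S17062, S17067, S17074, S19542 from acyclicity on affines and the closure properties of coherent modules
-/

set_option autoImplicit false
open CategoryTheory CategoryTheory.Limits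
universe v' u' u
attribute [local instance] HasDerivedCategory.standard
open FSch AlgebraicGeometry TopologicalSpace

namespace K182.Cores

/-- The class of ind-coherent modules. -/
abbrev IndCoh (𝔛 : FSch.Sys.{u}) (h : 𝔛.IsFormal) : ObjectProperty (FSch.ModF 𝔛 h) :=
  ObjectProperty.ind.{u} fun 𝔊 : FSch.ModF 𝔛 h => FSch.IsCohF 𝔛 h 𝔊

variable (𝔛 : FSch.Sys.{u}) (h𝔛 : 𝔛.IsLocNoethFormal)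

theorem bound (hA : TopRlim.AcycOn (𝔛.Osh h𝔛.1) (IndCoh 𝔛 h𝔛.1) (FBound.affs 𝔛)) [CompactSpace (𝔛.X 0)] :
    ∃ e : ℕ, ∀ (G : DerivedCategory (FSch.ModF 𝔛 h𝔛.1)),
      (∀ i : ℤ, (ObjectProperty.ind.{u} fun 𝔊 : FSch.ModF 𝔛 h𝔛.1 => FSch.IsCohF 𝔛 h𝔛.1 𝔊) (SiteCmp.HMod G i)) →
      ∀ i₀ : ℤ, (∀ i : ℤ, i₀ ≤ i → IsZero (SiteCmp.HMod G i)) →
        ∀ i : ℤ, i₀ + e ≤ i →
          Subsingleton (SiteCmp.inD (𝔛.Osh h𝔛.1) (FSch.unitF 𝔛 h𝔛.1) ⟶ (shiftFunctor (DerivedCategory (FSch.ModF 𝔛 h𝔛.1)) i).obj G) :=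
  FBound.exists_bound_hom 𝔛 h𝔛 _ hA

theorem affine (hA : TopRlim.AcycOn (𝔛.Osh h𝔛.1) (IndCoh 𝔛 h𝔛.1) (FBound.affs 𝔛))
    (𝔜 : FSch.Sys.{u}) (h𝔜 : 𝔜.IsLocNoethFormal)
    (g : 𝔛 ⟶ 𝔜) [AlgebraicGeometry.IsAffineHom ((g : FSch.Hom 𝔛 𝔜).app 0)]
    [SiteCmp.HasRpushD (FSch.homMor g h𝔛.1 h𝔜.1)] (G : DerivedCategory (FSch.ModF 𝔛 h𝔛.1))
    (hG : ∀ i : ℤ, (ObjectProperty.ind.{u} fun 𝔊 : FSch.ModF 𝔛 h𝔛.1 => FSch.IsCohF 𝔛 h𝔛.1 𝔊) (SiteCmp.HMod G i)) (e : ℤ) (he : ∀ i : ℤ, e < i → IsZero (SiteCmp.HMod G i))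
    (i : ℤ) (hi : e < i) :
    IsZero (SiteCmp.HMod ((SiteCmp.RpushD (FSch.homMor g h𝔛.1 h𝔜.1)).obj G) i) := by
  have hG' : G.IsLE e := by
    rw [DerivedCategory.isLE_iff]
    exact he
  exact RFZero.isZero_homology (FSch.homMor g h𝔛.1 h𝔜.1) (IndCoh 𝔛 h𝔛.1) (FBound.isBasis 𝔛) hA
    (FBound.isBasis 𝔜) (fun V hV => IsAffineOpen.preimage (X := 𝔛.X 0) (Y := 𝔜.X 0) hV _) G hG e i hi

theorem presentation (hQ : K180.IndUnion.CohCls (fun 𝔊 : FSch.ModF 𝔛 h𝔛.1 => FSch.IsCohF 𝔛 h𝔛.1 𝔊))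
    (𝔉 : FSch.ModF 𝔛 h𝔛.1)
    (h𝔉 : (ObjectProperty.ind.{u} fun 𝔊 : FSch.ModF 𝔛 h𝔛.1 => FSch.IsCohF 𝔛 h𝔛.1 𝔊) 𝔉) :
    ∃ (J : Type u) (_ : SmallCategory J) (_ : IsFiltered J) (pres : ColimitPresentation J 𝔉),
      (∀ j : J, FSch.IsCohF 𝔛 h𝔛.1 (pres.diag.obj j)) ∧ ∀ j : J, Mono (pres.ι.app j) :=
  have := K578.Der.isGrothendieckAbelian (𝔛.Osh h𝔛.1)
  IndKan.exists_mono_presentation hQ h𝔉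

theorem kan (hQ : K180.IndUnion.CohCls (fun 𝔊 : FSch.ModF 𝔛 h𝔛.1 => FSch.IsCohF 𝔛 h𝔛.1 𝔊))
    [CompactSpace (𝔛.X 0)]
    [ObjectProperty.ContainsZero (fun 𝔊 : FSch.ModF 𝔛 h𝔛.1 => FSch.IsCohF 𝔛 h𝔛.1 𝔊)] [ObjectProperty.IsClosedUnderKernels (fun 𝔊 : FSch.ModF 𝔛 h𝔛.1 => FSch.IsCohF 𝔛 h𝔛.1 𝔊)]
    [ObjectProperty.IsClosedUnderCokernels (fun 𝔊 : FSch.ModF 𝔛 h𝔛.1 => FSch.IsCohF 𝔛 h𝔛.1 𝔊)] [ObjectProperty.IsClosedUnderFiniteProducts (fun 𝔊 : FSch.ModF 𝔛 h𝔛.1 => FSch.IsCohF 𝔛 h𝔛.1 𝔊)]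
    {A' : Type u'} [Category.{v'} A'] [Abelian A'] [HasFilteredColimitsOfSize.{u, u} A'] [AB5OfSize.{u, u} A']
    (G : ObjectProperty.FullSubcategory (fun 𝔊 : FSch.ModF 𝔛 h𝔛.1 => FSch.IsCohF 𝔛 h𝔛.1 𝔊) ⥤ A') [PreservesFiniteLimits G] [PreservesFiniteColimits G]
    [(ObjectProperty.ιOfLE (ObjectProperty.le_ind (fun 𝔊 : FSch.ModF 𝔛 h𝔛.1 => FSch.IsCohF 𝔛 h𝔛.1 𝔊) : (fun 𝔊 : FSch.ModF 𝔛 h𝔛.1 => FSch.IsCohF 𝔛 h𝔛.1 𝔊) ≤ ObjectProperty.ind.{u} (fun 𝔊 : FSch.ModF 𝔛 h𝔛.1 => FSch.IsCohF 𝔛 h𝔛.1 𝔊))).HasPointwiseLeftKanExtension G] :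
    PreservesFiniteLimits ((ObjectProperty.ιOfLE (ObjectProperty.le_ind (fun 𝔊 : FSch.ModF 𝔛 h𝔛.1 => FSch.IsCohF 𝔛 h𝔛.1 𝔊) : (fun 𝔊 : FSch.ModF 𝔛 h𝔛.1 => FSch.IsCohF 𝔛 h𝔛.1 𝔊) ≤ ObjectProperty.ind.{u} (fun 𝔊 : FSch.ModF 𝔛 h𝔛.1 => FSch.IsCohF 𝔛 h𝔛.1 𝔊))).pointwiseLeftKanExtension G) ∧
      PreservesFiniteColimits ((ObjectProperty.ιOfLE (ObjectProperty.le_ind (fun 𝔊 : FSch.ModF 𝔛 h𝔛.1 => FSch.IsCohF 𝔛 h𝔛.1 𝔊) : (fun 𝔊 : FSch.ModF 𝔛 h𝔛.1 => FSch.IsCohF 𝔛 h𝔛.1 𝔊) ≤ ObjectProperty.ind.{u} (fun 𝔊 : FSch.ModF 𝔛 h𝔛.1 => FSch.IsCohF 𝔛 h𝔛.1 𝔊))).pointwiseLeftKanExtension G) := by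
  have := K578.Der.isGrothendieckAbelian (𝔛.Osh h𝔛.1)
  have := IndKan.containsZero_ind hQ
  have := IndKan.closedUnderKernels_ind hQ
  have := IndKan.closedUnderCokernels_ind hQ
  have := IndKan.closedUnderFiniteProducts_ind hQ
  refine KanExact.exact.{u} _ (IndKan.himg hQ) (IndKan.hlift hQ fun {X} hX {J} _ _ {D c} hc p _ => ?_) G
  have hX' : SheafOfModules.IsFinitePresentation (R := ModSite.ringSh (𝔛.Osh h𝔛.1)) X := hX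
  have hX2 : SheafOfModules.IsFiniteType (R := ModSite.ringSh (𝔛.Osh h𝔛.1)) X := inferInstance
  exact ColimLoc.exists_epi (R := ModSite.ringSh (𝔛.Osh h𝔛.1)) hc p hX2

end K182.Cores
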