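import Groth.Agent.Dcoh.MapDer

/-!
# The natural transformation `𝟭 ⟶ D(Λ)` induced by `η : 𝟭 ⟶ Λ`, `Λ` exact
-/

set_option autoImplicit false
set_option backward.defeqAttrib.useBackward true
set_option backward.isDefEq.respectTransparency false

universe w v u

open CategoryTheory Category Limits

namespace K182.DerNat

open Groth.Agent.Dcoh.MapDer

variable {C : Type u} [Category.{v} C] [Abelian C] [HasDerivedCategory.{w} C]
  {Λ : C ⥤ C} [Λ.Additive] (η : 𝟭 C ⟶ Λ)

/-- The map of complexes induced by `η`. -/
@[simps]
def etaCx (K : CochainComplex C ℤ) : K ⟶ (Λ.mapHomologicalComplex (ComplexShape.up ℤ)).obj K where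
  f i := η.app (K.X i)
  comm' i j _ := (η.naturality (K.d i j)).symm

/-- The natural transformation of functors on complexes. -/
noncomputable def tau : (DerivedCategory.Q (C := C)) ⟶ Λ.mapHomologicalComplex (ComplexShape.up ℤ) ⋙ DerivedCategory.Q where
  app K := DerivedCategory.Q.map (etaCx η K)
  naturality K L f := by
    change DerivedCategory.Q.map f ≫ DerivedCategory.Q.map (etaCx η L) =
      DerivedCategory.Q.map (etaCx η K) ≫ DerivedCategory.Q.map ((Λ.mapHomologicalComplex (ComplexShape.up ℤ)).map f)
    rw [← Functor.map_comp, ← Functor.map_comp]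
    congr 1
    ext i
    exact η.naturality (f.f i)

variable [PreservesFiniteLimits Λ] [PreservesFiniteColimits Λ]

/-- The natural transformation on the derived category. -/
noncomputable def derUnit : 𝟭 (DerivedCategory C) ⟶ Λ.mapDerivedCategory :=
  letI : Localization.Lifting DerivedCategory.Q
      (HomologicalComplex.quasiIso C (ComplexShape.up ℤ)) DerivedCategory.Q
      (𝟭 (DerivedCategory C)) := ⟨Functor.rightUnitor _⟩
  Localization.liftNatTrans DerivedCategory.Q (HomologicalComplex.quasiIso C (ComplexShape.up ℤ))
    DerivedCategory.Q (Λ.mapHomologicalComplex (ComplexShape.up ℤ) ⋙ DerivedCategory.Q)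
    (𝟭 _) Λ.mapDerivedCategory (tau η)

lemma derUnit_app (K : CochainComplex C ℤ) : (derUnit η).app (DerivedCategory.Q.obj K) =
    DerivedCategory.Q.map (etaCx η K) ≫ Λ.mapDerivedCategoryFactors.inv.app K := by
  rw [derUnit, Localization.liftNatTrans_app]
  exact Category.id_comp _

omit [HasDerivedCategory.{w} C] in
lemma homologyIso_left (S : ShortComplex C) : S.homologyData.left.homologyIso.hom = 𝟙 _ := by
  dsimp [ShortComplex.LeftHomologyData.homologyIso, ShortComplex.leftHomologyIso,
    ShortComplex.LeftHomologyData.leftHomologyIso, ShortComplex.leftHomologyMapIso']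
  rw [← ShortComplex.leftHomologyMap'_comp]
  simp
  rfl

/-- The map of short complexes induced by `η`. -/
@[simps]
def etaSc (S : ShortComplex C) : S ⟶ S.map Λ where
  τ₁ := η.app S.X₁
  τ₂ := η.app S.X₂
  τ₃ := η.app S.X₃
  comm₁₂ := (η.naturality S.f).symm
  comm₂₃ := (η.naturality S.g).symm

omit [HasDerivedCategory.{w} C] in
lemma homology_sc (S : ShortComplex C) :
    ShortComplex.homologyMap (etaSc η S) ≫ (S.mapHomologyIso Λ).hom = η.app S.homology := by
  let h := S.homologyData.left
  let γ : ShortComplex.LeftHomologyMapData (etaSc η S) h (h.map Λ) :=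
    { φK := η.app h.K
      φH := η.app h.H
      commi := (η.naturality h.i).symm
      commf' := by
        have h1 : (h.map Λ).f' = Λ.map h.f' := by
          rw [← cancel_mono (h.map Λ).i, ShortComplex.LeftHomologyData.f'_i]
          dsimp
          rw [← Λ.map_comp, ShortComplex.LeftHomologyData.f'_i]
        rw [h1]
        exact η.naturality h.f'
      commπ := η.naturality h.π }
  have h2 := γ.homologyMap_comm
  have h3 : h.homologyIso.hom = 𝟙 _ := homologyIso_left S
  rw [h3] at h2
  exact h2.trans (Category.id_comp _)

omit [HasDerivedCategory.{w} C] in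
lemma homologyMapDer_Q [HasDerivedCategory.{w} C] (K : CochainComplex C ℤ) (n : ℤ) :
    (homologyMapDer Λ n).hom.app (DerivedCategory.Q.obj K) =
      (DerivedCategory.homologyFunctor C n).map (Λ.mapDerivedCategoryFactors.hom.app K) ≫
        (DerivedCategory.homologyFunctorFactors C n).hom.app _ ≫ (homologyMapCx Λ n).hom.app K ≫
          Λ.map ((DerivedCategory.homologyFunctorFactors C n).inv.app K) := by
  rw [homologyMapDer, Localization.liftNatIso_hom, Localization.liftNatTrans_app]
  dsimp [Localization.Lifting.iso]
  simp only [Category.assoc, Category.id_comp, Category.comp_id]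

lemma homology_Q (K : CochainComplex C ℤ) (n : ℤ) :
    (DerivedCategory.homologyFunctor C n).map ((derUnit η).app (DerivedCategory.Q.obj K)) ≫
      (homologyMapDer Λ n).hom.app (DerivedCategory.Q.obj K) =
    η.app ((DerivedCategory.homologyFunctor C n).obj (DerivedCategory.Q.obj K)) := by
  have h0 := homology_sc η (K.sc n)
  rw [← cancel_mono (Λ.map ((DerivedCategory.homologyFunctorFactors C n).hom.app K))]
  have h1 := η.naturality ((DerivedCategory.homologyFunctorFactors C n).hom.app K)
  dsimp only [Functor.id_map] at h1
  refine Eq.trans ?_ h1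
  rw [homologyMapDer_Q, derUnit_app]
  have h2 := (DerivedCategory.homologyFunctorFactors C n).hom.naturality (etaCx η K)
  dsimp only [Functor.comp_map] at h2
  simp only [Functor.map_comp, Category.assoc]
  rw [← Functor.map_comp_assoc, ← Functor.map_comp_assoc, ← Functor.map_comp]
  rw [Category.assoc, Iso.inv_hom_id_app, Iso.inv_hom_id_app]
  erw [Category.comp_id, CategoryTheory.Functor.map_id, Category.comp_id, reassoc_of% h2]
  congr 1

lemma homology (K : DerivedCategory C) (n : ℤ) :
    (DerivedCategory.homologyFunctor C n).map ((derUnit η).app K) ≫ (homologyMapDer Λ n).hom.app K =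
    η.app ((DerivedCategory.homologyFunctor C n).obj K) := by
  obtain ⟨K', ⟨e⟩⟩ : ∃ K' : CochainComplex C ℤ, Nonempty (DerivedCategory.Q.obj K' ≅ K) :=
    ⟨_, ⟨DerivedCategory.Q.objObjPreimageIso K⟩⟩
  have h1 := homology_Q η K' n
  have h2 := (derUnit η).naturality e.hom
  have h3 := (homologyMapDer Λ n).hom.naturality e.hom
  have h4 := η.naturality ((DerivedCategory.homologyFunctor C n).map e.hom)
  dsimp only [Functor.comp_map, Functor.id_map] at h2 h3 h4
  rw [← cancel_epi ((DerivedCategory.homologyFunctor C n).map e.hom), h4, ← h1, assoc, ← h3,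
    ← Functor.map_comp_assoc, ← Functor.map_comp_assoc, h2]

end K182.DerNat
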