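import Groth.Agent.FSch.K182.FFAbs
import Groth.Agent.PerfA.BddDev
import Groth.Agent.PerfA.PostAbs
import Groth.Agent.Dual.H363.TruncHocolim
import Groth.Agent.CohtopB.RlimHom

/-!
# Essential image of a derived functor on complexes with cohomology in a weak Serre class
-/

set_option autoImplicit false
set_option linter.unusedSectionVars false

universe w v v' u u'

open CategoryTheory Category Limits Pretriangulated Opposite DerivedCategory

namespace K182.EssAbs

variable {A : Type u} [Category.{v} A] [Abelian A] [HasDerivedCategory.{w} A]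
  {B : Type u'} [Category.{v'} B] [Abelian B] [HasDerivedCategory.{w} B]
  (L : A ⥤ B) [L.Additive] [PreservesFiniteLimits L] [PreservesFiniteColimits L]
  (Q : ObjectProperty A) [WSerre.IsWeakSerre Q]

/-- The essential image of the complexes with cohomology in `Q`. -/
def Ess (G : DerivedCategory B) : Prop :=
  ∃ E, WSerre.cohIn Q E ∧ Nonempty (L.mapDerivedCategory.obj E ≅ G)

/-- Full faithfulness on the complexes with cohomology in `Q`. -/
def FF : Prop := ∀ G E : DerivedCategory A, WSerre.cohIn Q G → WSerre.cohIn Q E →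
  FFAbs.Bij L.mapDerivedCategory G E

variable {L Q}

lemma Ess.of_iso {G G' : DerivedCategory B} (e : G ≅ G') (h : Ess L Q G) : Ess L Q G' := by
  obtain ⟨E, hE, ⟨i⟩⟩ := h
  exact ⟨E, hE, ⟨i ≪≫ e⟩⟩

lemma Ess.shift {G : DerivedCategory B} (h : Ess L Q G) (n : ℤ) : Ess L Q (G⟦n⟧) := by
  obtain ⟨E, hE, ⟨i⟩⟩ := h
  exact ⟨E⟦n⟧, K578.CohDev.cohIn_shift Q E n hE,
    ⟨(L.mapDerivedCategory.commShiftIso n).app E ≪≫ (shiftFunctor _ n).mapIso i⟩⟩

/-- Lifts of morphisms. -/
lemma FF.exists_map (hff : FF L Q) {E E' : DerivedCategory A} (hE : WSerre.cohIn Q E) (hE' : WSerre.cohIn Q E')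
    {G G' : DerivedCategory B} (e : L.mapDerivedCategory.obj E ≅ G) (e' : L.mapDerivedCategory.obj E' ≅ G')
    (g : G ⟶ G') : ∃ f : E ⟶ E', L.mapDerivedCategory.map f ≫ e'.hom = e.hom ≫ g := by
  obtain ⟨f, hf⟩ := (hff E E' hE hE').2 (e.hom ≫ g ≫ e'.inv)
  refine ⟨f, ?_⟩
  change L.mapDerivedCategory.map f = _ at hf
  rw [hf, assoc, assoc, e'.inv_hom_id, comp_id]

lemma Ess.cone (hff : FF L Q) (T : Triangle (DerivedCategory B)) (hT : T ∈ distTriang _)
    (h1 : Ess L Q T.obj₁) (h2 : Ess L Q T.obj₂) : Ess L Q T.obj₃ := by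
  obtain ⟨E, hE, ⟨i⟩⟩ := h1
  obtain ⟨E', hE', ⟨i'⟩⟩ := h2
  obtain ⟨f, hf⟩ := hff.exists_map hE hE' i i' T.mor₁
  obtain ⟨K, g, h, hT'⟩ := distinguished_cocone_triangle f
  refine ⟨K, FFAbs.cohIn_ext₃ Q _ hT' hE hE', ⟨?_⟩⟩
  exact Triangle.π₃.mapIso (isoTriangleOfIso₁₂ _ T (L.mapDerivedCategory.map_distinguished _ hT') hT i i' hf)

lemma Ess.ext₂ (hff : FF L Q) (T : Triangle (DerivedCategory B)) (hT : T ∈ distTriang _)
    (h1 : Ess L Q T.obj₁) (h3 : Ess L Q T.obj₃) : Ess L Q T.obj₂ :=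
  Ess.cone hff T.invRotate (inv_rot_of_distTriang _ hT) (h3.shift (-1)) h1

lemma ess_single {M : A} (hM : Q M) (n : ℤ) : Ess L Q ((singleFunctor B n).obj (L.obj M)) :=
  ⟨(singleFunctor A n).obj M, K578.CohDev.cohIn_single Q M hM n, ⟨(L.mapDerivedCategorySingleFunctor n).app M⟩⟩

/-- Bounded complexes. -/
theorem ess_of_bounded (hff : FF L Q) (Q' : ObjectProperty B) [Q'.IsClosedUnderIsomorphisms] [Q'.ContainsZero]
    (hobj : ∀ N, Q' N → ∃ M, Q M ∧ Nonempty (L.obj M ≅ N)) (G : DerivedCategory B) (a b : ℤ) [G.IsGE a]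
    [G.IsLE b] (hG : WSerre.cohIn Q' G) : Ess L Q G := by
  refine Groth.Agent.PerfA.BddDev.devissage Q' (Ess L Q) (fun e h => h.of_iso e) (fun N n hN => ?_)
    (fun T hT h1 h3 => Ess.ext₂ hff T hT h1 h3) G a b hG
  obtain ⟨M, hM, ⟨e⟩⟩ := hobj N hN
  exact (ess_single hM n).of_iso ((singleFunctor B n).mapIso e)

section Coprod

variable [HasColimitsOfShape (Discrete ℕ) (DerivedCategory A)] [HasColimitsOfShape (Discrete ℕ) (DerivedCategory B)]
  [PreservesColimitsOfShape (Discrete ℕ) L.mapDerivedCategory]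

/-- Countable homotopy colimits. -/
theorem ess_hocolim (hff : FF L Q)
    (hcop : ∀ E : ℕ → DerivedCategory A, (∀ n, WSerre.cohIn Q (E n)) → WSerre.cohIn Q (∐ E))
    (K : ℕ → DerivedCategory B) (k : ∀ n, K n ⟶ K (n + 1)) (G : DerivedCategory B) (i : ∀ n, K n ⟶ G)
    (hG : DerLim.IsHocolim K k G i) (hK : ∀ n, Ess L Q (K n)) : Ess L Q G := by
  choose E hE e using hK
  let e n := (e n).some
  choose f hf using fun n => hff.exists_map (hE n) (hE (n + 1)) (e n) (e (n + 1)) (k n)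
  obtain ⟨c, hT⟩ := hG
  obtain ⟨C, g, h, hT'⟩ := distinguished_cocone_triangle (𝟙 (∐ E) - DerLim.shiftMap E f)
  let F := L.mapDerivedCategory
  have hcol : IsColimit (Cofan.mk (F.obj (∐ E)) fun n => F.map (Sigma.ι E n)) :=
    isColimitCofanMkObjOfIsColimit F _ _ (coproductIsCoproduct E)
  let α : F.obj (∐ E) ≅ ∐ K :=
    { hom := Cofan.IsColimit.desc hcol fun n => (e n).hom ≫ Sigma.ι K n
      inv := Sigma.desc fun n => (e n).inv ≫ F.map (Sigma.ι E n)
      hom_inv_id := Cofan.IsColimit.hom_ext hcol _ _ fun n => by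
        rw [Cofan.IsColimit.fac_assoc]
        simp [Cofan.inj]
      inv_hom_id := by
        refine Sigma.hom_ext _ _ fun n => ?_
        have := Cofan.IsColimit.fac hcol (fun n => (e n).hom ≫ Sigma.ι K n) n
        simp only [Cofan.inj, Cofan.mk_ι_app] at this
        simp [this] }
  refine ⟨C, FFAbs.cohIn_ext₃ Q _ hT' (hcop E hE) (hcop E hE), ⟨?_⟩⟩
  refine Triangle.π₃.mapIso (isoTriangleOfIso₁₂ _ _ (F.map_distinguished _ hT') hT α α ?_)
  have hα : ∀ n, F.map (Sigma.ι E n) ≫ α.hom = (e n).hom ≫ Sigma.ι K n := fun n =>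
    Cofan.IsColimit.fac hcol (fun n => (e n).hom ≫ Sigma.ι K n) n
  have h1 : ∀ n, Sigma.ι E n ≫ (𝟙 (∐ E) - DerLim.shiftMap E f) = Sigma.ι E n - f n ≫ Sigma.ι E (n + 1) := by
    intro n
    rw [Preadditive.comp_sub, comp_id, DerLim.shiftMap, Sigma.ι_desc]
  have h2 : ∀ n, Sigma.ι K n ≫ (𝟙 (∐ K) - DerLim.shiftMap K k) = Sigma.ι K n - k n ≫ Sigma.ι K (n + 1) := by
    intro n
    rw [Preadditive.comp_sub, comp_id, DerLim.shiftMap, Sigma.ι_desc]
  refine Cofan.IsColimit.hom_ext hcol _ _ fun n => ?_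
  change F.map (Sigma.ι E n) ≫ F.map (𝟙 (∐ E) - DerLim.shiftMap E f) ≫ α.hom =
    F.map (Sigma.ι E n) ≫ α.hom ≫ (𝟙 (∐ K) - DerLim.shiftMap K k)
  rw [← F.map_comp_assoc, h1, F.map_sub, Preadditive.sub_comp, hα, F.map_comp, assoc, hα, reassoc_of% (hα n), h2,
    Preadditive.comp_sub, reassoc_of% (hf n)]

/-- Dévissage from bounded above complexes to all complexes. -/
theorem ess_of_isLE (hff : FF L Q)
    (hcop : ∀ E : ℕ → DerivedCategory A, (∀ n, WSerre.cohIn Q (E n)) → WSerre.cohIn Q (∐ E))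
    [HasColimitsOfShape ℕ B] [HasExactColimitsOfShape ℕ B]
    [∀ q, PreservesColimitsOfShape (Discrete ℕ) (homologyFunctor B q)]
    (G : DerivedCategory B) (h : ∀ n : ℤ, Ess L Q ((TStructure.t.truncLT n).obj G)) : Ess L Q G :=
  ess_hocolim hff hcop _ _ G _ (Groth.Agent.Dual.H363.TruncHocolim.isHocolim_trunc G 0)
    fun n => h (0 + n)

end Coprod

section Rlim

/-- Lifting of compatible families to a derived limit. -/
lemma exists_lift {T : Type*} [Category* T] [Preadditive T] [HasZeroObject T] [HasShift T ℤ]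
    [∀ n : ℤ, (shiftFunctor T n).Additive] [Pretriangulated T] {K : ℕ → T} {t : ∀ n, K (n + 1) ⟶ K n}
    [HasProduct K] {G : T} {a : ∀ n, G ⟶ K n} (hG : CohCx.IsRlimVia K t G a) {P : T} (b : ∀ n, P ⟶ K n)
    (hb : ∀ n, b (n + 1) ≫ t n = b n) : ∃ φ : P ⟶ G, ∀ n, φ ≫ a n = b n := by
  obtain ⟨c, hT⟩ := hG
  have h0 : Pi.lift b ≫ (Pi.lift fun n => Pi.π K n - Pi.π K (n + 1) ≫ t n) = 0 := by
    refine Pi.hom_ext _ _ fun n => ?_
    rw [assoc, Limits.Pi.lift_π, Preadditive.comp_sub, Limits.Pi.lift_π, Limits.Pi.lift_π_assoc, hb, sub_self,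
      zero_comp]
  obtain ⟨φ, hφ⟩ : ∃ φ : P ⟶ G, Pi.lift b = φ ≫ Pi.lift a :=
    Triangle.coyoneda_exact₂ _ hT (Pi.lift b) h0
  refine ⟨φ, fun n => ?_⟩
  have h := congrArg (fun z => z ≫ Pi.π K n) hφ
  rw [Limits.Pi.lift_π, assoc, Limits.Pi.lift_π] at h
  exact h.symm

/-- `L` reflects isomorphisms and zero objects between objects of `Q`. -/
lemma FF.isZero (hff : FF L Q) {M : A} (hM : Q M) (h : IsZero (L.obj M)) : IsZero M := by
  have hc : WSerre.cohIn Q ((singleFunctor A 0).obj M) := K578.CohDev.cohIn_single Q M hM 0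
  have h1 : IsZero (L.mapDerivedCategory.obj ((singleFunctor A 0).obj M)) :=
    ((singleFunctor B 0).map_isZero h).of_iso ((L.mapDerivedCategorySingleFunctor 0).app M)
  have h2 : 𝟙 ((singleFunctor A 0).obj M) = 0 := (hff _ _ hc hc).1 (h1.eq_of_src _ _)
  rw [IsZero.iff_id_eq_zero]
  apply (singleFunctor A 0).map_injective
  rw [CategoryTheory.Functor.map_id, h2, Functor.map_zero]

lemma FF.isIso (hff : FF L Q) {M N : A} (hM : Q M) (hN : Q N) (f : M ⟶ N) (h : IsIso (L.map f)) : IsIso f := by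
  have h1 : IsZero (kernel f) := hff.isZero (Q.prop_kernel f hM hN)
    ((isZero_kernel_of_mono (L.map f)).of_iso (PreservesKernel.iso L f))
  have h2 : IsZero (cokernel f) := hff.isZero (Q.prop_cokernel f hM hN)
    ((isZero_cokernel_of_epi (L.map f)).of_iso (PreservesCokernel.iso L f))
  have : Mono f := Preadditive.mono_of_isZero_kernel f h1
  have : Epi f := Preadditive.epi_of_isZero_cokernel f h2
  exact isIso_of_mono_of_epi f

end Rlim

section Tower

variable {A : Type u} [Category.{v} A] [Abelian A] [HasDerivedCategory.{w} A]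
  {B : Type (u' + 1)} [Category.{u'} B] [Abelian B] [HasDerivedCategory.{w} B]
  {L : A ⥤ B} [L.Additive] [PreservesFiniteLimits L] [PreservesFiniteColimits L]
  {Q : ObjectProperty A} [WSerre.IsWeakSerre Q]

variable (Q) in
/-- Towers with stabilizing cohomology in `Q` have limits. -/
def HasTowers : Prop := ∀ (K : ℕ → DerivedCategory A) (t : ∀ n, K (n + 1) ⟶ K n), (∀ n, WSerre.cohIn Q (K n)) →
  (∀ n : ℕ, (K n).IsGE (-(n : ℤ))) →
  (∀ (n : ℕ) (q : ℤ), -(n : ℤ) ≤ q → IsIso ((homologyFunctor A q).map (t n))) →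
  ∃ (M : DerivedCategory A) (a : ∀ n, M ⟶ K n), (∀ n, a (n + 1) ≫ t n = a n) ∧
    ∀ (n : ℕ) (q : ℤ), -(n : ℤ) ≤ q → IsIso ((homologyFunctor A q).map (a n))

/-- Dévissage from bounded below complexes. -/
theorem ess_of_tower (hff : FF L Q) (hR : HasTowers Q) (G : DerivedCategory B) [HasProduct (CohCx.truncTower G)]
    (hG : CohCx.IsRlimVia (CohCx.truncTower G) (CohCx.truncTowerMap G) G (CohCx.toTruncTower G))
    (hE : ∀ n, Ess L Q (CohCx.truncTower G n)) : Ess L Q G := by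
  choose E hE e using hE
  let e n := (e n).some
  choose t ht using fun n => hff.exists_map (hE (n + 1)) (hE n) (e (n + 1)) (e n) (CohCx.truncTowerMap G n)
  have hπ : ∀ n, CohCx.toTruncTower G (n + 1) ≫ CohCx.truncTowerMap G n = CohCx.toTruncTower G n := fun n =>
    TStructure.t.π_natTransTruncGEOfLE_app (-((n + 1 : ℕ) : ℤ)) (-(n : ℤ)) (by lia) G
  have i1 : ∀ (n : ℕ) (q : ℤ), -(n : ℤ) ≤ q → IsIso ((homologyFunctor B q).map (CohCx.toTruncTower G n)) :=
    fun n q h => Groth.Agent.PerfA.PostAbs.isIso_homology_truncGEπ G _ q h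
  have i2 : ∀ (n : ℕ) (q : ℤ), -(n : ℤ) ≤ q → IsIso ((homologyFunctor B q).map (CohCx.truncTowerMap G n)) := by
    intro n q h
    have h1 := i1 n q h
    have h2 := i1 (n + 1) q (by push_cast; lia)
    rw [← hπ n, Functor.map_comp] at h1
    exact IsIso.of_isIso_comp_left ((homologyFunctor B q).map (CohCx.toTruncTower G (n + 1))) _
  have i3 : ∀ (n : ℕ) (q : ℤ), -(n : ℤ) ≤ q → IsIso ((homologyFunctor A q).map (t n)) := by
    intro n q h
    refine hff.isIso (hE (n + 1) q) (hE n q) _ ((Groth.Agent.Dcoh.MapDer.isIso_homology_map_iff L (t n) q).1 ?_)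
    have h1 := congrArg (homologyFunctor B q).map (ht n)
    rw [Functor.map_comp, Functor.map_comp] at h1
    have h2 := i2 n q h
    have h3 : IsIso ((homologyFunctor B q).map (L.mapDerivedCategory.map (t n)) ≫
        (homologyFunctor B q).map (e n).hom) := by
      rw [h1]
      infer_instance
    exact IsIso.of_isIso_comp_right _ ((homologyFunctor B q).map (e n).hom)
  have i4 : ∀ n : ℕ, (E n).IsGE (-(n : ℤ)) := by
    intro n
    rw [isGE_iff]
    intro q hq
    refine hff.isZero (hE n q) ?_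
    exact (isZero_of_isGE (CohCx.truncTower G n) (-(n : ℤ)) q hq).of_iso
      ((Groth.Agent.Dcoh.MapDer.homologyMapDerApp L q (E n)).symm ≪≫ (homologyFunctor B q).mapIso (e n))
  obtain ⟨M, a, ha, ha'⟩ := hR E t hE i4 i3
  obtain ⟨φ, hφ⟩ := exists_lift hG (fun n => L.mapDerivedCategory.map (a n) ≫ (e n).hom) (fun n => by
    rw [assoc, ← ht n, ← L.mapDerivedCategory.map_comp_assoc, ha])
  have hN : ∀ q : ℤ, ∃ n : ℕ, -(n : ℤ) ≤ q := fun q => ⟨(-q).toNat, by lia⟩
  have i5 : IsIso φ := by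
    rw [DerivedCategory.isIso_iff]
    intro q
    obtain ⟨n, hn⟩ := hN q
    have h1 := congrArg (homologyFunctor B q).map (hφ n)
    rw [Functor.map_comp, Functor.map_comp] at h1
    have h2 := i1 n q hn
    have h4 := ha' n q hn
    have h3 := Groth.Agent.Dcoh.MapDer.isIso_homology_map L (a n) q h4
    have h5 : IsIso ((homologyFunctor B q).map φ ≫ (homologyFunctor B q).map (CohCx.toTruncTower G n)) := by
      rw [h1]
      infer_instance
    exact IsIso.of_isIso_comp_right _ ((homologyFunctor B q).map (CohCx.toTruncTower G n))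
  refine ⟨M, fun q => ?_, ⟨asIso φ⟩⟩
  obtain ⟨n, hn⟩ := hN q
  have := ha' n q hn
  exact Q.prop_of_iso (asIso ((homologyFunctor A q).map (a n))).symm (hE n q)

end Tower

end K182.EssAbs
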