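import Groth.Agent.FSch.K182.EssAbs
import Groth.Agent.FSch.K182.TopRlim
import Groth.Agent.CohtopB.TestSysRlim
import Mathlib.CategoryTheory.Limits.Constructions.EventuallyConstant

/-!
# Derived limits of towers with stabilizing cohomology
-/

set_option autoImplicit false
set_option linter.unusedSectionVars false

universe w v v' u u'

open CategoryTheory Category Limits Pretriangulated Opposite DerivedCategory TopologicalSpace

namespace K182.HasTow

open Groth.Agent.CohtopB Groth.Agent.CohtopB.TestSys Groth.Agent.CohtopB.OpSeqHom K578.ModTest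

/-- `R^1 lim` vanishes for eventually surjective systems. -/
lemma limOneIsZero (N : ℕ) : ∀ (A : ℕ → Type u) [∀ n, AddCommGroup (A n)] (t : ∀ n, A (n + 1) →+ A n)
    (_ : ∀ n, N ≤ n → Function.Surjective (t n)), CohCx.LimOneIsZero A t := by
  induction N with
  | zero =>
    intro A _ t h y
    choose s hs using fun n (z : A n) => h n (Nat.zero_le n) z
    let a : ∀ n, A n := fun n => Nat.rec (motive := A) 0 (fun n z => s n (z - y n)) n
    refine ⟨a, funext fun n => ?_⟩
    change a n - t n (s n (a n - y n)) = y n
    rw [hs, sub_sub_cancel]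
  | succ N ih =>
    intro A _ t h y
    obtain ⟨a', ha'⟩ := ih (fun n => A (n + 1)) (fun n => t (n + 1)) (fun n hn => h (n + 1) (by lia))
      (fun n => y (n + 1))
    refine ⟨fun n => Nat.casesOn (motive := A) n (y 0 + t 0 (a' 0)) a', funext fun n => ?_⟩
    cases n with
    | zero =>
      change y 0 + t 0 (a' 0) - t 0 (a' 0) = y 0
      rw [add_sub_cancel_right]
    | succ n => exact congrFun ha' n

section Seq

variable {C : Type u} [Category.{v} C] (K : ℕ → C) (t : ∀ n, K (n + 1) ⟶ K n) 

/-- The projection from the limit of an inverse sequence is an isomorphism if the later transition maps are. -/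
lemma isIso_limπ [HasLimit (CohCx.opSequence K t)] (n : ℕ) (h : ∀ m, n ≤ m → IsIso (t m)) :
    IsIso (limπ K t n) := by
  have h1 : (CohCx.opSequence K t).IsEventuallyConstantTo (op n) := by
    rintro ⟨m⟩ f
    have hm := leOfHom f.unop
    dsimp at hm
    induction m, hm using Nat.le_induction with
    | base =>
      have : f = 𝟙 (op n) := Subsingleton.elim _ _
      rw [this, CategoryTheory.Functor.map_id]
      infer_instance
    | succ m hm ih =>
      have : f = (homOfLE (Nat.le_succ m)).op ≫ (homOfLE hm).op := Subsingleton.elim _ _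
      rw [this, Functor.map_comp]
      have h1 := ih (homOfLE hm).op
      have h2 : (CohCx.opSequence K t).map (homOfLE (Nat.le_succ m)).op = t m :=
        Functor.ofOpSequence_map_homOfLE_succ _ m
      have h3 := h m hm
      have h4 : IsIso ((CohCx.opSequence K t).map (homOfLE (Nat.le_succ m)).op) := by
        rw [h2]
        exact h3
      exact IsIso.comp_isIso' h4 h1
  exact h1.isIso_π_of_isLimit (limit.isLimit _)

end Seq

section Mod

variable {T : TopCat.{u}} (O : Sheaf (Opens.grothendieckTopology T) CommRingCat.{u})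
  [HasDerivedCategory.{w} (ModSite.Mod O)]

/-- Towers with stabilizing cohomology in `Q` have limits if `Q`-modules are acyclic on a basis. -/
theorem hasTowers (Q : ObjectProperty (ModSite.Mod O)) [WSerre.IsWeakSerre Q] {B : Set (Opens T)}
    (hB : Opens.IsBasis B) (hA : TopRlim.AcycOn O Q B) : EssAbs.HasTowers Q := by
  intro K t hK hGE ht
  have := K578.Der.isGrothendieckAbelian O
  have : HasLimitsOfShape (Discrete ℕ) (DerivedCategory (ModSite.Mod O)) :=
    Groth.Agent.CohtopA.DerProd.hasLimitsOfShape_discrete.{w, u} (ModSite.Mod O) ℕ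
  have : HasExt.{u + 1} (ModSite.Mod O) := HasExt.standard _
  obtain ⟨L, f, c, hT⟩ := distinguished_cocone_triangle₁ (Pi.lift fun n => Pi.π K n - Pi.π K (n + 1) ≫ t n)
  let a : ∀ n, L ⟶ K n := fun n => f ≫ Pi.π K n
  have hf : Pi.lift a = f := by
    refine Pi.hom_ext _ _ fun n => ?_
    rw [Limits.Pi.lift_π]
  have hL : CohCx.IsRlimVia K t L a := ⟨c, by rw [hf]; exact hT⟩
  have hcov : ∀ U : Opens T, gen (⊤ : Sieve U) (fun V => V ∈ B) ∈ Opens.grothendieckTopology T U :=
    K578.Hyp.gen_of_cover B fun U => by
      obtain ⟨ι, Y, g, _, h2, h3⟩ := TopRlim.exists_cover hB U ⊤ ((Opens.grothendieckTopology T).top_mem U)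
      exact ⟨ι, Y, g, h2, h3⟩
  refine ⟨L, a, rlimVia_comp hL, fun n q hn => ?_⟩
  have h1 := isIso_homologyToLim (testSystem (ModSite.ringSh O)) hL (fun V => V ∈ B) hcov
    (fun U hU m j => can_bijective_of_bounded_below _ (-(m : ℤ)) (K m) (hGE m) (fun p j => 
      (K578.ModExtPM.subsingleton_ext_iff O _ (p + 1) U).2 (hA _ (hK m j) U hU (p + 1) (Nat.succ_pos p))) j)
    (fun U hU j => limOneIsZero (-j).toNat _ _ fun m hm => by
      have := ht m j (by lia)
      intro x
      refine ⟨x ≫ inv ((homologyFunctor (ModSite.Mod O) j).map (t m)), ?_⟩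
      change (x ≫ inv ((homologyFunctor (ModSite.Mod O) j).map (t m))) ≫
        (homologyFunctor (ModSite.Mod O) j).map (t m) = x
      rw [assoc, IsIso.inv_hom_id, comp_id]) q
  have h2 : IsIso (limπ (fun n => (homologyFunctor (ModSite.Mod O) q).obj (K n))
      (fun n => (homologyFunctor (ModSite.Mod O) q).map (t n)) n) :=
    isIso_limπ _ _ n fun m hm => ht m q (by lia)
  rw [← homologyToLim_π (rlimVia_comp hL) q n]
  exact IsIso.comp_isIso' h1 h2

end Mod

end K182.HasTow
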