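import Groth.Agent.FSch.K182.K4Kap
import Groth.Agent.FSch.K182.HasTow
import Groth.Agent.FSch.K180.Main
import Groth.Agent.PerfB.QCohLocal
import Groth.Agent.PerfA.HomologyCoprod

/-!
# The essential image of `κ^*` on complexes with quasi-coherent cohomology
-/

set_option autoImplicit false
set_option linter.style.haveILetI false
set_option linter.unusedSectionVars false
universe w v u

open CategoryTheory CategoryTheory.Limits AlgebraicGeometry Opposite TopologicalSpace
attribute [local instance] HasDerivedCategory.standard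

namespace K182.EssKap

open FSch K920.KapSch K182.SchCart K182.SchLoc DerivedCategory Abelian K182.K4Der K182.K4Kap

section Exact

variable (C : Type (u + 1)) [Category.{u} C] [Abelian C] [IsGrothendieckAbelian.{u} C]

theorem exact_nat : HasExactColimitsOfShape ℕ C := by
  have : HasFilteredColimitsOfSize.{0, 0} C := inferInstance
  have : AB5OfSize.{0, 0} C := AB5OfSize_of_univLE.{0, 0, u, u} C
  infer_instance

theorem exact_discrete_nat : HasExactColimitsOfShape (Discrete ℕ) C :=
  have : HasExactColimitsOfShape (Discrete (ULift.{u} ℕ)) C := inferInstance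
  HasExactColimitsOfShape.of_domain_equivalence C (Discrete.equivalence (Equiv.ulift.{u, 0} (α := ℕ)))

end Exact

section Gen

variable {X : Scheme.{u}} {C : Type u} [SmallCategory C] {K : GrothendieckTopology C}
  {O : Sheaf K CommRingCat.{u}} (f : ModSite.RMor O (RX X)) [PreservesFiniteLimits f.pull]
  [PreservesFiniteColimits f.push] (Q' : ObjectProperty (ModSite.Mod O)) [WSerre.IsWeakSerre Q']

/-- The essential image of `f^*` on the complexes with quasi-coherent cohomology. -/
abbrev EssF (G : DerivedCategory (ModSite.Mod O)) : Prop := EssAbs.Ess f.pull (qc X) G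

/-- Full faithfulness of `f^*` on the complexes with quasi-coherent cohomology. -/
abbrev FFF : Prop := EssAbs.FF f.pull (qc X)

/-- Essential image, from the case of modules. -/
theorem ess (hff : FFF f) (hobj : ∀ N, Q' N → ∃ M, qc X M ∧ Nonempty (f.pull.obj M ≅ N))
    (hRl : ∀ Y : DerivedCategory (ModSite.Mod O), WSerre.cohIn Q' Y → ∀ [HasProduct (CohCx.truncTower Y)],
      CohCx.IsRlimVia (CohCx.truncTower Y) (CohCx.truncTowerMap Y) Y (CohCx.toTruncTower Y))
    (G : DerivedCategory (ModSite.Mod O)) (hG : WSerre.cohIn Q' G) : EssAbs.Ess f.pull (qc X) G := by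
  have := K578.Der.isGrothendieckAbelian (RX X)
  have := K578.Der.isGrothendieckAbelian O
  have i1 : HasColimitsOfShape (Discrete ℕ) (DerivedCategory (ModSite.Mod (RX X))) :=
    Groth.Agent.CohtopA.DerProd.hasColimitsOfShape_discrete.{u + 1, u} (ModSite.Mod (RX X)) ℕ
  have i2 : HasColimitsOfShape (Discrete ℕ) (DerivedCategory (ModSite.Mod O)) :=
    Groth.Agent.CohtopA.DerProd.hasColimitsOfShape_discrete.{u + 1, u} (ModSite.Mod O) ℕ
  have i3 : PreservesColimitsOfShape (Discrete ℕ) f.pull.mapDerivedCategory :=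
    ((FFSch.adj f).leftAdjoint_preservesColimits).preservesColimitsOfShape
  have i4 : HasExactColimitsOfShape (Discrete ℕ) (ModSite.Mod (RX X)) := exact_discrete_nat _
  have i5 : HasExactColimitsOfShape (Discrete ℕ) (ModSite.Mod O) := exact_discrete_nat _
  have i6 : HasExactColimitsOfShape ℕ (ModSite.Mod O) := exact_nat _
  have i7 : ∀ q : ℤ, PreservesColimitsOfShape (Discrete ℕ) (homologyFunctor (ModSite.Mod O) q) := fun q =>
    Groth.Agent.PerfA.HomologyCoprod.preservesCoproducts_homologyFunctor q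
  refine EssAbs.ess_of_isLE hff (fun E hE i => ?_) G fun n => ?_
  · exact Groth.Agent.PerfB.QCohLocal.isQCoh_of_isColimit _ (fun j => hE j.as i) _
      (isColimitOfPreserves (DerivedCategory.homologyFunctor (ModSite.Mod (RX X)) i) (coproductIsCoproduct E))
  · have h1 := cohIn_truncLT Q' hG n
    have := K578.Hyp.hasProduct_truncTower O ((TStructure.t.truncLT n).obj G)
    refine EssAbs.ess_of_tower hff (HasTow.hasTowers (RX X) (qc X) X.isBasis_affineOpens acycOn) _ (hRl _ h1)
      fun m => ?_
    have := Groth.Agent.PerfA.BddDev.isLE_truncGE ((TStructure.t.truncLT n).obj G) (-(m : ℤ)) (n - 1)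
    exact EssAbs.ess_of_bounded hff Q' hobj _ (-(m : ℤ)) (n - 1) (cohIn_truncGE Q' h1 _)

end Gen

section Proper

variable {A : Type u} [CommRing A] [IsNoetherianRing A] (I : Ideal A) [IsAdicComplete I A]
  {X : Scheme.{u}} (f : X ⟶ Spec (CommRingCat.of A)) [IsProper f]
  (𝓘 : X.IdealSheafData) (h𝓘 : 𝓘 = (FSch.idealSpec A I).comap f)
  (hX : (FSch.completionAlong X 𝓘).IsFormal) [PreservesFiniteLimits (kap X 𝓘 hX).pull]

include I h𝓘 in
theorem ess_kap (h46 : ∀ N, ICoh 𝓘 hX N → ∃ M, qc X M ∧ Nonempty ((kap X 𝓘 hX).pull.obj M ≅ N))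
    (G : DerivedCategory (ModF (completionAlong X 𝓘) hX)) (hG : WSerre.cohIn (ICoh 𝓘 hX) G) :
    EssF (kap X 𝓘 hX) G := by
  have h1 := isNoetherian f
  have h2 := isSeparated f
  let h𝔛 := Groth.Agent.S3854.result X 𝓘
  have : WSerre.IsWeakSerre (ICoh 𝓘 hX) := K180.Main.isWeakSerre_ind h𝔛
  refine ess (kap X 𝓘 hX) (ICoh 𝓘 hX) (bij I f 𝓘 h𝓘 hX) h46 (fun Y hY _ => ?_) G hG
  exact TopRlim.isRlimVia ((completionAlong X 𝓘).Osh hX) (FBound.isBasis (completionAlong X 𝓘))
    (fun F hF V hV q hq => by
      obtain ⟨q, rfl⟩ := Nat.exists_eq_succ_of_ne_zero hq.ne'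
      exact K181.Formal.subsingleton_HU_of_indCoh h𝔛 hF hV q) Y hY

end Proper

end K182.EssKap
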