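import Groth.Agent.FormalB.OpenMV
import Mathlib.AlgebraicGeometry.Morphisms.QuasiSeparated

/-!
# Cohomological dimension of quasi-compact opens of a quasi-separated scheme for sheaves acyclic on
affine opens
-/

set_option autoImplicit false
universe u

open CategoryTheory CategoryTheory.Limits Opposite TopologicalSpace AlgebraicGeometry

namespace K182.QCBound

open Groth.Agent.FormalB.OpenMV

variable {X : Scheme.{u}}

/-- `F` has no higher cohomology on affine opens. -/
def Acyc (F : CohTop.Ab X.toTopCat) : Prop :=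
  ∀ (V : X.Opens), IsAffineOpen V → ∀ q : ℕ, 0 < q → Subsingleton (HO F q V)

lemma mv (F : CohTop.Ab X.toTopCat) (n : ℕ) (A B : X.Opens) (h1 : Subsingleton (HO F n (A ⊓ B)))
    (h2 : Subsingleton (HO F (n + 1) A)) (h3 : Subsingleton (HO F (n + 1) B)) :
    Subsingleton (HO F (n + 1) (A ⊔ B)) := by
  refine subsingleton_of_forall_eq 0 fun x => ?_
  obtain ⟨z, hz⟩ := exists_of_rs_eq_zero F (W := A ⊔ B) (A := A) (B := B) (C := A ⊓ B) rfl rfl n
    le_sup_left le_sup_right x (Subsingleton.elim _ _) (Subsingleton.elim _ _)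
  rw [← hz, Subsingleton.elim z 0, map_zero]

/-- Unions of `n` basic opens of an affine open have cohomological dimension at most `n`. -/
lemma basicUnion {U : X.Opens} (hU : IsAffineOpen U) (F : CohTop.Ab X.toTopCat) (hF : Acyc F) (n : ℕ) :
    ∀ (s : Finset Γ(X, U)), s.card ≤ n → ∀ q, n < q → Subsingleton (HO F q (⨆ f ∈ s, X.basicOpen f)) := by
  classical
  induction n with
  | zero =>
    intro s hs q hq
    obtain rfl : s = ∅ := Finset.card_eq_zero.1 (by omega)
    have : (⨆ f ∈ (∅ : Finset Γ(X, U)), X.basicOpen f) = (⊥ : X.Opens) := by simp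
    rw [this]
    exact hF ⊥ (isAffineOpen_bot X) q hq
  | succ n ih =>
    intro s hs q hq
    obtain rfl | ⟨f, hf⟩ := s.eq_empty_or_nonempty
    · exact ih ∅ (by simp) q (by omega)
    · obtain ⟨t, ht, rfl⟩ : ∃ t : Finset Γ(X, U), f ∉ t ∧ insert f t = s :=
        ⟨s.erase f, Finset.notMem_erase f s, Finset.insert_erase hf⟩
      rw [Finset.card_insert_of_notMem ht] at hs
      obtain ⟨q', rfl⟩ : ∃ q', q = q' + 1 := ⟨q - 1, by omega⟩
      have h1 : (⨆ g ∈ insert f t, X.basicOpen g) = (⨆ g ∈ t, X.basicOpen g) ⊔ X.basicOpen f := by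
        rw [Finset.iSup_insert, sup_comm]
      rw [h1]
      refine mv F q' _ _ ?_ (ih t (by omega) _ (by omega)) (hF _ (hU.basicOpen f) _ (by omega))
      have h2 : (⨆ g ∈ t, X.basicOpen g) ⊓ X.basicOpen f = ⨆ g ∈ t.image (fun g => g * f), X.basicOpen g := by
        rw [Finset.iSup_finset_image, iSup₂_inf_eq]
        simp only [Scheme.basicOpen_mul]
      rw [h2]
      exact ih _ ((Finset.card_image_le).trans (by omega)) _ (by omega)

/-- Quasi-compact opens of affine opens are finite unions of basic opens. -/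
lemma exists_finset {U : X.Opens} (hU : IsAffineOpen U) (W : X.Opens) (hW : W ≤ U) (hc : IsCompact (W : Set X)) :
    ∃ s : Finset Γ(X, U), W = ⨆ f ∈ s, X.basicOpen f := by
  choose f hf hxf using fun x : W => hU.exists_basicOpen_le x (hW x.2)
  obtain ⟨t, ht⟩ := hc.elim_finite_subcover (fun x : W => (X.basicOpen (f x) : Set X))
    (fun x => (X.basicOpen (f x)).2) (fun x hx => Set.mem_iUnion.2 ⟨⟨x, hx⟩, hxf ⟨x, hx⟩⟩)
  classical
  refine ⟨t.image f, le_antisymm (fun x hx => ?_) ?_⟩
  · obtain ⟨y, hy, hxy⟩ := Set.mem_iUnion₂.1 (ht hx)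
    exact (le_iSup₂_of_le (f := fun g (_ : g ∈ t.image f) => X.basicOpen g) (f y)
      (Finset.mem_image_of_mem f hy) le_rfl) hxy
  · refine iSup₂_le fun g hg => ?_
    obtain ⟨y, _, rfl⟩ := Finset.mem_image.1 hg
    exact hf y

/-- **Bound** for the cohomology of quasi-compact opens. -/
theorem exists_bound [QuasiSeparatedSpace X] (W : X.Opens) (hW : IsCompact (W : Set X)) :
    ∃ d : ℕ, ∀ (F : CohTop.Ab X.toTopCat), Acyc F → ∀ q, d < q → Subsingleton (HO F q W) := by
  refine compact_open_induction_on (P := fun W => ∃ d : ℕ, ∀ (F : CohTop.Ab X.toTopCat), Acyc F → ∀ q, d < q →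
    Subsingleton (HO F q W)) W hW ⟨0, fun F hF q hq => hF ⊥ (isAffineOpen_bot X) q hq⟩ ?_
  rintro S hS ⟨U, hU⟩ ⟨d, hd⟩
  have hSU : IsCompact ((S ⊓ U : X.Opens) : Set X) :=
    QuasiSeparatedSpace.inter_isCompact _ _ S.2 hS U.2 hU.isCompact
  obtain ⟨s, hs⟩ := exists_finset hU (S ⊓ U) inf_le_right hSU
  refine ⟨max d (s.card + 1), fun F hF q hq => ?_⟩
  obtain ⟨q', rfl⟩ : ∃ q', q = q' + 1 := ⟨q - 1, by omega⟩
  refine mv F q' S U ?_ (hd F hF _ (by omega)) (hF U hU _ (by omega))
  rw [hs]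
  exact basicUnion hU F hF s.card s le_rfl q' (by omega)

end K182.QCBound
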