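import Groth.Agent.FSch.K182.TopRlim
import Groth.Agent.FSch.K182.QCBound
import Groth.Prelude.Def_FSch5

/-!
# Bounds for the cohomology of complexes on Noetherian formal schemes, from acyclicity on affine opens
-/

set_option autoImplicit false
universe u

open CategoryTheory CategoryTheory.Limits Opposite TopologicalSpace AlgebraicGeometry DerivedCategory FSch

attribute [local instance] HasDerivedCategory.standard

namespace K182.FBound

variable (𝔛 : FSch.Sys.{u}) (h𝔛 : 𝔛.IsLocNoethFormal)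

/-- The affine opens of the underlying space. -/
abbrev affs : Set (Opens (𝔛.X 0)) := {V | IsAffineOpen (X := 𝔛.X 0) V}

lemma isBasis : Opens.IsBasis (affs 𝔛) := (𝔛.X 0).isBasis_affineOpens

/-- Bounds for the cohomology of the modules which are acyclic on affine opens. -/
theorem exists_bound [CompactSpace (𝔛.X 0)] (A : ObjectProperty (FSch.ModF 𝔛 h𝔛.1))
    (hA : TopRlim.AcycOn (𝔛.Osh h𝔛.1) A (affs 𝔛)) (U : Opens (𝔛.X 0)) (hU : IsCompact (U : Set (𝔛.X 0))) :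
    ∃ d : ℕ, ∀ F, A F → ∀ q : ℕ, d < q → Subsingleton (ModSite.HU (𝔛.Osh h𝔛.1) F q U) := by
  have := h𝔛.2.2 0
  obtain ⟨d, hd⟩ := QCBound.exists_bound (X := 𝔛.X 0) U hU
  exact ⟨d, fun F hF q hq => hd (ModSite.toAb F) (fun V hV q hq => hA F hF V hV q hq) q hq⟩

/-- The bound for hypercohomology. -/
theorem exists_bound_hom [CompactSpace (𝔛.X 0)] 
    (A : ObjectProperty (FSch.ModF 𝔛 h𝔛.1))
    (hA : TopRlim.AcycOn (𝔛.Osh h𝔛.1) A (affs 𝔛)) :
    ∃ e : ℕ, ∀ (G : DerivedCategory (FSch.ModF 𝔛 h𝔛.1)),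
      (∀ i : ℤ, A (SiteCmp.HMod G i)) →
      ∀ i₀ : ℤ, (∀ i : ℤ, i₀ ≤ i → IsZero (SiteCmp.HMod G i)) →
        ∀ i : ℤ, i₀ + e ≤ i →
          Subsingleton (SiteCmp.inD (𝔛.Osh h𝔛.1) (FSch.unitF 𝔛 h𝔛.1) ⟶
            (shiftFunctor (DerivedCategory (FSch.ModF 𝔛 h𝔛.1)) i).obj G) := by
  obtain ⟨d, hd⟩ := exists_bound 𝔛 h𝔛 A hA ⊤ (CompactSpace.isCompact_univ)
  refine ⟨d, fun G hG i₀ hi₀ i hi => subsingleton_of_forall_eq 0 fun x => ?_⟩
  have hG' : G.IsLE (i₀ - 1) := by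
    rw [DerivedCategory.isLE_iff]
    intro j hj
    exact hi₀ j (by omega)
  exact TopRlim.hom_unit_eq_zero (𝔛.Osh h𝔛.1) (isBasis 𝔛) hA d hd G hG (i₀ - 1) i (by omega) x

end K182.FBound
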