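import Groth.Agent.FSch.K182.LocAbs

/-!
# Full faithfulness of a triangulated functor on complexes with cohomology in a weak Serre class,
by means of finitely many localization functors
-/

set_option autoImplicit false
set_option backward.defeqAttrib.useBackward true
set_option backward.isDefEq.respectTransparency false
set_option linter.unusedSectionVars false

universe w v v' u u'

open CategoryTheory Category Limits Pretriangulated Opposite

namespace K182.FFAbs

open Groth.Agent.LoccohA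
open scoped ZeroObject

section Bij

variable {C : Type u} [Category.{v} C] [Preadditive C] [HasZeroObject C] [HasShift C ℤ]
  [∀ n : ℤ, (shiftFunctor C n).Additive] [Pretriangulated C]
  {D : Type u'} [Category.{v} D] [Preadditive D] [HasZeroObject D] [HasShift D ℤ]
  [∀ n : ℤ, (shiftFunctor D n).Additive] [Pretriangulated D]
  (F : C ⥤ D) [F.CommShift ℤ] [F.IsTriangulated]

/-- `F` is bijective on `Hom(G, E)`. -/
def Bij (G E : C) : Prop := Function.Bijective (fun f : G ⟶ E => F.map f)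

variable {F}

lemma Bij.iso_right {G E E' : C} (e : E ≅ E') (h : Bij F G E) : Bij F G E' := by
  constructor
  · intro f g hfg
    have h1 : F.map (f ≫ e.inv) = F.map (g ≫ e.inv) := by
      rw [F.map_comp, F.map_comp]
      exact congrArg (· ≫ F.map e.inv) hfg
    exact (cancel_mono e.inv).1 (h.1 h1)
  · intro g
    obtain ⟨f, hf⟩ := h.2 (g ≫ F.map e.inv)
    refine ⟨f ≫ e.hom, ?_⟩
    change F.map f = _ at hf
    change F.map (f ≫ e.hom) = g
    rw [F.map_comp, hf, assoc, ← F.map_comp, e.inv_hom_id, F.map_id, comp_id]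

lemma Bij.iso_left {G G' E : C} (e : G ≅ G') (h : Bij F G E) : Bij F G' E := by
  constructor
  · intro f g hfg
    have h1 : F.map (e.hom ≫ f) = F.map (e.hom ≫ g) := by
      rw [F.map_comp, F.map_comp]
      exact congrArg (F.map e.hom ≫ ·) hfg
    exact (cancel_epi e.hom).1 (h.1 h1)
  · intro g
    obtain ⟨f, hf⟩ := h.2 (F.map e.hom ≫ g)
    refine ⟨e.inv ≫ f, ?_⟩
    change F.map f = _ at hf
    change F.map (e.inv ≫ f) = g
    rw [F.map_comp, hf, ← assoc, ← F.map_comp, e.inv_hom_id, F.map_id, id_comp]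

lemma Bij.shift {G E : C} (h : Bij F G E) (n : ℤ) : Bij F (G⟦n⟧) (E⟦n⟧) := by
  have key : ∀ f : G ⟶ E, F.map (f⟦n⟧') = (F.commShiftIso n).hom.app G ≫ (F.map f)⟦n⟧' ≫
      (F.commShiftIso n).inv.app E := fun f => by
    have := (F.commShiftIso n).hom.naturality f
    dsimp only [Functor.comp_map] at this
    rw [← assoc, ← this, assoc, Iso.hom_inv_id_app]
    exact (comp_id _).symm
  constructor
  · intro f g hfg
    obtain ⟨f', rfl⟩ := (shiftFunctor C n).map_surjective f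
    obtain ⟨g', rfl⟩ := (shiftFunctor C n).map_surjective g
    change F.map _ = F.map _ at hfg
    rw [key, key, cancel_epi, cancel_mono] at hfg
    rw [h.1 ((shiftFunctor D n).map_injective hfg)]
  · intro g
    obtain ⟨g', hg'⟩ := (shiftFunctor D n).map_surjective ((F.commShiftIso n).inv.app G ≫ g ≫
      (F.commShiftIso n).hom.app E)
    obtain ⟨f, rfl⟩ := h.2 g'
    refine ⟨f⟦n⟧', ?_⟩
    change F.map (f⟦n⟧') = g
    rw [key, hg']
    simp

lemma Bij.shift_right {G E : C} (n m : ℤ) (hnm : n + m = 0) (h : Bij F (G⟦n⟧) E) : Bij F G (E⟦m⟧) :=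
  (h.shift m).iso_left ((shiftFunctorCompIsoId C n m hnm).app G)

variable (F)

/-- The transformation of homological functors. -/
noncomputable def tau (G : C) : preadditiveCoyoneda.obj (op G) ⟶ F ⋙ preadditiveCoyoneda.obj (op (F.obj G)) where
  app E := AddCommGrpCat.ofHom (F.mapAddHom : (G ⟶ E) →+ _)
  naturality E E' f := by
    ext g
    exact F.map_comp g f

lemma bij_iff_tau (G E : C) : Bij F G E ↔ Function.Bijective ((tau F G).app E) := Iff.rfl

lemma bij_of_triangle (T : Triangle C) (hT : T ∈ distTriang C) (G : C) (h2 : ∀ n : ℤ, Bij F G (T.obj₂⟦n⟧))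
    (h3 : ∀ n : ℤ, Bij F G (T.obj₃⟦n⟧)) (n : ℤ) : Bij F G (T.obj₁⟦n⟧) := by
  have hT' := Triangle.shift_distinguished T hT (n - 1)
  let e (X : C) : (X⟦n - 1⟧)⟦(1 : ℤ)⟧ ≅ X⟦n⟧ := (shiftFunctorAdd' C (n - 1) 1 n (by lia)).symm.app X
  refine Bij.iso_right (e T.obj₁) ?_
  rw [bij_iff_tau]
  refine HomolFive.bijective_of_triangle (tau F G) _ hT' ?_ ?_ ?_ ?_
  · exact (h2 (n - 1)).2
  · exact h3 (n - 1)
  · exact (h2 n).iso_right (e _).symm
  · exact ((h3 n).iso_right (e _).symm).1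

end Bij

section Adj

variable {C : Type u} [Category.{v} C] [Preadditive C] [HasZeroObject C] [HasShift C ℤ]
  [∀ n : ℤ, (shiftFunctor C n).Additive] [Pretriangulated C]
  {D : Type u'} [Category.{v} D] [Preadditive D] [HasZeroObject D] [HasShift D ℤ]
  [∀ n : ℤ, (shiftFunctor D n).Additive] [Pretriangulated D]
  {F : C ⥤ D} [F.CommShift ℤ] [F.IsTriangulated] {R : D ⥤ C} (adj : F ⊣ R)

include adj in
lemma map_eq_zero_iff {G E : C} (f : G ⟶ E) : F.map f = 0 ↔ f ≫ adj.unit.app E = 0 := by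
  have h : adj.homEquiv _ _ (F.map f) = f ≫ adj.unit.app E := by
    rw [Adjunction.homEquiv_unit]
    exact (adj.unit.naturality f).symm
  have h0 : adj.homEquiv G (F.obj E) 0 = 0 := by
    rw [Adjunction.homEquiv_unit]
    have : R.Additive := adj.right_adjoint_additive
    rw [R.map_zero, comp_zero]
  rw [← h, ← h0, (adj.homEquiv _ _).injective.eq_iff]

lemma bij_iff_unit (G E : C) : Bij F G E ↔ Function.Bijective (fun f : G ⟶ E => f ≫ adj.unit.app E) := by
  have h : (fun f : G ⟶ E => f ≫ adj.unit.app E) = (adj.homEquiv _ _) ∘ (fun f : G ⟶ E => F.map f) := by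
    funext f
    rw [Function.comp_apply, Adjunction.homEquiv_unit]
    exact (adj.unit.naturality f)
  rw [h, Function.Bijective.of_comp_iff' (adj.homEquiv _ _).bijective]
  rfl

variable {E K : C} (g : R.obj (F.obj E) ⟶ K) (h : K ⟶ E⟦(1 : ℤ)⟧)
  (hT : Triangle.mk (adj.unit.app E) g h ∈ distTriang C)

include hT in
lemma bij_of_cone (G : C) (h0 : ∀ f : G ⟶ K, f = 0) (h1 : ∀ f : G⟦(1 : ℤ)⟧ ⟶ K, f = 0) : Bij F G E := by
  rw [bij_iff_unit adj]
  constructor
  · intro f f' hff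
    have h2 : (f - f') ≫ adj.unit.app E = 0 := by
      rw [Preadditive.sub_comp]
      exact sub_eq_zero.2 hff
    obtain ⟨ψ, hψ⟩ := Triangle.coyoneda_exact₁ _ hT ((f - f')⟦(1 : ℤ)⟧') (by
      change _ ≫ (adj.unit.app E)⟦(1 : ℤ)⟧' = 0
      rw [← Functor.map_comp, h2, Functor.map_zero])
    rw [h1 ψ, zero_comp] at hψ
    have h3 : f - f' = 0 := (shiftFunctor C (1 : ℤ)).map_injective (by rw [hψ, Functor.map_zero])
    exact sub_eq_zero.1 h3
  · intro y
    obtain ⟨φ, hφ⟩ := Triangle.coyoneda_exact₂ _ hT y (h0 _)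
    exact ⟨φ, hφ.symm⟩

include hT in
lemma hom_cone_eq_zero (O : C) (hO : ∀ n : ℤ, Bij F (O⟦n⟧) E) (n : ℤ) (f : O⟦n⟧ ⟶ K) : f = 0 := by
  have h1 : f ≫ h = 0 := by
    have h2 : (f ≫ h) ≫ (adj.unit.app E)⟦(1 : ℤ)⟧' = 0 := by
      rw [assoc]
      have := comp_distTriang_mor_zero₃₁ _ hT
      change h ≫ (adj.unit.app E)⟦(1 : ℤ)⟧' = 0 at this
      rw [this, comp_zero]
    have h3 : Bij F (O⟦n⟧) (E⟦(1 : ℤ)⟧) := by
      refine Bij.shift_right (-1) 1 (by lia) ?_
      exact (hO (n - 1)).iso_left ((shiftFunctorAdd' C n (-1) (n - 1) (by lia)).app O)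
    apply h3.1
    change F.map (f ≫ h) = F.map 0
    rw [F.map_zero]
    have h4 : F.map (f ≫ h) ≫ F.map ((adj.unit.app E)⟦(1 : ℤ)⟧') = 0 := by
      rw [← F.map_comp, h2, F.map_zero]
    have h5 : F.map ((adj.unit.app E)⟦(1 : ℤ)⟧') ≫ (F.commShiftIso (1 : ℤ)).hom.app (R.obj (F.obj E)) =
        (F.commShiftIso (1 : ℤ)).hom.app E ≫ (F.map (adj.unit.app E))⟦(1 : ℤ)⟧' :=
      (F.commShiftIso (1 : ℤ)).hom.naturality (adj.unit.app E)
    have h6 : F.map ((adj.unit.app E)⟦(1 : ℤ)⟧') ≫ (F.commShiftIso (1 : ℤ)).hom.app (R.obj (F.obj E)) ≫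
        (adj.counit.app (F.obj E))⟦(1 : ℤ)⟧' ≫ (F.commShiftIso (1 : ℤ)).inv.app E = 𝟙 (F.obj (E⟦(1 : ℤ)⟧)) := by
      have h7 : (F.map (adj.unit.app E))⟦(1 : ℤ)⟧' ≫ (adj.counit.app (F.obj E))⟦(1 : ℤ)⟧' = 𝟙 _ := by
        rw [← Functor.map_comp]
        exact (congrArg _ (adj.left_triangle_components E)).trans (CategoryTheory.Functor.map_id _ _)
      calc _ = (F.commShiftIso (1 : ℤ)).hom.app E ≫ ((F.map (adj.unit.app E))⟦(1 : ℤ)⟧' ≫
          (adj.counit.app (F.obj E))⟦(1 : ℤ)⟧') ≫ (F.commShiftIso (1 : ℤ)).inv.app E := by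
            rw [← assoc, h5]; simp only [assoc]
        _ = (F.commShiftIso (1 : ℤ)).hom.app E ≫ (F.commShiftIso (1 : ℤ)).inv.app E := by
            rw [h7]; exact congrArg _ (id_comp _)
        _ = _ := Iso.hom_inv_id_app _ _
    calc F.map (f ≫ h) = F.map (f ≫ h) ≫ (F.map ((adj.unit.app E)⟦(1 : ℤ)⟧') ≫
        (F.commShiftIso (1 : ℤ)).hom.app (R.obj (F.obj E)) ≫
        (adj.counit.app (F.obj E))⟦(1 : ℤ)⟧' ≫ (F.commShiftIso (1 : ℤ)).inv.app E) := by
          rw [h6]; exact (comp_id _).symm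
      _ = 0 := by rw [← assoc, h4, zero_comp]
  obtain ⟨y, hy⟩ := Triangle.coyoneda_exact₃ _ hT f h1
  obtain ⟨φ, hφ⟩ := ((bij_iff_unit adj _ _).1 (hO n)).2 y
  have h7 := comp_distTriang_mor_zero₁₂ _ hT
  change adj.unit.app E ≫ g = 0 at h7
  change f = y ≫ g at hy
  rw [hy, ← hφ]
  change (φ ≫ adj.unit.app E) ≫ g = 0
  rw [assoc, h7, comp_zero]

end Adj

section Zero

variable {A : Type u} [Category.{v} A] [Abelian A] [HasDerivedCategory.{w} A]

lemma isZero_iff (K : DerivedCategory A) : IsZero K ↔ ∀ n : ℤ, IsZero ((DerivedCategory.homologyFunctor A n).obj K) := by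
  constructor
  · intro h n
    exact (DerivedCategory.homologyFunctor A n).map_isZero h
  · intro h
    have h1 : IsIso (0 : K ⟶ (0 : DerivedCategory A)) := by
      rw [DerivedCategory.isIso_iff]
      intro n
      exact ⟨0, (h n).eq_of_src _ _, ((DerivedCategory.homologyFunctor A n).map_isZero (isZero_zero _)).eq_of_src _ _⟩
    exact (isZero_zero _).of_iso (asIso (0 : K ⟶ (0 : DerivedCategory A)))

variable (Λ : A ⥤ A) [Λ.Additive] [PreservesFiniteLimits Λ] [PreservesFiniteColimits Λ]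

lemma isZero_mapDer_iff (K : DerivedCategory A) : IsZero (Λ.mapDerivedCategory.obj K) ↔
    ∀ n : ℤ, IsZero (Λ.obj ((DerivedCategory.homologyFunctor A n).obj K)) := by
  rw [isZero_iff]
  exact forall_congr' fun n => (Groth.Agent.Dcoh.MapDer.homologyMapDerApp Λ n K).isZero_iff

end Zero

section Good

open LocAbs DerNat

variable {A : Type u} [Category.{v} A] [Abelian A] [HasDerivedCategory.{w} A]
  {Λ : A ⥤ A} [Λ.Additive] [PreservesFiniteLimits Λ] [PreservesFiniteColimits Λ] (η : 𝟭 A ⟶ Λ)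
  (S : ObjectProperty A) (O : DerivedCategory A)

/-- `O` generates the local part of the objects with cohomology in `S`. -/
def Good : Prop := ∀ K : DerivedCategory A, WSerre.cohIn (Loc η) K → (∀ (n : ℤ) (f : O⟦n⟧ ⟶ K), f = 0) →
  ∀ G, WSerre.cohIn S G → ∀ f : G ⟶ K, f = 0

/-- Shifts of a generator detect zero objects. -/
lemma isZero_of_generates {B : Type u'} [Category.{v'} B] [Preadditive B] [HasShift B ℤ]
    [∀ n : ℤ, (shiftFunctor B n).Additive] (P₀ M : B)
    (hg : (∀ (n : ℤ) (f : P₀ ⟶ M⟦n⟧), f = 0) → IsZero M) (h : ∀ (n : ℤ) (f : P₀⟦n⟧ ⟶ M), f = 0) : IsZero M := by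
  refine hg fun n f => ?_
  have h1 : f⟦-n⟧' ≫ (shiftFunctorCompIsoId B n (-n) (by lia)).hom.app M = 0 := h (-n) _
  have h2 : f⟦-n⟧' = 0 := by
    rw [← cancel_mono ((shiftFunctorCompIsoId B n (-n) (by lia)).hom.app M), zero_comp]
    exact h1
  exact (shiftFunctor B (-n)).map_injective (by rw [h2, Functor.map_zero])

/-- Criterion for `Good`. -/
theorem good_of {B : Type u'} [Category.{v'} B] [Preadditive B] [HasZeroObject B] [HasShift B ℤ]
    [∀ n : ℤ, (shiftFunctor B n).Additive] [Pretriangulated B] (Φ : B ⥤ DerivedCategory A) [Φ.CommShift ℤ]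
    [Φ.IsTriangulated] {R' : DerivedCategory A ⥤ B} (adj : Φ ⊣ R') (P₀ : B)
    (hP₀ : ∀ M : B, (∀ (n : ℤ) (f : P₀⟦n⟧ ⟶ M), f = 0) → IsZero M)
    (hΛη : ∀ M, IsIso (Λ.map (η.app M)))
    (hΦ : ∀ G, WSerre.cohIn S G → ∃ N, Nonempty (Λ.mapDerivedCategory.obj G ≅ Φ.obj N))
    (hO : Nonempty (Φ.obj P₀ ≅ Λ.mapDerivedCategory.obj O)) : Good η S O := by
  intro K hK h0 G hG f
  have hbij := bijective_precomp η hΛη
  obtain ⟨g, rfl⟩ := (hbij G K hK).2 f
  have h1 : ∀ (n : ℤ) (g : Λ.mapDerivedCategory.obj (O⟦n⟧) ⟶ K), g = 0 := by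
    intro n g
    apply (hbij _ K hK).1
    exact (h0 n _).trans (h0 n _).symm
  obtain ⟨e⟩ := hO
  have h2 : IsZero (R'.obj K) := by
    refine hP₀ _ fun n x => ?_
    apply (adj.homEquiv _ _).symm.injective
    have h3 : (adj.homEquiv _ _).symm x = ((Φ.commShiftIso n).hom.app P₀ ≫ e.hom⟦n⟧' ≫
        (Λ.mapDerivedCategory.commShiftIso n).inv.app O) ≫ (((Λ.mapDerivedCategory.commShiftIso n).hom.app O ≫
          e.inv⟦n⟧' ≫ (Φ.commShiftIso n).inv.app P₀) ≫ (adj.homEquiv _ _).symm x) := by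
      simp
    have : Φ.Additive := inferInstance
    rw [h3, h1 n (((Λ.mapDerivedCategory.commShiftIso n).hom.app O ≫
          e.inv⟦n⟧' ≫ (Φ.commShiftIso n).inv.app P₀) ≫ (adj.homEquiv _ _).symm x), comp_zero]
    rw [Adjunction.homEquiv_counit, Φ.map_zero, zero_comp]
  obtain ⟨N, ⟨e'⟩⟩ := hΦ G hG
  have h4 : g = 0 := by
    have h5 : e'.inv ≫ g = 0 := by
      apply (adj.homEquiv _ _).injective
      exact h2.eq_of_tgt _ _
    rw [← cancel_epi e'.inv, h5, comp_zero]
  change (derUnit η).app G ≫ g = 0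
  rw [h4, comp_zero]

end Good

section Main

open LocAbs DerNat

variable {A : Type u} [Category.{v} A] [Abelian A] [HasDerivedCategory.{w} A]
  {D : Type u'} [Category.{w} D] [Preadditive D] [HasZeroObject D] [HasShift D ℤ]
  [∀ n : ℤ, (shiftFunctor D n).Additive] [Pretriangulated D]
  {F : DerivedCategory A ⥤ D} [F.CommShift ℤ] [F.IsTriangulated] {R : D ⥤ DerivedCategory A} (adj : F ⊣ R)
  (S : ObjectProperty A) [WSerre.IsWeakSerre S] (O : DerivedCategory A)

section One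

variable {Λ : A ⥤ A} [Λ.Additive] [PreservesFiniteLimits Λ] [PreservesFiniteColimits Λ] (η : 𝟭 A ⟶ Λ)

lemma cohIn_ext₃ (P : ObjectProperty A) [WSerre.IsWeakSerre P] (T : Triangle (DerivedCategory A)) (hT : T ∈ distTriang _)
    (h₁ : WSerre.cohIn P T.obj₁) (h₂ : WSerre.cohIn P T.obj₂) : WSerre.cohIn P T.obj₃ :=
  K578.CohDev.cohIn_ext₂ P T.rotate (rot_of_distTriang _ hT) h₂ (K578.CohDev.cohIn_shift P _ 1 h₁)

include adj in
lemma bij_of_local (hgood : Good η S O) (E : DerivedCategory A)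
    (hE' : WSerre.cohIn (Loc η) E) (hRE : WSerre.cohIn (Loc η) (R.obj (F.obj E)))
    (hO : ∀ n : ℤ, Bij F (O⟦n⟧) E) (G : DerivedCategory A) (hG : WSerre.cohIn S G) : Bij F G E := by
  obtain ⟨K, g, h, hT⟩ := distinguished_cocone_triangle (adj.unit.app E)
  have hK : WSerre.cohIn (Loc η) K := cohIn_ext₃ (Loc η) _ hT hE' hRE
  have h0 := fun n f => hom_cone_eq_zero adj g h hT O hO n f
  exact bij_of_cone adj g h hT G (hgood K hK h0 G hG) (hgood K hK h0 _ (K578.CohDev.cohIn_shift S G 1 hG))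

end One

variable {ι : Type*} [Finite ι] (Λ : ι → A ⥤ A) [∀ i, (Λ i).Additive] [∀ i, PreservesFiniteLimits (Λ i)]
  [∀ i, PreservesFiniteColimits (Λ i)] (η : ∀ i, 𝟭 A ⟶ Λ i)

include adj in
theorem bij_of_family (hΛη : ∀ i M, IsIso ((Λ i).map ((η i).app M))) (hηΛ : ∀ i M, IsIso ((η i).app ((Λ i).obj M)))
    (hS : ∀ i M, S M → S ((Λ i).obj M))
    (hcomm : ∀ i j M, IsZero ((Λ i).obj M) → IsZero ((Λ i).obj ((Λ j).obj M)))
    (hzero : ∀ M, S M → (∀ i, IsZero ((Λ i).obj M)) → IsZero M)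
    (hgood : ∀ i, Good (η i) S O)
    (hT : ∀ i E, WSerre.cohIn S E → WSerre.cohIn (Loc (η i)) E → WSerre.cohIn (Loc (η i)) (R.obj (F.obj E)))
    (hO : ∀ E, WSerre.cohIn S E → ∀ n : ℤ, Bij F (O⟦n⟧) E)
    (G E : DerivedCategory A) (hG : WSerre.cohIn S G) (hE : WSerre.cohIn S E) : Bij F G E := by
  classical
  have := Fintype.ofFinite ι
  -- induction on the number of indices for which `Λ_i E` may be non-zero
  have key : ∀ (s : Finset ι) (E : DerivedCategory A), WSerre.cohIn S E →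
      (∀ i, i ∉ s → IsZero ((Λ i).mapDerivedCategory.obj E)) → ∀ n : ℤ, Bij F G (E⟦n⟧) := by
    intro s
    induction s using Finset.induction_on with
    | empty =>
      intro E hE h n
      have h1 : IsZero E := by
        rw [isZero_iff]
        intro m
        refine hzero _ (hE m) fun i => ?_
        exact (isZero_mapDer_iff (Λ i) E).1 (h i (by simp)) m
      have h2 : IsZero (E⟦n⟧) := (shiftFunctor _ n).map_isZero h1
      have h3 : IsZero (F.obj (E⟦n⟧)) := F.map_isZero h2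
      exact ⟨fun _ _ _ => h2.eq_of_tgt _ _, fun _ => ⟨0, h3.eq_of_tgt _ _⟩⟩
    | insert i s hi ih =>
      intro E hE h n
      obtain ⟨C, g, f, hT'⟩ := distinguished_cocone_triangle ((derUnit (η i)).app E)
      have hΛE : WSerre.cohIn S ((Λ i).mapDerivedCategory.obj E) := fun m =>
        S.prop_of_iso (Groth.Agent.Dcoh.MapDer.homologyMapDerApp (Λ i) m E).symm (hS i _ (hE m))
      have hC : WSerre.cohIn S C := cohIn_ext₃ S _ hT' hE hΛE
      refine bij_of_triangle F _ hT' G (fun m => ?_) (ih C hC fun j hj => ?_) n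
      · change Bij F G (((Λ i).mapDerivedCategory.obj E)⟦m⟧)
        have hΛm := K578.CohDev.cohIn_shift S _ m hΛE
        have hloc := K578.CohDev.cohIn_shift (Loc (η i)) _ m (cohIn_loc_map (η i) (hηΛ i) E)
        exact bij_of_local adj S O (η i) (hgood i) _ hloc (hT i _ hΛm hloc) (hO _ hΛm) G hG
      · have hT2 := ((Λ j).mapDerivedCategory).map_distinguished _ hT'
        by_cases hji : j = i
        · subst hji
          have h1 := isIso_map_derUnit (η j) (hΛη j) E
          exact (Triangle.isZero₃_iff_isIso₁ _ hT2).2 h1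
        · have h1 := h j (by simp [hji, hj])
          have h2 : IsZero ((Λ j).mapDerivedCategory.obj ((Λ i).mapDerivedCategory.obj E)) := by
            rw [isZero_mapDer_iff] at h1 ⊢
            intro m
            exact ((Λ j).mapIso (Groth.Agent.Dcoh.MapDer.homologyMapDerApp (Λ i) m E)).isZero_iff.2
              (hcomm j i _ (h1 m))
          exact Triangle.isZero₃_of_isZero₁₂ _ hT2 h1 h2
  exact (key Finset.univ E hE (fun i hi => (hi (Finset.mem_univ i)).elim) 0).iso_right ((shiftFunctorZero _ ℤ).app E)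

end Main

end K182.FFAbs
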