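import Groth.Agent.FSch.K182.SchLoc

/-!
# Full faithfulness of `f^*` on complexes with quasi-coherent cohomology

`X` a Noetherian separated scheme, `f` a morphism of ringed sites to `X` with `f^*` and `f_*` exact.  If
`Hom(O[n], E) = Hom(f^* O[n], f^* E)` for all `E` with quasi-coherent cohomology then `f^*` is fully faithful on the
complexes with quasi-coherent cohomology.
-/

set_option autoImplicit false
set_option linter.style.haveILetI false
universe u

open CategoryTheory CategoryTheory.Limits Opposite TopologicalSpace MonoidalCategory AlgebraicGeometry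
attribute [local instance] HasDerivedCategory.standard

noncomputable section

namespace K182.FFSch

open K29.RSec K181.BC K181.Good K181.Pre K182.OpenLoc K182.PhiF K182.SchCart K182.SchLoc
open scoped K291.Mon K291.PullMon

section Gen

variable {T : TopCat.{u}} {R : Sheaf (Opens.grothendieckTopology T) CommRingCat.{u}}

lemma isZero_tensor (A : Mod R) {Z : Mod R} (hZ : IsZero Z) : IsZero (A ⊗ Z) :=
  (tensorLeft A).map_isZero hZ

/-- Vanishing is preserved by the other localization functors. -/
lemma isZero_comm (A A' M : Mod R) (h : IsZero (A ⊗ M)) : IsZero (A ⊗ (A' ⊗ M)) := by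
  refine (isZero_tensor A' h).of_iso ?_
  exact (α_ A A' M).symm ≪≫ whiskerRightIso (β_ A A') M ≪≫ α_ A' A M

end Gen

variable {X : Scheme.{u}}

lemma sec_eq_zero {M : Mod (RX X)} (h : IsZero M) {V : X.Opens} (z : Sec (R := RX X) M V) : z = 0 :=
  congrArg (fun t : M ⟶ M => app (R := RX X) t V z) ((IsZero.iff_id_eq_zero M).1 h)

lemma isZero_of_cover {ι : Type*} (U : ι → X.Opens) (hU : ∀ x, ∃ i, x ∈ U i) {M : Mod (RX X)}
    (h : ∀ i, IsZero ((J (R := RX X) (U i)).obj M)) : IsZero M := by
  rw [IsZero.iff_id_eq_zero]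
  refine K29.RSec.hom_ext (R := RX X) fun V s => ?_
  change s = (0 : Sec (R := RX X) M V)
  refine eq_of_locally (R := RX X) M (fun i => U i ⊓ V) V ?_ (fun i => inf_le_right) s 0 fun i => ?_
  · intro x hx
    obtain ⟨i, hi⟩ := hU x
    exact Opens.mem_iSup.2 ⟨i, hi, hx⟩
  · have h1 := sec_eq_zero (h i) (V := V) (toJ (R := RX X) (U i) (res (R := RX X) M inf_le_right s))
    rw [map_zero]
    exact h1

variable {C : Type u} [SmallCategory C] {K : GrothendieckTopology C} {O : Sheaf K CommRingCat.{u}}
  (f : ModSite.RMor O (RX X)) [PreservesFiniteLimits f.pull] [PreservesFiniteColimits f.push]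

/-- The derived adjunction. -/
def adj : SiteCmp.pullD f ⊣ f.push.mapDerivedCategory := Groth.Agent.CohtopB.ExactDerAdj.derivedAdj f.adj

/-- Full faithfulness from the case of the structure sheaf. -/
theorem bij [X.IsSeparated] [IsNoetherian X]
    (hO : ∀ E, WSerre.cohIn (qc X) E → ∀ n : ℤ,
      FFAbs.Bij (SiteCmp.pullD f) (((DerivedCategory.singleFunctor (Mod (RX X)) 0).obj (ModSite.unit (RX X)))⟦n⟧) E)
    (G E : DerivedCategory (Mod (RX X))) (hG : WSerre.cohIn (qc X) G) (hE : WSerre.cohIn (qc X) E) :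
    FFAbs.Bij (SiteCmp.pullD f) G E := by
  obtain ⟨ι, hι, U, hU⟩ := Groth.Agent.PerfC.QCohInj.exists_finite_affine_cover X
  have i1 : ∀ i, PreservesFiniteLimits (tensorLeft (AU (RX X) (U i).1)) := fun i =>
    GoodLoc.preservesFiniteLimits_tensorLeft (SchLoc.isFlat_AU (U i).2)
  have i2 : ∀ i, IsIso (AU (RX X) (U i).1 ◁ uA (RX X) (U i).1) := fun i => isIso_uA (U i).2
  refine FFAbs.bij_of_family (adj f) (qc X) ((DerivedCategory.singleFunctor (Mod (RX X)) 0).obj (ModSite.unit (RX X)))
    (fun i => tensorLeft (AU (RX X) (U i).1)) (fun i => Idem.η (uA (RX X) (U i).1))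
    (fun i M => Idem.isIso_left _ M) (fun i M => Idem.isIso_app_left _ M) (fun i M hM => ?_) (fun i j M hM => ?_)
    (fun M hM h => ?_) (fun i => SchLoc.good (U i).2) (fun i E _ hE => ?_) hO G E hG hE
  · have := SchLoc.isIso_TT (U i).2 hM
    exact (qc X).prop_of_iso (asIso (TT (R := RX X) (U i).1 M)).symm (isQCoh_J (U i).1 hM)
  · exact isZero_comm _ _ _ hM
  · refine isZero_of_cover (fun i => (U i).1) hU fun i => ?_
    have := SchLoc.isIso_TT (U i).2 hM
    exact (h i).of_iso (asIso (TT (R := RX X) (U i).1 M)).symm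
  · intro n
    refine (LocAbs.Loc (Idem.η (uA (RX X) (U i).1))).prop_of_iso ?_
      (Idem.isIso_push (uA (RX X) (U i).1) f.pull f.adj ((DerivedCategory.homologyFunctor _ n).obj E) (hE n))
    exact f.push.mapIso (Groth.Agent.Dcoh.MapDer.homologyMapDerApp f.pull n E).symm ≪≫
      (Groth.Agent.Dcoh.MapDer.homologyMapDerApp f.push n _).symm

end K182.FFSch
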