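import Groth.Agent.FSch.K182.PhiF
import Groth.Agent.FSch.K182.FFAbs
import Groth.Agent.FSch.K180.DerAdj
import Groth.Agent.SiteCmp.K578.Der
import Groth.Agent.LoccohB.RpushTri

/-!
# `Good` for the localization functors `𝒜 ⊗ -`
-/

set_option autoImplicit false
set_option linter.style.haveILetI false
universe u

open CategoryTheory CategoryTheory.Limits Opposite TopologicalSpace MonoidalCategory
open scoped TensorProduct
attribute [local instance] HasDerivedCategory.standard

noncomputable section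

namespace K182.GoodLoc

open K29.RSec K181.BC K181.Good K181.Pre K182.OpenLoc K182.PhiF K182.FFAbs Groth.Agent.Dcoh.MapDer Groth.Agent.CohtopA
open scoped K291.Mon

variable {T : TopCat.{u}} {R : Sheaf (Opens.grothendieckTopology T) CommRingCat.{u}} (U : Opens T)

theorem preservesFiniteLimits_tensorLeft {F : Mod R} (h : ModSite.IsFlat F) : PreservesFiniteLimits (tensorLeft F) := by
  have h1 : PreservesFiniteColimits (tensorLeft F) := PreservesColimitsOfSize.preservesFiniteColimits.{u, u} _
  rw [K295.FlatCrit.preservesMono_iff_preservesFiniteLimits]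
  exact ⟨fun f hf => (K295.FlatCrit.isFlat_iff_mono_left F).1 h f hf⟩

instance (F : Mod R) : PreservesFiniteColimits (tensorLeft F) := PreservesColimitsOfSize.preservesFiniteColimits.{u, u} _

instance (F : Mod R) : (tensorLeft F).Additive := by
  have : PreservesColimitsOfShape (Discrete PEmpty.{1}) (tensorLeft F) :=
    PreservesFiniteColimits.preservesFiniteColimits _
  have : PreservesColimit (Functor.empty.{0} _) (tensorLeft F) := inferInstance
  have : (tensorLeft F).PreservesZeroMorphisms :=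
    @Functor.preservesZeroMorphisms_of_preserves_initial_object _ _ _ _ _ _ _ _ (tensorLeft F) inferInstance
  have : PreservesBinaryBiproducts (tensorLeft F) := preservesBinaryBiproducts_of_preservesBinaryCoproducts _
  exact Functor.additive_of_preservesBinaryBiproducts _

section

variable {B : Set (Opens T)} (hB : Opens.IsBasis B)

include hB in
/-- `Φ(O(U)) = 𝒜`. -/
theorem nonempty_iso_unit : Nonempty ((Φ R U).obj (ModuleCat.of (O R U) (O R U)) ≅ (tensorLeft (AU R U)).obj (ModSite.unit R)) := by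
  have h1 : IsIso ((PhiF.cmp (R := R) U).app (ModSite.unit R)) := PhiF.isIso_cmp U hB fun V _ =>
    IsBC.self (resS (ModSite.unit R) (inf_le_left : U ⊓ V ≤ U)) (fun _ => rfl)
  exact ⟨(@asIso _ _ _ _ _ h1) ≪≫ (ρ_ (AU R U)).symm⟩

end

instance preservesFiniteLimits_ΓU : PreservesFiniteLimits (ΓU R U) := by
  have : PreservesFiniteLimits (SheafOfModules.evaluation.{u} (ringSheaf R) (op U)) := inferInstance
  exact this

instance additive_ΓU : (ΓU R U).Additive where
  map_add := rfl

section Main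

variable (S : ObjectProperty (Mod R)) [S.ContainsZero] [S.IsClosedUnderKernels] [S.IsClosedUnderCokernels]
  [S.IsClosedUnderFiniteProducts] [PreservesFiniteLimits S.ι] [PreservesFiniteColimits S.ι]

/-- Exactness of the sections over `U` on the class `S`. -/
theorem preservesFiniteColimits_ι_ΓU 
    (hsurj : ∀ {M N : Mod R} (f : M ⟶ N), S M → S N → Epi f → Function.Surjective (app f U)) :
    PreservesFiniteColimits (S.ι ⋙ ΓU R U) := by
  rw [Functor.preservesFiniteColimits_iff_forall_exact_map_and_epi]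
  intro C hC
  refine ⟨((Functor.preservesFiniteLimits_iff_forall_exact_map_and_mono (S.ι ⋙ ΓU R U)).1 inferInstance C hC).1, ?_⟩
  have := hC.epi_g
  have h : Epi (S.ι.map C.g) := inferInstance
  rw [ModuleCat.epi_iff_surjective]
  exact hsurj (S.ι.map C.g) C.X₂.2 C.X₃.2 h

variable {B : Set (Opens T)} (hB : Opens.IsBasis B)
  (hf : ∀ V ∈ B, (resO (R := R) (inf_le_right : U ⊓ V ≤ V)).Flat)
  (hf' : ∀ V ∈ B, (resO (R := R) (inf_le_left : U ⊓ V ≤ U)).Flat)
  (h1 : ∀ M, S M → ∀ V ∈ B, IsBC (resO (inf_le_left : U ⊓ V ≤ U)) (resS M (inf_le_left : U ⊓ V ≤ U)))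
  (h2 : ∀ M, S M → ∀ V ∈ B, IsBC (resO (inf_le_right : U ⊓ V ≤ V)) (resS M (inf_le_right : U ⊓ V ≤ V)))
  (hA : ∀ V ∈ B, IsBC (resO (inf_le_right : U ⊓ V ≤ V)) (resS (AU R U) (inf_le_right : U ⊓ V ≤ V)))
  (hsurj : ∀ {M N : Mod R} (f : M ⟶ N), S M → S N → Epi f → Function.Surjective (app f U))
  (hess : ∀ G, WSerre.cohIn S G → ∃ G', Nonempty (S.ι.mapDerivedCategory.obj G' ≅ G))

include hB hf' h1 h2 hA hsurj hess in
theorem good [PreservesFiniteLimits (tensorLeft (AU R U))] : 
    Good (Λ := tensorLeft (AU R U)) (Idem.η (uA R U)) S ((DerivedCategory.singleFunctor (Mod R) 0).obj (ModSite.unit R)) := by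
  letI hD : HasDerivedCategory.{u} (ModuleCat.{u} (O R U)) := DModRing.hasDerivedCategory (O R U)
  have i1 : PreservesFiniteColimits (S.ι ⋙ ΓU R U) := preservesFiniteColimits_ι_ΓU U S hsurj
  have i2 : PreservesFiniteLimits (Φ R U) := preservesFiniteLimits_Φ U hB hf'
  obtain ⟨e⟩ := nonempty_iso U S hB h1 h2
  have i3 : IsIso (AU R U ◁ uA R U) := isIso_whiskerLeft_uA U hB hA
  have hG : IsGrothendieckAbelian.{u} (Mod R) := K578.Der.isGrothendieckAbelian R
  have hLS : LocallySmall.{u} (DerivedCategory (Mod R)) :=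
    Groth.Agent.LoccohB.RpushTri.locallySmall_derivedCategory (K578.Der.hasKInj R)
  have i4 : ∀ (J : Type u), PreservesColimitsOfShape (Discrete J) (Φ R U).mapDerivedCategory := fun J =>
    ExactDer.preservesCoproducts_mapDerivedCategory (Φ R U) J
  have i5 := K180.DerAdj.isLeftAdjoint (Φ R U).mapDerivedCategory
  refine good_of (Idem.η (uA R U)) S _ (Φ R U).mapDerivedCategory (Adjunction.ofIsLeftAdjoint _)
    ((DerivedCategory.singleFunctor (ModuleCat.{u} (O R U)) 0).obj (ModuleCat.of (O R U) (O R U)))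
    (fun M hM => ?_) (fun M => Idem.isIso_left (uA R U) M) (fun G hG => ?_) ?_
  · refine isZero_of_generates _ M (fun h => ?_) hM
    exact DModRing.generates_single (O R U) M fun _ n f => h n f
  · obtain ⟨G', ⟨e'⟩⟩ := hess G hG
    refine ⟨(S.ι ⋙ ΓU R U).mapDerivedCategory.obj G', ⟨?_⟩⟩
    exact (tensorLeft (AU R U)).mapDerivedCategory.mapIso e'.symm ≪≫ (mapDerComp S.ι (tensorLeft (AU R U))).app G' ≪≫
      (mapDerIso e).app G' ≪≫ ((mapDerComp (S.ι ⋙ ΓU R U) (Φ R U)).app G').symm
  · obtain ⟨e0⟩ := nonempty_iso_unit (R := R) U hB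
    exact ⟨((Φ R U).mapDerivedCategorySingleFunctor 0).app _ ≪≫ (DerivedCategory.singleFunctor _ 0).mapIso e0 ≪≫
      (((tensorLeft (AU R U)).mapDerivedCategorySingleFunctor 0).app _).symm⟩

end Main

end K182.GoodLoc
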