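import Groth.Agent.FSch.K182.PushColim
import Groth.Agent.CohtopB.TopStalk
import Groth.Agent.CohtopA.HTop
import Groth.Agent.CohtopA.ColimCohomology
import Groth.Agent.FormalA.ColimOpen

/-!
# Cohomology and direct images along closed embeddings commute with filtered colimits
-/

set_option autoImplicit false
universe u v

open CategoryTheory CategoryTheory.Limits Opposite TopologicalSpace

namespace K182.HColim

open Groth.Agent.CohtopB.TopPull Groth.Agent.CohtopB.TopStalk

section Push

variable {Z X : TopCat.{u}} (f : Z ⟶ X) (hf : Topology.IsClosedEmbedding f)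

include hf in
/-- `f_*` preserves colimits for a closed embedding `f`. -/
theorem preservesColimitsOfShape_push (J : Type u) [SmallCategory J] :
    PreservesColimitsOfShape J (CohTop.push f) := by
  refine ⟨fun {D} => ?_⟩
  refine PushColim.preservesColimit_of_isIso_unit (adj f) (isIso_counit_of_isInducing f hf.isInducing) D
    (colimit.cocone (D ⋙ CohTop.push f)) (colimit.isColimit _) ?_
  refine isIso_unit_of_isClosedEmbedding f hf _ fun x hx => ?_
  have h1 : IsColimit ((stalkF x).mapCocone (colimit.cocone (D ⋙ CohTop.push f))) :=
    isColimitOfPreserves (stalkF x) (colimit.isColimit _)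
  have h2 : ∀ j, IsZero (((D ⋙ CohTop.push f) ⋙ stalkF x).obj j) := fun j =>
    isZero_stalk_push f (D.obj j) x (by rwa [hf.isClosed_range.closure_eq])
  change IsZero ((stalkF x).mapCocone (colimit.cocone (D ⋙ CohTop.push f))).pt
  rw [IsZero.iff_id_eq_zero]
  exact h1.hom_ext fun j => (h2 j).eq_of_src _ _

end Push

section H

variable {X : TopCat.{u}}

/-- `H^n(X, -)` is the section over the whole space of the cohomology presheaf functor. -/
noncomputable def isoTop (n : ℕ) : (Sheaf.functorH (Opens.grothendieckTopology X) n :
    CohTop.Ab X ⥤ AddCommGrpCat.{u}) ≅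
      (Sheaf.cohomologyPresheafFunctor (Opens.grothendieckTopology X) n).flip.obj (op ⊤) :=
  NatIso.ofComponents (fun F => (Groth.Agent.CohtopA.HTop.HAddEquiv (Opens.grothendieckTopology X)
    isTerminalTop F n).toAddCommGrpIso) (by
      intro F G φ
      ext x
      exact Groth.Agent.CohtopA.HTop.HAddEquiv_map (Opens.grothendieckTopology X) isTerminalTop n φ x)

/-- `H^n(X, -)` commutes with filtered colimits. -/
theorem preservesColimitsOfShape_functorH [PrespectralSpace X] [QuasiSeparatedSpace X] [CompactSpace X]
    (J : Type u) [SmallCategory J] [IsFiltered J] (n : ℕ) :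
    PreservesColimitsOfShape J (Sheaf.functorH (Opens.grothendieckTopology X) n :
      CohTop.Ab X ⥤ AddCommGrpCat.{u}) := by
  have h : PreservesColimitsOfShape J
      ((Sheaf.cohomologyPresheafFunctor (Opens.grothendieckTopology X) n).flip.obj (op ⊤) :
        CohTop.Ab X ⥤ AddCommGrpCat.{u}) :=
    Groth.Agent.CohtopA.ColimCohomology.preservesColimitsOfShape_cohomology (isCompact_univ (X := X)) n
  exact preservesColimitsOfShape_of_natIso (isoTop n).symm

end H

end K182.HColim
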