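import Mathlib.CategoryTheory.Monoidal.Functor
import Mathlib.CategoryTheory.Monoidal.Braided.Basic
import Mathlib.CategoryTheory.Monoidal.Preadditive
import Mathlib.CategoryTheory.MorphismProperty.Retract

/-!
# Idempotent algebras in symmetric monoidal categories
-/

set_option autoImplicit false

universe v v' u u'

open CategoryTheory Category MonoidalCategory

namespace K182.Idem

variable {C : Type u} [Category.{v} C] [MonoidalCategory C] {A : C} (u : 𝟙_ C ⟶ A)

/-- `M ⟶ A ⊗ M`. -/
@[simps]
def η : 𝟭 C ⟶ tensorLeft A where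
  app M := (λ_ M).inv ≫ u ▷ M
  naturality M N f := by
    dsimp
    rw [assoc, ← whisker_exchange, ← assoc, ← assoc, ← leftUnitor_inv_naturality]

lemma isIso_left [IsIso (A ◁ u)] (M : C) : IsIso ((tensorLeft A).map ((η u).app M)) := by
  have h : A ◁ (u ▷ M) = (α_ A _ M).inv ≫ (A ◁ u) ▷ M ≫ (α_ A A M).hom := by
    rw [whisker_assoc]
    simp
  change IsIso (A ◁ ((λ_ M).inv ≫ u ▷ M))
  rw [MonoidalCategory.whiskerLeft_comp, h]
  infer_instance

lemma isIso_right [BraidedCategory C] [IsIso (A ◁ u)] : IsIso (u ▷ A) := by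
  have h : u ▷ A = (β_ _ A).hom ≫ A ◁ u ≫ (β_ A A).inv := by
    rw [← assoc, ← BraidedCategory.braiding_naturality_left, assoc, Iso.hom_inv_id, comp_id]
  rw [h]
  infer_instance

lemma isIso_app_left [BraidedCategory C] [IsIso (A ◁ u)] (M : C) : IsIso ((η u).app ((tensorLeft A).obj M)) := by
  have := isIso_right u
  have h : u ▷ (A ⊗ M) = (α_ _ A M).inv ≫ (u ▷ A) ▷ M ≫ (α_ A A M).hom := by
    rw [whiskerRight_tensor]
  change IsIso ((λ_ (A ⊗ M)).inv ≫ u ▷ (A ⊗ M))
  rw [h]
  infer_instance

/-- An object with a retraction of `η` is local. -/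
lemma isIso_of_retraction [BraidedCategory C] [IsIso (A ◁ u)] (N : C) (r : A ⊗ N ⟶ N)
    (hr : (η u).app N ≫ r = 𝟙 N) : IsIso ((η u).app N) := by
  have h1 : RetractArrow ((η u).app N) ((η u).app ((tensorLeft A).obj N)) :=
    { i := Arrow.homMk ((η u).app N) ((tensorLeft A).map ((η u).app N)) ((η u).naturality ((η u).app N))
      r := Arrow.homMk r ((tensorLeft A).map r) ((η u).naturality r)
      retract := by
        ext
        · exact hr
        · exact ((tensorLeft A).map_comp _ _).symm.trans ((congrArg _ hr).trans ((tensorLeft A).map_id _)) }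
  have h2 := isIso_app_left u N
  exact (MorphismProperty.isomorphisms C).of_retract h1 h2

section Functor

variable {D : Type u'} [Category.{v'} D] [MonoidalCategory D] (F : C ⥤ D) [F.Monoidal] {R : D ⥤ C} (adj : F ⊣ R)

open Functor.LaxMonoidal Functor.OplaxMonoidal

include adj in
/-- `R F` preserves local objects. -/
theorem isIso_push [BraidedCategory C] [IsIso (A ◁ u)] (M : C) (hM : IsIso ((η u).app M)) :
    IsIso ((η u).app (R.obj (F.obj M))) := by
  have hM' : IsIso (F.map ((η u).app M)) := inferInstance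
  let N := R.obj (F.obj M)
  let r' : F.obj (A ⊗ N) ⟶ F.obj M := δ F A N ≫ F.obj A ◁ adj.counit.app (F.obj M) ≫ μ F A M ≫
    inv (F.map ((η u).app M))
  have key : F.map ((λ_ N).inv ≫ u ▷ N) ≫ r' = adj.counit.app (F.obj M) := by
    rw [← cancel_mono (F.map ((η u).app M))]
    dsimp only [r']
    rw [assoc, assoc, assoc, assoc, IsIso.inv_hom_id, comp_id]
    dsimp [η]
    have h1 : F.map (λ_ N).inv ≫ δ F (𝟙_ C) N = (λ_ (F.obj N)).inv ≫ (Functor.LaxMonoidal.ε F) ▷ F.obj N := by
      simp
    have h2 : F.map (λ_ M).inv = (λ_ (F.obj M)).inv ≫ (Functor.LaxMonoidal.ε F) ▷ F.obj M ≫ μ F (𝟙_ C) M := by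
      rw [Functor.LaxMonoidal.left_unitality_inv]
    rw [F.map_comp, F.map_comp, assoc, ← δ_natural_left_assoc, reassoc_of% h1, h2, ← whisker_exchange_assoc,
      ← whisker_exchange_assoc, assoc, assoc, ← μ_natural_left]
    have h3 := leftUnitor_inv_naturality (adj.counit.app (F.obj M))
    dsimp only [Functor.comp_obj, Functor.id_obj] at h3
    rw [reassoc_of% h3]
  refine isIso_of_retraction u N ((adj.homEquiv _ _) r') ?_
  apply (adj.homEquiv _ _).symm.injective
  refine (adj.homEquiv_naturality_left_symm _ _).trans ?_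
  refine (congrArg _ (Equiv.symm_apply_apply _ r')).trans ?_
  refine key.trans ?_
  rw [Adjunction.homEquiv_counit]
  exact ((congrArg (· ≫ adj.counit.app (F.obj M)) (F.map_id N)).trans (id_comp _)).symm

end Functor

end K182.Idem
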