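import Groth.Agent.FSch.K182.FFAbs
import Groth.Agent.Etbc.H181.HyperExt
import Groth.Agent.CohtopA.PushCan

/-!
# Full faithfulness of an exact functor on `Hom(P[n], K)` from the bijectivity of `Ext^n(P, M) → Ext^n(P, R L M)`
-/

set_option autoImplicit false
set_option linter.unusedSectionVars false
universe w v u t t' w' v' u'

open CategoryTheory CategoryTheory.Limits

namespace K182.K4Abs

open Groth.Agent.CohtopA.ExtAdj Groth.Agent.CohtopA.PushCan Abelian

section ExtAdj

variable {A : Type u} [Category.{v} A] [Abelian A] {B : Type u'} [Category.{v'} B] [Abelian B]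
  [HasExt.{w} A] [HasExt.{w'} B] {L : B ⥤ A} {R : A ⥤ B} (adj : L ⊣ R) [L.Additive] [R.Additive]
  [PreservesFiniteLimits L] [PreservesFiniteColimits L] [PreservesFiniteLimits R] [PreservesFiniteColimits R]

/-- The map on `Ext` is the composition with the unit followed by `extAdj`. -/
lemma extAdj_unit (X Y : B) (n : ℕ) (e : Ext X Y n) :
    extAdj adj X (L.obj Y) n (e.comp (Ext.mk₀ (adj.unit.app Y)) (add_zero n)) = e.mapExactFunctor L := by
  rw [extAdj_apply, Ext.mapExactFunctor_comp, Ext.mapExactFunctor_mk₀, Ext.comp_assoc_of_second_deg_zero,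
    Ext.mk₀_comp_mk₀]
  refine (congrArg (fun t => (e.mapExactFunctor L).comp (Ext.mk₀ t) (add_zero n))
    (adj.left_triangle_components Y)).trans ?_
  exact Ext.comp_mk₀_id _

/-- For exact `L ⊣ R`, `Ext^n(X, R Y) = Ext^n(L X, Y)`. -/
theorem extAdj_bijective' [EnoughInjectives A] (X : B) (Y : A) (n : ℕ) :
    Function.Bijective (extAdj adj X Y n) := by
  induction n generalizing Y with
  | zero => exact extAdj_zero_bijective adj X Y
  | succ n ih =>
    let I : InjectivePresentation Y := Classical.arbitrary _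
    let S := ShortComplex.mk _ _ (cokernel.condition I.f)
    have : Injective S.X₂ := I.injective
    have hS : S.ShortExact := { exact := ShortComplex.exact_cokernel I.f }
    exact extAdj_succ_bijective_of_shortExact adj hS (hS.map_of_exact R) X n (ih S.X₃) (ih S.X₂).2

theorem mapExactFunctor_bijective [EnoughInjectives A] (X Y : B) (n : ℕ)
    (h : Function.Bijective (fun e : Ext X Y n => e.comp (Ext.mk₀ (adj.unit.app Y)) (add_zero n))) :
    Function.Bijective (Ext.mapExactFunctor L : Ext.{w'} X Y n → Ext.{w} (L.obj X) (L.obj Y) n) := by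
  have h1 : (Ext.mapExactFunctor L : Ext.{w'} X Y n → Ext.{w} (L.obj X) (L.obj Y) n) =
      extAdj adj X (L.obj Y) n ∘ (fun e : Ext X Y n => e.comp (Ext.mk₀ (adj.unit.app Y)) (add_zero n)) :=
    funext fun e => (extAdj_unit adj X Y n e).symm
  rw [h1]
  exact (extAdj_bijective' adj X (L.obj Y) n).comp h

end ExtAdj

section Bdd

open Groth.Agent.Etbc.H181.HyperExt Groth.Agent.Etbc.H181.HyperDev DerivedCategory

variable {A : Type u} [Category.{v} A] [Abelian A] [HasDerivedCategory.{w} A]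
  {B : Type u'} [Category.{v'} B] [Abelian B] [HasDerivedCategory.{w} B]
  (E : A ⥤ B) [E.Additive] [PreservesFiniteLimits E] [PreservesFiniteColimits E]

/-- Full faithfulness on `Hom(P[n], K)` for bounded below `K`, from the cohomology objects. -/
theorem bij_of_ext [HasExt.{t} A] [HasExt.{t'} B] (P : A) (K : DerivedCategory A) (a : ℤ) [K.IsGE a]
    (h : ∀ (i : ℤ) (n : ℕ), Function.Bijective (Ext.mapExactFunctor E :
      Ext.{t} P ((homologyFunctor A i).obj K) n → Ext.{t'} (E.obj P) (E.obj ((homologyFunctor A i).obj K)) n))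
    (n : ℤ) : FFAbs.Bij E.mapDerivedCategory (((singleFunctor A 0).obj P)⟦n⟧) K := by
  have h1 := comp_of_ext E P (-n) K a (fun i k _ _ => (h i k).1) (fun i k _ _ => (h i k).2)
  have h2 : FFAbs.Bij E.mapDerivedCategory ((singleFunctor A 0).obj P) (K⟦-n⟧) :=
    ⟨h1.inj (-n) (by lia), h1.surj (-n) le_rfl⟩
  exact (h2.shift n).iso_right ((shiftFunctorCompIsoId _ (-n) n (by lia)).app K)



/-- The case where the first object of the triangle does not contribute. -/
theorem bij_of_tri {C : Type u} [Category.{v} C] [Preadditive C] [HasZeroObject C] [HasShift C ℤ]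
    [∀ n : ℤ, (shiftFunctor C n).Additive] [Pretriangulated C]
    {D : Type u'} [Category.{v} D] [Preadditive D] [HasZeroObject D] [HasShift D ℤ]
    [∀ n : ℤ, (shiftFunctor D n).Additive] [Pretriangulated D]
    (F : C ⥤ D) [F.CommShift ℤ] [F.IsTriangulated] (T : Pretriangulated.Triangle C)
    (hT : T ∈ Pretriangulated.distinguishedTriangles) (G : C) (h3 : FFAbs.Bij F G T.obj₃)
    (z1 : ∀ x : G ⟶ T.obj₁, x = 0) (z2 : ∀ x : G ⟶ T.obj₁⟦(1 : ℤ)⟧, x = 0)
    (z3 : ∀ x : F.obj G ⟶ F.obj T.obj₁, x = 0) : FFAbs.Bij F G T.obj₂ := by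
  have : F.Additive := F.additive_of_preserves_binary_products
  constructor
  · intro f g hfg
    rw [← sub_eq_zero]
    have h0 : F.map (f - g) = 0 := by
      rw [F.map_sub]
      exact sub_eq_zero.2 hfg
    have h1 : (f - g) ≫ T.mor₂ = 0 := by
      apply h3.1
      change F.map _ = F.map _
      rw [F.map_comp, h0, zero_comp, F.map_zero]
    obtain ⟨x, hx⟩ := Pretriangulated.Triangle.coyoneda_exact₂ T hT _ h1
    rw [hx, z1 x, zero_comp]
  · intro g
    obtain ⟨h, hh⟩ := h3.2 (g ≫ F.map T.mor₂)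
    change F.map h = _ at hh
    obtain ⟨f, hf⟩ := Pretriangulated.Triangle.coyoneda_exact₃ T hT h (z2 _)
    refine ⟨f, ?_⟩
    change F.map f = g
    rw [← sub_eq_zero]
    have h1 : (F.map f - g) ≫ F.map T.mor₂ = 0 := by
      rw [Preadditive.sub_comp, ← F.map_comp, ← hf, hh, sub_self]
    obtain ⟨x, hx⟩ := Pretriangulated.Triangle.coyoneda_exact₂ _ (F.map_distinguished T hT) (F.map f - g) h1
    rw [hx]
    exact (congrArg (fun t => t ≫ F.map T.mor₁) (z3 x)).trans zero_comp

theorem eq_zero_of_comp_iso {C : Type*} [Category* C] [HasZeroMorphisms C] {F G : C ⥤ C} (e : F ≅ G) {X : C}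
    (Y : C) (x : X ⟶ F.obj Y) (h : x ≫ e.hom.app Y = 0) : x = 0 :=
  (cancel_mono (e.hom.app Y)).1 (h.trans zero_comp.symm)

/-- Full faithfulness on `Hom(P[n], K)` from bounded below `K`, with vanishing in high degrees. -/
theorem bij_of_bounds (P : A) (K : DerivedCategory A)
    (h : ∀ (a : ℤ) (n : ℤ), FFAbs.Bij E.mapDerivedCategory (((singleFunctor A 0).obj P)⟦n⟧)
      ((TStructure.t.truncGE a).obj K)) (d : ℤ)
    (hA : ∀ (b m : ℤ), b + d < m → ∀ x : (singleFunctor A 0).obj P ⟶ ((TStructure.t.truncLT b).obj K)⟦m⟧, x = 0)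
    (hB : ∀ (b m : ℤ), b + d < m → ∀ x : E.mapDerivedCategory.obj ((singleFunctor A 0).obj P) ⟶
      (E.mapDerivedCategory.obj ((TStructure.t.truncLT b).obj K))⟦m⟧, x = 0)
    (n : ℤ) : FFAbs.Bij E.mapDerivedCategory (((singleFunctor A 0).obj P)⟦n⟧) K := by
  have e (X Y : DerivedCategory A) (m m' : ℤ) (hm : m + n = m') (hz : ∀ x : X ⟶ Y⟦m⟧, x = 0)
      (x : X⟦n⟧ ⟶ Y⟦m'⟧) : x = 0 := by
    obtain ⟨y, hy⟩ := (shiftFunctor (DerivedCategory A) n).map_surjective
      (x ≫ (shiftFunctorAdd' (DerivedCategory A) m n m' hm).hom.app Y)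
    rw [hz y, Functor.map_zero] at hy
    rw [← cancel_mono ((shiftFunctorAdd' (DerivedCategory A) m n m' hm).hom.app Y), ← hy, zero_comp]
  have e' (X Y : DerivedCategory B) (m m' : ℤ) (hm : m + n = m') (hz : ∀ x : X ⟶ Y⟦m⟧, x = 0)
      (x : X⟦n⟧ ⟶ Y⟦m'⟧) : x = 0 := by
    obtain ⟨y, hy⟩ := (shiftFunctor (DerivedCategory B) n).map_surjective
      (x ≫ (shiftFunctorAdd' (DerivedCategory B) m n m' hm).hom.app Y)
    rw [hz y, Functor.map_zero] at hy
    rw [← cancel_mono ((shiftFunctorAdd' (DerivedCategory B) m n m' hm).hom.app Y), ← hy, zero_comp]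
  let b : ℤ := -n - d - 1
  refine bij_of_tri E.mapDerivedCategory _ (TStructure.t.triangleLTGE_distinguished b K)
    (((singleFunctor A 0).obj P)⟦n⟧) (h b n) (fun x => ?_) (fun x => ?_) (fun x => ?_)
  · have h1 := e _ _ (-n) 0 (by lia) (hA b (-n) (by lia)) (x ≫ (shiftFunctorZero (DerivedCategory A) ℤ).inv.app _)
    exact eq_zero_of_comp_iso (shiftFunctorZero (DerivedCategory A) ℤ).symm _ x h1
  · exact e _ _ (1 - n) 1 (by lia) (hA b (1 - n) (by lia)) x
  · have h1 := e' _ _ (-n) 0 (by lia) (hB b (-n) (by lia)) ((E.mapDerivedCategory.commShiftIso n).inv.app _ ≫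
      x ≫ (shiftFunctorZero (DerivedCategory B) ℤ).inv.app _)
    have h2 : x ≫ (shiftFunctorZero (DerivedCategory B) ℤ).inv.app _ = 0 :=
      (cancel_epi ((E.mapDerivedCategory.commShiftIso n).inv.app ((singleFunctor A 0).obj P))).1
        (h1.trans comp_zero.symm)
    exact eq_zero_of_comp_iso (shiftFunctorZero (DerivedCategory B) ℤ).symm _ x h2

end Bdd

end K182.K4Abs
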