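import Groth.Agent.FSch.K179.HFEquiv
import Groth.Agent.FTors.K920.KapDer
import Groth.Agent.S0003
import Groth.Agent.S13339

/-!
# `H^n(X, M) = H^n(X, κ_* κ^* M)` for `M` coherent on a proper scheme over a complete ring
-/

set_option autoImplicit false
universe u

open CategoryTheory CategoryTheory.Limits AlgebraicGeometry Opposite TopologicalSpace

namespace K182.K4Coh

open FSch K179.Iface K179.RealMod K179.CompSys K179.PushLim K179.LimCoh K920.KapSch
open Groth.Agent.Sga2lef.H96.ModSysFormal Groth.Agent.Sga2lef.H96.ModSysPush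
open Groth.Agent.FormalB.ModPow Groth.Agent.FormalB.TrKQuot

section Canon

variable {X : Scheme.{u}} [IsLocallyNoetherian X] (𝓘 : X.IdealSheafData) (hX : (completionAlong X 𝓘).IsFormal)

/-- The unit `M ⟶ κ_* κ^* M`, in `X.Modules`. -/
noncomputable abbrev un' (M : X.Modules) : M ⟶ (kap X 𝓘 hX).push.obj ((kap X 𝓘 hX).pull.obj M) :=
  (kap X 𝓘 hX).adj.unit.app M

theorem gen {C : Type*} [Category* C] {M P R L G T : C} (u : M ⟶ P) (e1 : P ≅ R) (p : R ≅ L) (π : L ⟶ G)
    (c : G ⟶ T) (_ : Mono c) (rp : R ⟶ T) (un : M ⟶ G) (h1 : p.inv ≫ rp = π ≫ c)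
    (h4 : (u ≫ e1.hom) ≫ rp = un ≫ c) : u ≫ (e1 ≪≫ p).hom ≫ π = un := by
  rw [← cancel_mono c, ← h4, Iso.trans_hom, Category.assoc, Category.assoc, Category.assoc, ← h1,
    Iso.hom_inv_id_assoc, Category.assoc]

theorem gen2 {C : Type*} [Category* C] {M P R L G T : C} (u : M ⟶ P) (e : P ≅ R) (p : L ≅ R) (π : L ⟶ G)
    (c : G ≅ T) (rp : R ⟶ T) (un : M ⟶ G) (h1 : π ≫ c.hom = p.hom ≫ rp)
    (h4 : u ≫ e.hom ≫ rp = un ≫ c.hom) : (u ≫ (e ≪≫ p.symm).hom) ≫ π = un := by
  rw [← cancel_mono c.hom, ← h4, Iso.trans_hom, Category.assoc, Category.assoc, Category.assoc, h1,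
    Iso.symm_hom, Iso.inv_hom_id_assoc]

/-- `κ_* κ^* M ≅ lim_k (i_k)_* i_k^* M`. -/
theorem exists_iso_limit_toSys (M : X.Modules) (hM : Coh.IsCoh M) :
    ∃ e : (show X.Modules from (kap X 𝓘 hX).push.obj ((kap X 𝓘 hX).pull.obj M)) ≅
        limit (toSys (complMod 𝓘 M)),
      ∀ k, un' 𝓘 hX M ≫ e.hom ≫ limit.π (toSys (complMod 𝓘 M)) (op k) = un 𝓘 M k := by
  obtain ⟨i, hi⟩ := Groth.Agent.S13339.result X 𝓘 hX M hM
  let e1 : (show X.Modules from (kap X 𝓘 hX).push.obj ((kap X 𝓘 hX).pull.obj M)) ≅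
      (TC hX).obj ((complMod 𝓘 M).realMod hX) := (kap X 𝓘 hX).push.mapIso i
  refine ⟨e1 ≪≫ pushRealMod hX (complMod 𝓘 M), fun k => ?_⟩
  have h1 := pushRealMod_inv_proj hX (complMod 𝓘 M) k
  have h3 : (kap X 𝓘 hX).adj.homEquiv _ _ i.hom = un' 𝓘 hX M ≫ e1.hom := Adjunction.homEquiv_unit _ _ _ _
  have h4 := hi k
  rw [h3] at h4
  have hi : IsIso ((cmp (completionAlong X 𝓘) hX (completionToX X 𝓘) (completionToX_comm X 𝓘) k).app
    ((complMod 𝓘 M).F k)) := isIso_cmp_app (completionAlong X 𝓘) hX (completionToX X 𝓘)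
      (completionToX_comm X 𝓘) k _
  have hm : Mono ((cmp (completionAlong X 𝓘) hX (completionToX X 𝓘) (completionToX_comm X 𝓘) k).app
    ((complMod 𝓘 M).F k)) := IsIso.mono_of_iso _
  exact gen (C := X.Modules) (un' 𝓘 hX M) e1 (pushRealMod hX (complMod 𝓘 M))
    (limit.π (toSys (complMod 𝓘 M)) (op k))
    ((cmp (completionAlong X 𝓘) hX (completionToX X 𝓘) (completionToX_comm X 𝓘) k).app ((complMod 𝓘 M).F k))
    hm ((TC hX).map (realProj (completionAlong X 𝓘) hX (complMod 𝓘 M).F (complMod 𝓘 M).toPush k))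
    (un 𝓘 M k) h1 h4

end Canon

section Proper

variable {A : Type u} [CommRing A] (I : Ideal A) {X : Scheme.{u}} [X.Over (Spec (CommRingCat.of A))]
  (M : X.Modules) [IsNoetherianRing A] [IsAdicComplete I A] [IsProper (X ↘ Spec (CommRingCat.of A))]
  (hM : Coh.IsCoh M)

include hM in
/-- A map `M ⟶ lim M/I^{k+1}M` with the canonical components induces an isomorphism on cohomology. -/
theorem bijective_of_comp (c : M ⟶ limit (Formal.completion I M))
    (hc : ∀ k, c ≫ limit.π (Formal.completion I M) (op k) = cπ I M k) (n : ℕ) :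
    Function.Bijective (Sheaf.H.map ((SheafOfModules.toSheaf _).map c) n :
      Coh.HH X M n → Coh.HH X (limit (Formal.completion I M)) n) := by
  have h := isLimH_completion I M hM n
  have h3 := Groth.Agent.S0003.result A I X M hM n
  have key : ∀ (x : Coh.HH X M n) (k : ℕ), cmpt (Formal.completion I M) n k
      (Sheaf.H.map ((SheafOfModules.toSheaf _).map c) n x) = (Formal.toHHlim I M n x).1 k := by
    intro x k
    exact (Formal.HHmap_comp c (limit.π (Formal.completion I M) (op k)) n x).trans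
      (congrArg (fun φ => Sheaf.H.map ((SheafOfModules.toSheaf _).map φ) n x) (hc k))
  constructor
  · intro x y hxy
    refine h3.1 (Subtype.ext (funext fun k => ?_))
    rw [← key, ← key]
    exact congrArg _ hxy
  · intro z
    have hz : ∀ k, Formal.HHmodPowTrans I M n k (cmpt (Formal.completion I M) n (k + 1) z) =
        cmpt (Formal.completion I M) n k z := fun k => by
      rw [← sysMap_eq]
      exact sysMap_cmpt (Formal.completion I M) n k z
    obtain ⟨x, hx⟩ := h3.2 ⟨fun k => cmpt (Formal.completion I M) n k z, hz⟩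
    refine ⟨x, ?_⟩
    rw [← sub_eq_zero]
    refine h.inj _ fun k => ?_
    rw [map_sub, key, hx, sub_self]

include hM in
/-- `H^n(X, M) = H^n(X, κ_* κ^* M)` for `M` coherent. -/
theorem bijective_unit (𝓘 : X.IdealSheafData)
    (h𝓘 : 𝓘 = (FSch.idealSpec A I).comap (X ↘ Spec (CommRingCat.of A)))
    (hX : (completionAlong X 𝓘).IsFormal) (n : ℕ) :
    Function.Bijective (Sheaf.H.map ((SheafOfModules.toSheaf _).map (un' 𝓘 hX M)) n :
      Coh.HH X M n → Coh.HH X ((kap X 𝓘 hX).push.obj ((kap X 𝓘 hX).pull.obj M)) n) := by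
  have : IsNoetherianRing (CommRingCat.of A) := ‹IsNoetherianRing A›
  have hXn : IsLocallyNoetherian X := LocallyOfFiniteType.isLocallyNoetherian (X ↘ Spec (CommRingCat.of A))
  have hgen : IsGenBy I 𝓘 := by
    rw [h𝓘]
    exact isGenBy_comap I
  obtain ⟨e, he⟩ := exists_iso_limit_toSys 𝓘 hX M hM
  let e2 : (show X.Modules from (kap X 𝓘 hX).push.obj ((kap X 𝓘 hX).pull.obj M)) ≅
      limit (Formal.completion I M) := e ≪≫ (lim.mapIso (compIso hgen hM.1)).symm
  have hc : ∀ k, (un' 𝓘 hX M ≫ e2.hom) ≫ limit.π (Formal.completion I M) (op k) = cπ I M k := by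
    intro k
    have h1 := cπ_compIso hgen hM.1 k
    have h2 : (lim.mapIso (compIso hgen hM.1)).hom ≫ limit.π (toSys (complMod 𝓘 M)) (op k) =
      limit.π (Formal.completion I M) (op k) ≫ (compIso hgen hM.1).hom.app (op k) := limMap_π _ _
    exact gen2 (C := X.Modules) (un' 𝓘 hX M) e (lim.mapIso (compIso hgen hM.1))
      (limit.π (Formal.completion I M) (op k)) ((compIso hgen hM.1).app (op k))
      (limit.π (toSys (complMod 𝓘 M)) (op k)) (cπ I M k) h2.symm ((he k).trans h1.symm)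
  have h := bijective_of_comp I M hM (un' 𝓘 hX M ≫ e2.hom) hc n
  have hfun : (Sheaf.H.map ((SheafOfModules.toSheaf _).map (un' 𝓘 hX M ≫ e2.hom)) n :
      Coh.HH X M n → Coh.HH X (limit (Formal.completion I M)) n) =
      Sheaf.H.map ((SheafOfModules.toSheaf _).map e2.hom) n ∘
        Sheaf.H.map ((SheafOfModules.toSheaf _).map (un' 𝓘 hX M)) n :=
    funext fun x => (Formal.HHmap_comp _ _ n x).symm
  have hbij : Function.Bijective (Sheaf.H.map ((SheafOfModules.toSheaf _).map e2.hom) n :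
      Coh.HH X ((kap X 𝓘 hX).push.obj ((kap X 𝓘 hX).pull.obj M)) n →
        Coh.HH X (limit (Formal.completion I M)) n) :=
    (((HHF X n).mapIso e2).addCommGroupIsoToAddEquiv).bijective
  have h' : Function.Bijective (Sheaf.H.map ((SheafOfModules.toSheaf _).map e2.hom) n ∘
        Sheaf.H.map ((SheafOfModules.toSheaf _).map (un' 𝓘 hX M)) n :
      Coh.HH X M n → Coh.HH X (limit (Formal.completion I M)) n) := hfun ▸ h
  exact (Function.Bijective.of_comp_iff' hbij _).1 h'

end Proper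

end K182.K4Coh
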