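import Groth.Agent.FSch.K182.K4Coh
import Groth.Agent.FSch.K182.HColim
import Groth.Agent.FSch.K181.Colim
import Groth.Agent.S2128
import Groth.Agent.S0018

/-!
# `H^n(X, M) = H^n(X, κ_* κ^* M)` for `M` quasi-coherent on a proper scheme over a complete ring
-/

set_option autoImplicit false
universe u

open CategoryTheory CategoryTheory.Limits AlgebraicGeometry Opposite TopologicalSpace

namespace K182.K4Mod

open FSch K179.LimCoh K920.KapSch K179.HFEquiv

section Pres

variable {X : Scheme.{u}} (𝓘 : X.IdealSheafData) (hX : (completionAlong X 𝓘).IsFormal)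

/-- The functor `M ↦ κ_* κ^* M`. -/
noncomputable abbrev TT : X.Modules ⥤ X.Modules := (kap X 𝓘 hX).pull ⋙ (kap X 𝓘 hX).push

/-- The unit `M ⟶ κ_* κ^* M`. -/
noncomputable abbrev η : 𝟭 X.Modules ⟶ TT 𝓘 hX := (kap X 𝓘 hX).adj.unit

/-- The underlying abelian sheaf of `κ_* N`. -/
noncomputable def pushToSheaf : (show ModF (completionAlong X 𝓘) hX ⥤ X.Modules from (kap X 𝓘 hX).push) ⋙
    SheafOfModules.toSheaf X.ringCatSheaf ≅
      SheafOfModules.toSheaf (ModSite.ringSh ((completionAlong X 𝓘).Osh hX)) ⋙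
        CohTop.push (completionToX X 𝓘 0).base :=
  NatIso.ofComponents (fun _ => Iso.refl _) (by
    intro F G φ
    rfl)

theorem preservesColimitsOfShape_HT [CompactSpace X] [QuasiSeparatedSpace X] (J : Type u) [SmallCategory J]
    [IsFiltered J] (n : ℕ) : PreservesColimitsOfShape J (TT 𝓘 hX ⋙ HHF X n) := by
  have h1 : PreservesColimitsOfShape J (kap X 𝓘 hX).pull :=
    ((kap X 𝓘 hX).adj.leftAdjoint_preservesColimits).preservesColimitsOfShape
  have h2 : PreservesColimitsOfShape J (SheafOfModules.toSheaf (ModSite.ringSh ((completionAlong X 𝓘).Osh hX))) :=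
    inferInstance
  have h3 : PreservesColimitsOfShape J (CohTop.push (completionToX X 𝓘 0).base) :=
    HColim.preservesColimitsOfShape_push _ (isClosedEmbedding_base 𝓘) J
  have h4 : PreservesColimitsOfShape J (Sheaf.functorH (Opens.grothendieckTopology X) n :
      CohTop.Ab X ⥤ AddCommGrpCat.{u}) := HColim.preservesColimitsOfShape_functorH J n
  have h5 : PreservesColimitsOfShape J ((kap X 𝓘 hX).push ⋙ SheafOfModules.toSheaf X.ringCatSheaf) :=
    preservesColimitsOfShape_of_natIso (pushToSheaf 𝓘 hX).symm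
  have h6 : PreservesColimitsOfShape J ((kap X 𝓘 hX).pull ⋙
    ((kap X 𝓘 hX).push ⋙ SheafOfModules.toSheaf X.ringCatSheaf)) := comp_preservesColimitsOfShape _ _
  exact comp_preservesColimitsOfShape ((kap X 𝓘 hX).pull ⋙
    ((kap X 𝓘 hX).push ⋙ SheafOfModules.toSheaf X.ringCatSheaf)) (Sheaf.functorH (Opens.grothendieckTopology X) n)

theorem preservesColimitsOfShape_HH [CompactSpace X] [QuasiSeparatedSpace X] (J : Type u) [SmallCategory J]
    [IsFiltered J] (n : ℕ) : PreservesColimitsOfShape J (HHF X n) := by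
  have h4 : PreservesColimitsOfShape J (Sheaf.functorH (Opens.grothendieckTopology X) n :
      CohTop.Ab X ⥤ AddCommGrpCat.{u}) := HColim.preservesColimitsOfShape_functorH J n
  have h5 : PreservesColimitsOfShape J (SheafOfModules.toSheaf.{u} (ModSite.ringSh X.sheaf) ⋙
    (Sheaf.functorH (Opens.grothendieckTopology X) n : CohTop.Ab X ⥤ AddCommGrpCat.{u})) :=
      comp_preservesColimitsOfShape _ _
  exact h5

end Pres

section Proper

variable {A : Type u} [CommRing A] (I : Ideal A) {X : Scheme.{u}} [X.Over (Spec (CommRingCat.of A))]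
  [IsNoetherianRing A] [IsAdicComplete I A] [IsProper (X ↘ Spec (CommRingCat.of A))]

/-- `H^n(X, M) = H^n(X, κ_* κ^* M)` for `M` quasi-coherent. -/
theorem isIso_unit (M : X.Modules) (hM : Coh.IsQCoh M) (𝓘 : X.IdealSheafData)
    (h𝓘 : 𝓘 = (FSch.idealSpec A I).comap (X ↘ Spec (CommRingCat.of A)))
    (hX : (completionAlong X 𝓘).IsFormal) (n : ℕ) :
    IsIso ((HHF X n).map ((η 𝓘 hX).app M)) := by
  have : IsNoetherianRing (CommRingCat.of A) := ‹IsNoetherianRing A›
  have hXn : IsLocallyNoetherian X := LocallyOfFiniteType.isLocallyNoetherian (X ↘ Spec (CommRingCat.of A))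
  have hXc : CompactSpace X := QuasiCompact.compactSpace_of_compactSpace (X ↘ Spec (CommRingCat.of A))
  have hXq : QuasiSeparatedSpace X := inferInstance
  obtain ⟨J, _, _, D, c, hc, hD, rfl⟩ := Groth.Agent.S2128.result X M hM
  have h1 := preservesColimitsOfShape_HH (X := X) J n
  have h2 := preservesColimitsOfShape_HT 𝓘 hX J n
  let τ : HHF X n ⟶ TT 𝓘 hX ⋙ HHF X n :=
    { app := fun M => (HHF X n).map ((η 𝓘 hX).app M)
      naturality := fun M N φ => by
        change (HHF X n).map φ ≫ _ = _ ≫ (HHF X n).map ((TT 𝓘 hX).map φ)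
        rw [← Functor.map_comp, ← Functor.map_comp]
        exact congrArg _ ((η 𝓘 hX).naturality φ) }
  refine PushColim.isIso_app_of_isColimit τ hc fun j => ?_
  have h3 := K4Coh.bijective_unit I (D.obj j) ((Groth.Agent.S0018.result X (D.obj j)).2 (hD j)) 𝓘 h𝓘 hX n
  exact (ConcreteCategory.isIso_iff_bijective _).2 h3

end Proper

end K182.K4Mod
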