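import Groth.Agent.FSch.K182.K4Abs
import Groth.Agent.FSch.K182.K4Mod
import Groth.Agent.FSch.K182.FFSch
import Groth.Agent.FSch.K179.Algz
import Groth.Agent.S13334
import Groth.Agent.S3854
import Groth.Agent.S17062
import Groth.Agent.PerfA.AffVan
import Groth.Agent.PerfA.PostAbs
import Groth.Agent.CohtopA.ModExtUnit
import Groth.Agent.ModSite.K293.PullUnit

/-!
# `Hom(O[n], E) = Hom(κ^* O[n], κ^* E)` for `E` with quasi-coherent cohomology
-/

set_option autoImplicit false
set_option linter.style.haveILetI false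
set_option linter.unusedSectionVars false
universe w v u

open CategoryTheory CategoryTheory.Limits AlgebraicGeometry Opposite TopologicalSpace
attribute [local instance] HasDerivedCategory.standard

namespace K182.K4Der

open FSch K920.KapSch K182.SchCart K182.SchLoc DerivedCategory Abelian

section Trunc

variable {C : Type u} [Category.{v} C] [Abelian C] [HasDerivedCategory.{w} C] (A : ObjectProperty C)
  [A.IsClosedUnderIsomorphisms] [A.ContainsZero]

lemma prop_of_isZero {Z : C} (hZ : IsZero Z) : A Z := by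
  obtain ⟨Z', hZ', h⟩ := A.exists_prop_of_containsZero
  exact A.prop_of_iso (hZ'.iso hZ) h

lemma cohIn_truncGE {K : DerivedCategory C} (hK : WSerre.cohIn A K) (a : ℤ) :
    WSerre.cohIn A ((TStructure.t.truncGE a).obj K) := by
  intro i
  by_cases h : a ≤ i
  · have := Groth.Agent.PerfA.PostAbs.isIso_homology_truncGEπ K a i h
    exact A.prop_of_iso (asIso ((homologyFunctor C i).map ((TStructure.t.truncGEπ a).app K))) (hK i)
  · exact prop_of_isZero A (isZero_of_isGE _ a i (by lia))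

lemma cohIn_truncLT {K : DerivedCategory C} (hK : WSerre.cohIn A K) (a : ℤ) :
    WSerre.cohIn A ((TStructure.t.truncLT a).obj K) := by
  intro i
  by_cases h : i < a
  · have := Groth.Agent.PerfA.PostAbs.isIso_homology_truncLTι K a i h
    exact A.prop_of_iso (asIso ((homologyFunctor C i).map ((TStructure.t.truncLTι a).app K))).symm (hK i)
  · exact prop_of_isZero A (isZero_of_isLE _ (a - 1) i (by lia))

end Trunc

section Sch

variable {X : Scheme.{u}}

/-- Quasi-coherent modules are acyclic on affine opens. -/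
theorem acycOn : TopRlim.AcycOn (RX X) (qc X) {V : Opens X | IsAffineOpen (X := X) V} := by
  intro F hF V hV q hq
  obtain ⟨q, rfl⟩ := Nat.exists_eq_succ_of_ne_zero hq.ne'
  exact Groth.Agent.PerfA.AffVan.subsingleton_HU F hF V hV q

/-- `Hom(O[0], Y[m]) = 0` for `m` large. -/
theorem exists_bound [CompactSpace X] [QuasiSeparatedSpace X] : ∃ d : ℕ,
    ∀ (Y : DerivedCategory (ModSite.Mod (RX X))) (_ : WSerre.cohIn (qc X) Y) (b : ℤ) (_ : Y.IsLE b) (m : ℤ)
      (_ : b + d < m) (x : (singleFunctor _ 0).obj (ModSite.unit (RX X)) ⟶ Y⟦m⟧), x = 0 := by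
  obtain ⟨d, hd⟩ := QCBound.exists_bound (X := X) ⊤ CompactSpace.isCompact_univ
  refine ⟨d, fun Y hY b _ m hm x => ?_⟩
  exact TopRlim.hom_unit_eq_zero (RX X) X.isBasis_affineOpens acycOn d
    (fun F hF q hq => hd (ModSite.toAb F) (fun V hV q hq => acycOn F hF V hV q hq) q hq) Y hY b m hm x

end Sch

section Kap

variable {X : Scheme.{u}} [IsLocallyNoetherian X] (𝓘 : X.IdealSheafData) (hX : (completionAlong X 𝓘).IsFormal)

/-- The class of ind-coherent modules. -/
abbrev ICoh : ObjectProperty (ModF (completionAlong X 𝓘) hX) :=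
  ObjectProperty.ind.{u} fun 𝔊 : FSch.ModF (FSch.completionAlong X 𝓘) hX =>
    FSch.IsCohF (FSch.completionAlong X 𝓘) hX 𝔊

theorem isCohF_of_iso {𝔊 𝔊' : ModF (completionAlong X 𝓘) hX} (e : 𝔊 ≅ 𝔊')
    (h : IsCohF (completionAlong X 𝓘) hX 𝔊) : IsCohF (completionAlong X 𝓘) hX 𝔊' :=
  (SheafOfModules.isFinitePresentation (ModSite.ringSh ((completionAlong X 𝓘).Osh hX))).prop_of_iso e h

/-- `κ^*` preserves coherence. -/
theorem isCohF_pull {M : X.Modules} (hM : Coh.IsCoh M) :
    IsCohF (completionAlong X 𝓘) hX ((kap X 𝓘 hX).pull.obj M) := by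
  obtain ⟨i, -⟩ := Groth.Agent.S13339.result X 𝓘 hX M hM
  exact isCohF_of_iso 𝓘 hX i.symm (Groth.Agent.S13334.result _ (Groth.Agent.S3854.result X 𝓘) _
    (K179.Algz.isCoh_complMod hM))

/-- `κ^*` of a quasi-coherent module is ind-coherent. -/
theorem ind_pull [CompactSpace X] [QuasiSeparatedSpace X] {M : X.Modules} (hM : Coh.IsQCoh M) :
    ICoh 𝓘 hX ((kap X 𝓘 hX).pull.obj M) := by
  obtain ⟨J, _, _, D, c, hc, hD, rfl⟩ := Groth.Agent.S2128.result X M hM
  have h1 : PreservesColimitsOfSize.{u, u} (kap X 𝓘 hX).pull := (kap X 𝓘 hX).adj.leftAdjoint_preservesColimits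
  have h2 : PreservesColimit D (kap X 𝓘 hX).pull := (h1.preservesColimitsOfShape (J := J)).preservesColimit
  let hc' : IsColimit ((kap X 𝓘 hX).pull.mapCocone c) := @isColimitOfPreserves _ _ _ _ _ _ D
    (kap X 𝓘 hX).pull c hc h2
  refine ⟨J, inferInstance, inferInstance, ⟨D ⋙ (kap X 𝓘 hX).pull, ((kap X 𝓘 hX).pull.mapCocone c).ι,
    hc'⟩, fun j => ?_⟩
  exact isCohF_pull 𝓘 hX ((Groth.Agent.S0018.result X (D.obj j)).2 (hD j))

end Kap

section Gen

variable {X : Scheme.{u}} {C : Type u} [SmallCategory C] {K : GrothendieckTopology C}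
  {O : Sheaf K CommRingCat.{u}} (f : ModSite.RMor O (RX X)) [PreservesFiniteLimits f.pull]
  [PreservesFiniteColimits f.push]

/-- `Ext^n(O, M) = Ext^n(f^* O, f^* M)` if `H^n(X, M) = H^n(X, f_* f^* M)`. -/
theorem mapExt_bijective [HasExt.{w} (ModSite.Mod (RX X))] [HasExt.{v} (ModSite.Mod O)]
    (M : ModSite.Mod (RX X)) (n : ℕ)
    (h : IsIso ((K179.LimCoh.HHF X n).map (f.adj.unit.app M))) :
    Function.Bijective (Ext.mapExactFunctor f.pull :
      Ext.{w} (ModSite.unit (RX X)) M n → Ext.{v} (f.pull.obj (ModSite.unit (RX X))) (f.pull.obj M) n) := by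
  have := K578.Der.isGrothendieckAbelian (RX X)
  have := K578.Der.isGrothendieckAbelian O
  refine K4Abs.mapExactFunctor_bijective f.adj _ _ n ?_
  let E1 : Ext.{w} (ModSite.unit (RX X)) M n ≃+ Sheaf.H ((SheafOfModules.toSheaf (ModSite.ringSh (RX X))).obj M) n :=
    Groth.Agent.CohtopA.ModExt.unitExtEquiv (ModSite.ringSh (RX X)) M n
  let E2 : Ext.{w} (ModSite.unit (RX X)) (f.push.obj (f.pull.obj M)) n ≃+
      Sheaf.H ((SheafOfModules.toSheaf (ModSite.ringSh (RX X))).obj (f.push.obj (f.pull.obj M))) n :=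
    Groth.Agent.CohtopA.ModExt.unitExtEquiv (ModSite.ringSh (RX X)) _ n
  have h1 : ∀ e : Ext.{w} (ModSite.unit (RX X)) M n,
      E2 (e.comp (Ext.mk₀ (f.adj.unit.app M)) (add_zero n)) =
      Sheaf.H.map ((SheafOfModules.toSheaf _).map (f.adj.unit.app M)) n (E1 e) := by
    intro e
    have := Groth.Agent.CohtopA.ModExt.toSheaf_preservesFiniteColimits (ModSite.ringSh (RX X))
    refine (Groth.Agent.CohtopA.ExtAdj.extOfHom_comp (SheafOfModules.toSheaf (ModSite.ringSh (RX X)))
      (Groth.Agent.CohtopA.ModExt.constToUnit (ModSite.ringSh (RX X))) e (Ext.mk₀ (f.adj.unit.app M))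
      (add_zero n)).trans ?_
    rw [Ext.mapExactFunctor_mk₀]
    rfl
  have h2 : Function.Bijective (Sheaf.H.map ((SheafOfModules.toSheaf (ModSite.ringSh (RX X))).map
      (f.adj.unit.app M)) n : Sheaf.H ((SheafOfModules.toSheaf (ModSite.ringSh (RX X))).obj M) n → _) :=
    (ConcreteCategory.isIso_iff_bijective ((K179.LimCoh.HHF X n).map (f.adj.unit.app M))).1 h
  have h3 : Function.Bijective (fun e : Ext.{w} (ModSite.unit (RX X)) M n => E2 (e.comp (Ext.mk₀ (f.adj.unit.app M)) (add_zero n))) := by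
    rw [funext h1]
    exact h2.comp E1.bijective
  exact (Function.Bijective.of_comp_iff' E2.bijective _).1 h3

/-- `Hom(O[n], E) = Hom(f^* O[n], f^* E)` if `H^n(X, M) = H^n(X, f_* f^* M)` for `M` quasi-coherent and the
cohomology of `f^* E` is bounded. -/
theorem bij_unit [CompactSpace X] [QuasiSeparatedSpace X]
    (h : ∀ (M : ModSite.Mod (RX X)), qc X M → ∀ n : ℕ, IsIso ((K179.LimCoh.HHF X n).map (f.adj.unit.app M)))
    (e : ℕ) (he : ∀ (E : DerivedCategory (ModSite.Mod (RX X))) (_ : WSerre.cohIn (qc X) E) (b : ℤ) (_ : E.IsLE b)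
      (m : ℤ) (_ : b + e < m) (x : (singleFunctor _ 0).obj (ModSite.unit O) ⟶ ((SiteCmp.pullD f).obj E)⟦m⟧), x = 0)
    (E : DerivedCategory (ModSite.Mod (RX X))) (hE : WSerre.cohIn (qc X) E) (n : ℤ) :
    FFAbs.Bij (SiteCmp.pullD f) (((singleFunctor (ModSite.Mod (RX X)) 0).obj (ModSite.unit (RX X)))⟦n⟧) E := by
  have : HasExt.{u + 1} (ModSite.Mod (RX X)) := HasExt.standard _
  have : HasExt.{u + 1} (ModSite.Mod O) := HasExt.standard _
  obtain ⟨d, hd⟩ := exists_bound (X := X)
  refine K4Abs.bij_of_bounds f.pull (ModSite.unit (RX X)) E (fun a n => ?_) (max d e) ?_ ?_ n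
  · exact K4Abs.bij_of_ext f.pull (ModSite.unit (RX X)) _ a (fun i k => mapExt_bijective f _ k
      (h _ (cohIn_truncGE (qc X) hE a i) k)) n
  · intro b m hm x
    exact hd _ (cohIn_truncLT (qc X) hE b) (b - 1) inferInstance m (by lia) x
  · intro b m hm x
    let i0 : (SiteCmp.pullD f).obj ((singleFunctor _ 0).obj (ModSite.unit (RX X))) ≅
        (singleFunctor _ 0).obj (ModSite.unit O) :=
      (f.pull.mapDerivedCategorySingleFunctor 0).app _ ≪≫ (singleFunctor _ 0).mapIso (K293.PullUnit.pullUnitIso f)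
    have h1 := he _ (cohIn_truncLT (qc X) hE b) (b - 1) inferInstance m (by lia) (i0.inv ≫ x)
    exact (cancel_epi i0.inv).1 (h1.trans comp_zero.symm)

end Gen

end K182.K4Der
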