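import Groth.Agent.FSch.K182.K4Der

/-!
# Full faithfulness of `κ^*` on complexes with quasi-coherent cohomology
-/

set_option autoImplicit false
set_option linter.style.haveILetI false
set_option linter.unusedSectionVars false
universe w v u

open CategoryTheory CategoryTheory.Limits AlgebraicGeometry Opposite TopologicalSpace
attribute [local instance] HasDerivedCategory.standard

namespace K182.K4Kap

open FSch K920.KapSch K182.SchCart K182.SchLoc DerivedCategory Abelian K182.K4Der

section Ind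

variable {X : Scheme.{u}} [IsNoetherian X] [X.IsSeparated] (𝓘 : X.IdealSheafData)
  (hX : (completionAlong X 𝓘).IsFormal) [PreservesFiniteLimits (kap X 𝓘 hX).pull]

/-- `κ^*` of a complex with quasi-coherent cohomology has ind-coherent cohomology. -/
theorem cohIn_pullD {E : DerivedCategory (ModSite.Mod (RX X))} (hE : WSerre.cohIn (qc X) E) :
    WSerre.cohIn (ICoh 𝓘 hX) ((SiteCmp.pullD (kap X 𝓘 hX)).obj E) := fun i =>
  (ICoh 𝓘 hX).prop_of_iso (K920.ExDer.hModPull (kap X 𝓘 hX) E i).symm
    (ind_pull 𝓘 hX (hE i))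

instance compact0 : CompactSpace ((completionAlong X 𝓘).X 0) :=
  (K179.HFEquiv.isClosedEmbedding_base 𝓘).compactSpace

theorem exists_boundF : ∃ e : ℕ, ∀ (E : DerivedCategory (ModSite.Mod (RX X))) (_ : WSerre.cohIn (qc X) E) (b : ℤ)
    (_ : E.IsLE b) (m : ℤ) (_ : b + e < m) (x : (singleFunctor _ 0).obj
      (ModSite.unit ((completionAlong X 𝓘).Osh hX)) ⟶ ((SiteCmp.pullD (kap X 𝓘 hX)).obj E)⟦m⟧), x = 0 := by
  obtain ⟨e, he⟩ := Groth.Agent.S17062.result (completionAlong X 𝓘) (Groth.Agent.S3854.result X 𝓘)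
  refine ⟨e, fun E hE b hb m hm x => ?_⟩
  have := SiteCmp.additive_pull (kap X 𝓘 hX)
  have h1 := Groth.Agent.Etbc.H181.HyperExt.isLE_mapDerivedCategory (kap X 𝓘 hX).pull E b
  have h2 := he ((SiteCmp.pullD (kap X 𝓘 hX)).obj E) (cohIn_pullD 𝓘 hX hE) (b + 1)
    (fun i hi => isZero_of_isLE ((SiteCmp.pullD (kap X 𝓘 hX)).obj E) b i (by lia)) m (by lia)
  exact @Subsingleton.elim _ h2 x 0

end Ind

section Proper

variable {A : Type u} [CommRing A] [IsNoetherianRing A] (I : Ideal A) [IsAdicComplete I A]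
  {X : Scheme.{u}} (f : X ⟶ Spec (CommRingCat.of A)) [IsProper f]
  (𝓘 : X.IdealSheafData) (h𝓘 : 𝓘 = (FSch.idealSpec A I).comap f)
  (hX : (FSch.completionAlong X 𝓘).IsFormal) [PreservesFiniteLimits (kap X 𝓘 hX).pull]

include f in
theorem isNoetherian : IsNoetherian X := by
  have : IsNoetherianRing (CommRingCat.of A) := ‹IsNoetherianRing A›
  have hXn : IsLocallyNoetherian X := LocallyOfFiniteType.isLocallyNoetherian f
  have hXc : CompactSpace X := QuasiCompact.compactSpace_of_compactSpace f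
  exact {}

include f in
theorem isSeparated : X.IsSeparated := by
  have : IsSeparated f := inferInstance
  exact ⟨by
    have h1 : terminal.from X = f ≫ terminal.from (Spec (CommRingCat.of A)) := Subsingleton.elim _ _
    rw [h1]
    infer_instance⟩

include f h𝓘 in
/-- `κ^*` is fully faithful on the complexes with quasi-coherent cohomology. -/
theorem bij (G E : DerivedCategory (ModSite.Mod (RX X))) (hG : WSerre.cohIn (qc X) G)
    (hE : WSerre.cohIn (qc X) E) : FFAbs.Bij (SiteCmp.pullD (kap X 𝓘 hX)) G E := by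
  letI : X.Over (Spec (CommRingCat.of A)) := ⟨f⟩
  have : IsProper (X ↘ Spec (CommRingCat.of A)) := ‹IsProper f›
  have h1 := isNoetherian f
  have h2 := isSeparated f
  obtain ⟨e, he⟩ := exists_boundF 𝓘 hX
  refine FFSch.bij (kap X 𝓘 hX) (fun E hE n => ?_) G E hG hE
  exact bij_unit (kap X 𝓘 hX) (fun M hM k => K4Mod.isIso_unit I M hM 𝓘 h𝓘 hX k) e he E hE n

end Proper

end K182.K4Kap
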