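import Mathlib

/-!
# Pointwise left Kan extensions along full subcategory inclusions: legs, additivity, colimits along
final families
-/

set_option autoImplicit false
set_option backward.defeqAttrib.useBackward true
set_option backward.isDefEq.respectTransparency false

universe w v v₁ v₂ v₃ u u₁ u₂ u₃

namespace K182.KanLeg

open CategoryTheory Category Limits

variable {F : Type u₁} [Category.{v₁} F] {A : Type u₂} [Category.{v₂} A] {D : Type u₃} [Category.{v₃} D]
  (L : F ⥤ A) (G : F ⥤ D) [L.HasPointwiseLeftKanExtension G]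

/-- The leg `G X ⟶ (Lan G)(M)` attached to `x : L X ⟶ M`. -/
noncomputable def leg {M : A} {X : F} (x : L.obj X ⟶ M) : G.obj X ⟶ (L.pointwiseLeftKanExtension G).obj M :=
  colimit.ι (CostructuredArrow.proj L M ⋙ G) (CostructuredArrow.mk x)

lemma leg_map {M N : A} {X : F} (x : L.obj X ⟶ M) (f : M ⟶ N) :
    leg L G x ≫ (L.pointwiseLeftKanExtension G).map f = leg L G (x ≫ f) := by
  dsimp [leg, Functor.pointwiseLeftKanExtension]
  rw [colimit.ι_desc]
  rfl

lemma map_leg {M : A} {X Y : F} (g : X ⟶ Y) (y : L.obj Y ⟶ M) :
    G.map g ≫ leg L G y = leg L G (L.map g ≫ y) := by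
  let φ : CostructuredArrow.mk (L.map g ≫ y) ⟶ CostructuredArrow.mk y := CostructuredArrow.homMk g
  exact colimit.w (CostructuredArrow.proj L M ⋙ G) φ

lemma hom_ext {M : A} {Z : D} {f g : (L.pointwiseLeftKanExtension G).obj M ⟶ Z}
    (h : ∀ (X : F) (x : L.obj X ⟶ M), leg L G x ≫ f = leg L G x ≫ g) : f = g :=
  colimit.hom_ext fun j => by
    have := h j.left j.hom
    exact this

section Additive

variable [Preadditive F] [Preadditive A] [Preadditive D] [HasBinaryBiproducts F] [L.Additive] [G.Additive]

lemma leg_add {M : A} {X : F} (x y : L.obj X ⟶ M) :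
    leg L G (x + y) = leg L G x + leg L G y := by
  let h : L.obj (X ⊞ X) ⟶ M := L.map biprod.fst ≫ x + L.map biprod.snd ≫ y
  have h1 : L.map biprod.inl ≫ h = x := by
    rw [Preadditive.comp_add, ← L.map_comp_assoc, ← L.map_comp_assoc, biprod.inl_fst, biprod.inl_snd,
      L.map_id, Functor.map_zero, id_comp, zero_comp, add_zero]
  have h2 : L.map biprod.inr ≫ h = y := by
    rw [Preadditive.comp_add, ← L.map_comp_assoc, ← L.map_comp_assoc, biprod.inr_fst, biprod.inr_snd,
      L.map_id, Functor.map_zero, id_comp, zero_comp, zero_add]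
  have h3 : L.map (biprod.inl + biprod.inr) ≫ h = x + y := by
    rw [L.map_add, Preadditive.add_comp, h1, h2]
  rw [← h3, ← map_leg, G.map_add, Preadditive.add_comp, map_leg, map_leg, h1, h2]

lemma additive : (L.pointwiseLeftKanExtension G).Additive where
  map_add {M N f g} := by
    refine hom_ext L G fun X x => ?_
    rw [leg_map, Preadditive.comp_add, leg_add, Preadditive.comp_add, leg_map, leg_map]

end Additive

section Colimit

variable {J : Type w} [Category.{v} J] [IsFiltered J] (X : J ⥤ F) (M : A) (m : ∀ j, L.obj (X.obj j) ⟶ M)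
  (hm : ∀ {i j : J} (a : i ⟶ j), L.map (X.map a) ≫ m j = m i)
  (hmono : ∀ j, Mono (m j)) [L.Faithful] [L.Full]
  (hex : ∀ (Y : F) (y : L.obj Y ⟶ M), ∃ (j : J) (z : L.obj Y ⟶ L.obj (X.obj j)), z ≫ m j = y)

/-- The cocone with the legs `leg (m j)`. -/
noncomputable def cocone : Cocone (X ⋙ G) where
  pt := (L.pointwiseLeftKanExtension G).obj M
  ι := { app := fun j => leg L G (m j)
         naturality := fun i j a => by
          dsimp
          rw [map_leg, hm a, comp_id] }

/-- The functor to the comma category. -/
noncomputable def toCA : J ⥤ CostructuredArrow L M := X.toCostructuredArrow L M m (by intro i j a; exact hm a)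

include hmono hex in
lemma final_toCA : (toCA L X M m hm).Final := by
  refine Functor.final_of_exists_of_isFiltered _ (fun d => ?_) (fun {d c} s s' => ?_)
  · obtain ⟨j, z, hz⟩ := hex d.left d.hom
    exact ⟨j, ⟨CostructuredArrow.homMk (L.preimage z) (by
      change L.map (L.preimage z) ≫ m j = d.hom
      rw [L.map_preimage, hz])⟩⟩
  · refine ⟨c, 𝟙 c, ?_⟩
    have h1 : s.left = s'.left := by
      apply L.map_injective
      have := hmono c
      rw [← cancel_mono (m c)]
      exact (CostructuredArrow.w s).trans (CostructuredArrow.w s').symm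
    have h2 : s = s' := CostructuredArrow.hom_ext _ _ h1
    rw [h2]

/-- `(Lan G)(M)` is the colimit of `G (X j)`. -/
noncomputable def isColimit : IsColimit (cocone L G X M m hm) := by
  have := final_toCA L X M m hm hmono hex
  exact (Functor.Final.isColimitWhiskerEquiv (toCA L X M m hm) _).symm (colimit.isColimit (CostructuredArrow.proj L M ⋙ G))

end Colimit

end K182.KanLeg
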