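import Groth.Agent.FSch.K182.DerNat
import Groth.Agent.SiteCmp.K578.CohDev
import Groth.Agent.LoccohA.HomolFive

/-!
# Local objects for an exact functor `Λ` with `η : 𝟭 ⟶ Λ`, on the abelian and on the derived level
-/

set_option autoImplicit false
set_option backward.defeqAttrib.useBackward true
set_option backward.isDefEq.respectTransparency false
set_option linter.unusedSectionVars false

universe w v u

open CategoryTheory Category Limits Pretriangulated

namespace K182.LocAbs

open Groth.Agent.Dcoh.MapDer K182.DerNat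

variable {A : Type u} [Category.{v} A] [Abelian A] {Λ : A ⥤ A} (η : 𝟭 A ⟶ Λ)

/-- The local objects. -/
def Loc : ObjectProperty A := fun M => IsIso (η.app M)

lemma loc_iff (M : A) : Loc η M ↔ IsIso (η.app M) := Iff.rfl

section Serre

variable [Λ.Additive] [PreservesFiniteLimits Λ] [PreservesFiniteColimits Λ]

instance : (Loc η).IsClosedUnderIsomorphisms where
  of_iso {X Y} e h := by
    have h1 : IsIso (η.app X) := h
    have h2 : η.app Y = e.inv ≫ η.app X ≫ Λ.map e.hom := by
      have := η.naturality e.hom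
      dsimp only [Functor.id_map] at this
      rw [← this, e.inv_hom_id_assoc]
    change IsIso (η.app Y)
    rw [h2]
    infer_instance

lemma loc_of_isZero {Z : A} (hZ : IsZero Z) : Loc η Z :=
  ⟨0, hZ.eq_of_src _ _, (Λ.map_isZero hZ).eq_of_src _ _⟩

lemma loc_kernel {X Y : A} (f : X ⟶ Y) (hX : Loc η X) (hY : Loc η Y) {k : KernelFork f} (hk : IsLimit k) :
    Loc η k.pt := by
  have h1 : IsIso (η.app X) := hX
  have h2 : IsIso (η.app Y) := hY
  have h3 : IsLimit (KernelFork.ofι (Λ.map k.ι) (by rw [← Λ.map_comp, k.condition, Λ.map_zero]) :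
      KernelFork (Λ.map f)) := KernelFork.mapIsLimit k hk Λ
  have hn := η.naturality k.ι
  have hn2 := η.naturality f
  dsimp only [Functor.id_map] at hn hn2
  have : Mono k.ι := Fork.IsLimit.mono hk
  have : Mono (Λ.map k.ι) := inferInstance
  have hz : (Λ.map k.ι ≫ inv (η.app X)) ≫ f = 0 := by
    rw [← cancel_mono (η.app Y), assoc, hn2, assoc, IsIso.inv_hom_id_assoc, ← Λ.map_comp, k.condition,
      Λ.map_zero, zero_comp]
  obtain ⟨l, hl⟩ := KernelFork.IsLimit.lift' hk _ hz
  refine ⟨l, ?_, ?_⟩
  · rw [← cancel_mono k.ι, assoc, hl, ← assoc, ← hn, assoc, IsIso.hom_inv_id, comp_id]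
    exact (Category.id_comp _).symm
  · rw [← cancel_mono (Λ.map k.ι), assoc, ← hn, ← assoc, hl, assoc, IsIso.inv_hom_id, comp_id]
    exact (Category.id_comp _).symm

lemma loc_cokernel {X Y : A} (f : X ⟶ Y) (hX : Loc η X) (hY : Loc η Y) {k : CokernelCofork f} (hk : IsColimit k) :
    Loc η k.pt := by
  have h1 : IsIso (η.app X) := hX
  have h2 : IsIso (η.app Y) := hY
  have hn := η.naturality k.π
  have hn2 := η.naturality f
  dsimp only [Functor.id_map] at hn hn2
  have : Epi k.π := Cofork.IsColimit.epi hk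
  have : Epi (Λ.map k.π) := inferInstance
  have h3 : IsColimit (CokernelCofork.ofπ (Λ.map k.π) (by rw [← Λ.map_comp, k.condition, Λ.map_zero]) :
      CokernelCofork (Λ.map f)) := CokernelCofork.mapIsColimit k hk Λ
  have hz : Λ.map f ≫ (inv (η.app Y) ≫ k.π) = 0 := by
    rw [← cancel_epi (η.app X), ← assoc, ← hn2, assoc, IsIso.hom_inv_id_assoc, k.condition, comp_zero]
  obtain ⟨l, hl⟩ := CokernelCofork.IsColimit.desc' h3 _ hz
  have hl' : Λ.map k.π ≫ l = inv (η.app Y) ≫ k.π := hl
  refine ⟨l, ?_, ?_⟩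
  · rw [← cancel_epi k.π, ← assoc, hn, assoc, hl', IsIso.hom_inv_id_assoc]
    exact (Category.comp_id _).symm
  · rw [← cancel_epi (Λ.map k.π), ← assoc, hl', assoc, hn, IsIso.inv_hom_id_assoc]
    exact (Category.comp_id _).symm

lemma loc_ext {S : ShortComplex A} (hS : S.ShortExact) (h1 : Loc η S.X₁) (h3 : Loc η S.X₃) : Loc η S.X₂ := by
  have h1' : IsIso (η.app S.X₁) := h1
  have h3' : IsIso (η.app S.X₃) := h3
  let φ : S ⟶ S.map Λ := etaSc η S
  have hS' : (S.map Λ).ShortExact := hS.map_of_exact Λ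
  have : IsIso φ.τ₁ := h1'
  have : IsIso φ.τ₃ := h3'
  exact ShortComplex.isIso₂_of_shortExact_of_isIso₁₃ φ hS hS'

instance : WSerre.IsWeakSerre (Loc η) where
  exists_zero := ⟨_, isZero_zero A, loc_of_isZero η (isZero_zero A)⟩
  kernels_le := by
    rintro _ ⟨f, k, hk, h1, h2⟩
    exact loc_kernel η f h1 h2 hk
  cokernels_le := by
    rintro _ ⟨f, k, hk, h1, h2⟩
    exact loc_cokernel η f h1 h2 hk
  prop_X₂_of_shortExact hS h1 h3 := loc_ext η hS h1 h3

end Serre

section Derived

variable [Λ.Additive] [PreservesFiniteLimits Λ] [PreservesFiniteColimits Λ] [HasDerivedCategory.{w} A]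

open DerivedCategory

/-- `D(η)` is invertible on `K` iff all cohomology objects of `K` are local. -/
lemma isIso_derUnit_iff (K : DerivedCategory A) : IsIso ((derUnit η).app K) ↔ WSerre.cohIn (Loc η) K := by
  rw [DerivedCategory.isIso_iff]
  refine forall_congr' fun n => ?_
  change _ ↔ IsIso (η.app _)
  rw [← homology η K n]
  constructor
  · intro h
    infer_instance
  · intro h
    exact IsIso.of_isIso_comp_right _ ((homologyMapDer Λ n).hom.app K)

variable (hΛη : ∀ M, IsIso (Λ.map (η.app M)))

include hΛη in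
lemma isIso_map_derUnit (K : DerivedCategory A) : IsIso (Λ.mapDerivedCategory.map ((derUnit η).app K)) := by
  rw [DerivedCategory.isIso_iff]
  intro n
  rw [isIso_homology_map_iff]
  have h := homology η K n
  have h1 : IsIso (Λ.map ((homologyFunctor A n).map ((derUnit η).app K)) ≫ Λ.map ((homologyMapDer Λ n).hom.app K)) := by
    rw [← Λ.map_comp, h]
    exact hΛη _
  exact IsIso.of_isIso_comp_right _ (Λ.map ((homologyMapDer Λ n).hom.app K))

include hΛη in
/-- Maps to local objects factor uniquely through `D(Λ)`. -/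
theorem bijective_precomp (G K : DerivedCategory A) (hK : WSerre.cohIn (Loc η) K) :
    Function.Bijective (fun g : Λ.mapDerivedCategory.obj G ⟶ K => (derUnit η).app G ≫ g) := by
  have h1 := (isIso_derUnit_iff η K).2 hK
  have h2 := isIso_map_derUnit η hΛη G
  have hn : ∀ {X Y : DerivedCategory A} (f : X ⟶ Y), f ≫ (derUnit η).app Y =
      (derUnit η).app X ≫ Λ.mapDerivedCategory.map f := fun f => (derUnit η).naturality f
  constructor
  · intro g g' h
    have h3 : Λ.mapDerivedCategory.map g = Λ.mapDerivedCategory.map g' := by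
      rw [← cancel_epi (Λ.mapDerivedCategory.map ((derUnit η).app G)), ← Functor.map_comp, ← Functor.map_comp]
      exact congrArg _ h
    rw [← cancel_mono ((derUnit η).app K)]
    refine (hn g).trans (Eq.trans ?_ (hn g').symm)
    rw [h3]
  · intro f
    refine ⟨Λ.mapDerivedCategory.map f ≫ inv ((derUnit η).app K), ?_⟩
    change (derUnit η).app G ≫ _ = f
    rw [← assoc]
    refine (congrArg (· ≫ inv ((derUnit η).app K)) (hn f).symm).trans ?_
    change (f ≫ (derUnit η).app K) ≫ inv ((derUnit η).app K) = f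
    rw [assoc, IsIso.hom_inv_id]
    exact comp_id _

/-- `D(Λ) G` is local. -/
lemma cohIn_loc_map (hηΛ : ∀ M, IsIso (η.app (Λ.obj M))) (G : DerivedCategory A) :
    WSerre.cohIn (Loc η) (Λ.mapDerivedCategory.obj G) := fun n =>
  (Loc η).prop_of_iso (homologyMapDerApp Λ n G).symm (hηΛ _)

end Derived

end K182.LocAbs
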