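import Groth.Agent.FSch.K182.EssKap

/-!
# The comparison of `D_qc(X)` with the complexes with ind-coherent cohomology on the completion,
from the case of modules
-/

set_option autoImplicit false
set_option linter.style.haveILetI false
set_option linter.unusedSectionVars false
universe w v u

open CategoryTheory CategoryTheory.Limits AlgebraicGeometry Opposite TopologicalSpace
attribute [local instance] HasDerivedCategory.standard

namespace K182.Main49

open FSch K920.KapSch K182.SchCart K182.SchLoc DerivedCategory Abelian K182.K4Der K182.K4Kap K182.EssKap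

variable {A : Type u} [CommRing A] [IsNoetherianRing A] (I : Ideal A) [IsAdicComplete I A]
  {X : Scheme.{u}} (f : X ⟶ Spec (CommRingCat.of A)) [IsProper f]
  (𝓘 : X.IdealSheafData) (h𝓘 : 𝓘 = (FSch.idealSpec A I).comap f)
  (hX : (FSch.completionAlong X 𝓘).IsFormal) [PreservesFiniteLimits (kap X 𝓘 hX).pull]

include h𝓘 f in
/-- S17049, from S17046. -/
theorem main49 (h46 : ∀ N, ICoh 𝓘 hX N → ∃ M, qc X M ∧ Nonempty ((kap X 𝓘 hX).pull.obj M ≅ N)) :
    (∀ E E' : DerivedCategory (ModSite.Mod X.sheaf),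
      (∀ i : ℤ, SheafOfModules.IsQuasicoherent.{u} (SiteCmp.HMod E i)) →
      (∀ i : ℤ, SheafOfModules.IsQuasicoherent.{u} (SiteCmp.HMod E' i)) →
      Function.Bijective (fun φ : E ⟶ E' => (SiteCmp.pullD (kap X 𝓘 hX)).map φ)) ∧
    ∀ G : DerivedCategory (FSch.ModF (FSch.completionAlong X 𝓘) hX),
      (∀ i : ℤ, (ObjectProperty.ind.{u} fun 𝔊 : FSch.ModF (FSch.completionAlong X 𝓘) hX => FSch.IsCohF (FSch.completionAlong X 𝓘) hX 𝔊) (SiteCmp.HMod G i)) ↔
        ∃ E : DerivedCategory (ModSite.Mod X.sheaf),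
          (∀ i : ℤ, SheafOfModules.IsQuasicoherent.{u} (SiteCmp.HMod E i)) ∧
          Nonempty ((SiteCmp.pullD (kap X 𝓘 hX)).obj E ≅ G) := by
  have h1 := isNoetherian f
  have h2 := isSeparated f
  refine ⟨fun E E' hE hE' => bij I f 𝓘 h𝓘 hX E E' hE hE', fun G => ⟨fun hG => ?_, ?_⟩⟩
  · exact ess_kap I f 𝓘 h𝓘 hX h46 G hG
  · rintro ⟨E, hE, ⟨e⟩⟩ i
    exact (ICoh 𝓘 hX).prop_of_iso ((homologyFunctor _ i).mapIso e) (cohIn_pullD 𝓘 hX hE i)

end K182.Main49
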