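import Groth.Agent.FSch.K182.Main49

/-!
# The comparison of the complexes with coherent cohomology on `X` and on the completion,
from the case of modules
-/

set_option autoImplicit false
set_option linter.style.haveILetI false
set_option linter.unusedSectionVars false
universe w v v' u u'

open CategoryTheory CategoryTheory.Limits AlgebraicGeometry Opposite TopologicalSpace

namespace K182.Main66

section Abs

variable {A : Type u} [Category.{v} A] [Abelian A] [HasDerivedCategory.{w} A]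
  {B : Type u'} [Category.{v'} B] [Abelian B] [HasDerivedCategory.{w} B]
  {L : A ⥤ B} [L.Additive] [PreservesFiniteLimits L] [PreservesFiniteColimits L]
  {Q : ObjectProperty A} [WSerre.IsWeakSerre Q]

lemma nonempty_iso_of_bij {E E' : DerivedCategory A} (h : EssAbs.FF L Q) (hE : WSerre.cohIn Q E)
    (hE' : WSerre.cohIn Q E')
    (e : L.mapDerivedCategory.obj E ≅ L.mapDerivedCategory.obj E') : Nonempty (E ≅ E') := by
  obtain ⟨φ, hφ⟩ := (h E E' hE hE').2 e.hom
  obtain ⟨ψ, hψ⟩ := (h E' E hE' hE).2 e.inv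
  change L.mapDerivedCategory.map φ = _ at hφ
  change L.mapDerivedCategory.map ψ = _ at hψ
  refine ⟨φ, ψ, (h E E hE hE).1 ?_, (h E' E' hE' hE').1 ?_⟩
  · change L.mapDerivedCategory.map _ = L.mapDerivedCategory.map _
    rw [L.mapDerivedCategory.map_comp, hφ, hψ, e.hom_inv_id, L.mapDerivedCategory.map_id]
  · change L.mapDerivedCategory.map _ = L.mapDerivedCategory.map _
    rw [L.mapDerivedCategory.map_comp, hφ, hψ, e.inv_hom_id, L.mapDerivedCategory.map_id]

/-- Full faithfulness on the derived category gives full faithfulness on the objects. -/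
theorem nonempty_iso_of_obj (h : EssAbs.FF L Q) {M M' : A} (hM : Q M) (hM' : Q M')
    (e : L.obj M ≅ L.obj M') : Nonempty (M ≅ M') := by
  obtain ⟨i⟩ := nonempty_iso_of_bij h (K578.CohDev.cohIn_single Q M hM 0) (K578.CohDev.cohIn_single Q M' hM' 0)
    ((L.mapDerivedCategorySingleFunctor 0).app M ≪≫ (DerivedCategory.singleFunctor B 0).mapIso e ≪≫
      ((L.mapDerivedCategorySingleFunctor 0).app M').symm)
  exact ⟨(DerivedCategory.singleFunctor A 0).preimageIso i⟩

end Abs

attribute [local instance] HasDerivedCategory.standard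

open FSch K920.KapSch K182.SchCart K182.SchLoc DerivedCategory Abelian K182.K4Der K182.K4Kap K182.EssKap

variable {A : Type u} [CommRing A] [IsNoetherianRing A] (I : Ideal A) [IsAdicComplete I A]
  {X : Scheme.{u}} (f : X ⟶ Spec (CommRingCat.of A)) [IsProper f]
  (𝓘 : X.IdealSheafData) (h𝓘 : 𝓘 = (FSch.idealSpec A I).comap f)
  (hX : (FSch.completionAlong X 𝓘).IsFormal) [PreservesFiniteLimits (kap X 𝓘 hX).pull]

include h𝓘 f in
/-- Quasi-coherent modules with isomorphic pullbacks to the completion are isomorphic. -/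
theorem nonempty_iso {F F' : ModSite.Mod (RX X)} (hF : qc X F) (hF' : qc X F')
    (e : (kap X 𝓘 hX).pull.obj F ≅ (kap X 𝓘 hX).pull.obj F') : Nonempty (F ≅ F') := by
  have := SiteCmp.additive_pull (kap X 𝓘 hX)
  exact nonempty_iso_of_obj (Q := qc X) (fun G E hG hE => bij I f 𝓘 h𝓘 hX G E hG hE) hF hF' e

include h𝓘 f in
/-- S17066, from the essential surjectivity on modules. -/
theorem main66 (h46 : ∀ N, ICoh 𝓘 hX N → ∃ M, qc X M ∧ Nonempty ((kap X 𝓘 hX).pull.obj M ≅ N))
    (hcoh : ∀ N, IsCohF (completionAlong X 𝓘) hX N → ∃ M : X.Modules, Coh.IsCoh M ∧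
      Nonempty ((kap X 𝓘 hX).pull.obj M ≅ N))
    (G : DerivedCategory (FSch.ModF (FSch.completionAlong X 𝓘) hX)) :
    (∀ i : ℤ, FSch.IsCohF (FSch.completionAlong X 𝓘) hX (SiteCmp.HMod G i)) ↔
      ∃ E : DerivedCategory (ModSite.Mod X.sheaf),
        (∀ i : ℤ, Coh.IsCoh (SiteCmp.HMod E i)) ∧ Nonempty ((SiteCmp.pullD (kap X 𝓘 hX)).obj E ≅ G) := by
  have h1 := isNoetherian f
  have h2 := isSeparated f
  constructor
  · intro hG
    obtain ⟨E, hE, ⟨e⟩⟩ := ess_kap I f 𝓘 h𝓘 hX h46 G fun i => ObjectProperty.le_ind _ _ (hG i)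
    refine ⟨E, fun i => ?_, ⟨e⟩⟩
    let e1 : (kap X 𝓘 hX).pull.obj (SiteCmp.HMod E i) ≅ SiteCmp.HMod G i :=
      (K920.ExDer.hModPull (kap X 𝓘 hX) E i).symm ≪≫ (homologyFunctor _ i).mapIso e
    obtain ⟨F, hF, ⟨e2⟩⟩ := hcoh _ (hG i)
    obtain ⟨e3⟩ := nonempty_iso I f 𝓘 h𝓘 hX hF.1 (hE i) (e2 ≪≫ e1.symm)
    exact Groth.Agent.Sga67.CohBasic.isCoh_of_iso e3 hF
  · rintro ⟨E, hE, ⟨e⟩⟩ i
    exact isCohF_of_iso 𝓘 hX ((K920.ExDer.hModPull (kap X 𝓘 hX) E i).symm ≪≫ (homologyFunctor _ i).mapIso e)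
      (isCohF_pull 𝓘 hX (hE i))

end K182.Main66
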