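import Groth.Agent.FSch.K181.Good
import Groth.Agent.FSch.K182.Idem
import Groth.Agent.FCompl.K29.RStalk
import Groth.Agent.ModSite.K295.FlatCrit
import Groth.Agent.ModSite.K291.Tens2

/-!
# The localization `M ↦ 𝒜 ⊗ M`, `𝒜 = j_* O_U`, on a ringed space

`J U M : V ↦ M(U ⊓ V)`; `AU U = J U O`; `T : AU U ⊗ M ⟶ J U M` is invertible if
`O(U ⊓ V) ⊗ M(V) = M(U ⊓ V)` for `V` in a basis.
-/

set_option autoImplicit false
set_option linter.style.haveILetI false
universe u

open CategoryTheory CategoryTheory.Limits Opposite TopologicalSpace MonoidalCategory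
open scoped TensorProduct

noncomputable section

namespace K182.OpenLoc

open K29.RSec K181.BC K181.Good K181.Pre K291.Tens K291.FreeOn K295.FlatCrit Groth.Agent.Dcoh
open scoped K291.Mon

variable {T : TopCat.{u}} {R : Sheaf (Opens.grothendieckTopology T) CommRingCat.{u}} (U : Opens T)

/-- Sections over `U ⊓ V`. -/
def jData (M : Mod R) : Data R where
  S V := Sec M (U ⊓ V)
  mod V := Module.compHom _ (resO (inf_le_right : U ⊓ V ≤ V))
  r h := res M (inf_le_inf_left U h)
  r_self h s := res_self M _ s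
  r_r h h' s := res_res M _ _ s
  r_smul {V W} h a s := by
    change res M (inf_le_inf_left U h) (resO (inf_le_right : U ⊓ V ≤ V) a • (s : Sec M (U ⊓ V))) =
      resO (inf_le_right : U ⊓ W ≤ W) (resO h a) • res M (inf_le_inf_left U h) (s : Sec M (U ⊓ V))
    rw [res_smul, resO_resO, resO_resO]
  ext {ι} W s t h := by
    refine eq_of_locally M (fun i => U ⊓ W i) (U ⊓ ⨆ i, W i) ?_ (fun i => inf_le_inf_left U (le_iSup W i)) s t h
    rw [inf_iSup_eq]
  glue {ι} W s h := by
    obtain ⟨t, ht⟩ := exists_glue M (fun i => U ⊓ W i) (U ⊓ ⨆ i, W i) (by rw [inf_iSup_eq])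
      (fun i => inf_le_inf_left U (le_iSup W i)) s (fun i j W' hi hj => by
        have h1 := congrArg (res M (le_inf (hi.trans inf_le_left) (le_inf (hi.trans inf_le_right) (hj.trans inf_le_right)) :
          W' ≤ U ⊓ (W i ⊓ W j))) (h i j)
        rw [res_res, res_res] at h1
        exact h1)
    exact ⟨t, ht⟩

/-- `M ↦ (V ↦ M(U ⊓ V))`. -/
def J : Mod R ⥤ Mod R where
  obj M := (jData U M).toMod
  map {M N} φ := homMk (fun V => (app φ (U ⊓ V)).toAddMonoidHom)
    (fun V r m => (app φ (U ⊓ V)).map_smul (resO (inf_le_right : U ⊓ V ≤ V) r) m)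
    (fun V W h m => app_res φ (inf_le_inf_left U h) m)

/-- Sections of `J U M`. -/
def toJ {M : Mod R} {V : Opens T} (s : Sec M (U ⊓ V)) : Sec ((J U).obj M) V := s

/-- Sections of `J U M`. -/
def ofJ {M : Mod R} {V : Opens T} (s : Sec ((J U).obj M) V) : Sec M (U ⊓ V) := s

lemma smul_J {M : Mod R} {V : Opens T} (r : O R V) (s : Sec ((J U).obj M) V) :
    ofJ U (r • s) = resO (inf_le_right : U ⊓ V ≤ V) r • ofJ U s := rfl

lemma res_J {M : Mod R} {V W : Opens T} (h : W ≤ V) (s : Sec ((J U).obj M) V) :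
    ofJ U (res _ h s) = res M (inf_le_inf_left U h) (ofJ U s) := rfl

lemma app_J {M N : Mod R} (φ : M ⟶ N) (V : Opens T) (s : Sec ((J U).obj M) V) :
    ofJ U (app ((J U).map φ) V s) = app φ (U ⊓ V) (ofJ U s) := rfl

/-- The restriction `M ⟶ J U M`. -/
def jη : 𝟭 (Mod R) ⟶ J U where
  app M := homMk (fun V => res M (inf_le_right : U ⊓ V ≤ V)) (fun V r m => res_smul M _ r m)
    (fun V W h m => by
      change res M _ (res M h m) = res M (inf_le_inf_left U h) (res M _ m)
      rw [res_res, res_res])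
  naturality M N φ := K29.RSec.hom_ext fun V m => (app_res φ _ m).symm

variable (R) in
/-- `𝒜 = j_* O_U`. -/
def AU : Mod R := (J U).obj (ModSite.unit R)

variable (R) in
/-- The unit of the algebra `𝒜`. -/
def uA : 𝟙_ (Mod R) ⟶ AU R U := (jη U).app (ModSite.unit R)

/-- The bilinear map `(a, m) ↦ a • m|`. -/
def bilT (M : Mod R) : Bil (AU R U) M ((J U).obj M) where
  b {V} a m := toJ U ((show O R (U ⊓ V) from a) • res M (inf_le_right : U ⊓ V ≤ V) m)
  add_left {V} a a' m := add_smul (show O R (U ⊓ V) from a) (show O R (U ⊓ V) from a')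
    (res M (inf_le_right : U ⊓ V ≤ V) m)
  add_right {V} a m m' := by
    refine Eq.trans (congrArg (fun t => (show O R (U ⊓ V) from a) • t) (map_add (res M (inf_le_right : U ⊓ V ≤ V)) m m')) ?_
    exact smul_add (M := O R (U ⊓ V)) (A := Sec M (U ⊓ V)) _ _ _
  smul_left {V} r a m := mul_smul (resO (inf_le_right : U ⊓ V ≤ V) (show O R V from r)) (show O R (U ⊓ V) from a)
    (res M (inf_le_right : U ⊓ V ≤ V) m)
  smul_right {V} r a m := by
    refine Eq.trans (congrArg (fun t => (show O R (U ⊓ V) from a) • t)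
      (res_smul M (inf_le_right : U ⊓ V ≤ V) (show O R V from r) m)) ?_
    exact smul_comm (show O R (U ⊓ V) from a) (resO (inf_le_right : U ⊓ V ≤ V) (show O R V from r)) 
      (res M (inf_le_right : U ⊓ V ≤ V) m)
  res {V W} f a m := by
    refine Eq.trans (res_smul M (inf_le_inf_left U f.le) (show O R (U ⊓ V) from a) _) ?_
    refine congrArg (fun t => resO (inf_le_inf_left U f.le) (show O R (U ⊓ V) from a) • t) ?_
    refine (res_res M (inf_le_right : U ⊓ V ≤ V) _ m).trans ?_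
    exact (res_res M f.le (inf_le_right : U ⊓ W ≤ W) m).symm

/-- The comparison `𝒜 ⊗ M ⟶ J U M`. -/
def TT (M : Mod R) : AU R U ⊗ M ⟶ (J U).obj M := tdesc (bilT U M)

lemma sc_TT {M : Mod R} {V : Opens T} (a : O R (U ⊓ V)) (m : Sec M V) :
    ofJ U (sc (TT U M) V (tm (M := AU R U) (N := M) (U := V) a m)) = a • res M (inf_le_right : U ⊓ V ≤ V) m :=
  sc_tdesc_tm (bilT U M) (U := V) a m

section Basis

variable {B : Set (Opens T)} (hB : Opens.IsBasis B)

include hB

lemma LI_of_basis {P Q : K291.Mon.PM R} (f : P ⟶ Q)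
    (hf : ∀ V ∈ B, Function.Injective (MonW.sec f (op V))) : LI f := by
  rw [LI_iff]
  intro V s hs
  refine ⟨{ arrows := fun W _ => ∃ W' ∈ B, W ≤ W' ∧ W' ≤ V, downward_closed := ?_ }, ?_, ?_⟩
  · rintro W W1 f ⟨W', h1, h2, h3⟩ g
    exact ⟨W', h1, g.le.trans h2, h3⟩
  · intro x hx
    obtain ⟨W', h1, h2, h3⟩ := Opens.isBasis_iff_nbhd.1 hB hx
    exact ⟨W', homOfLE h3, ⟨W', h1, le_rfl, h3⟩, h2⟩
  · rintro W i ⟨W', h1, h2, h3⟩
    have h4 : MonW.res P (homOfLE h3).op s = 0 := by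
      apply hf W' h1
      rw [MonW.sec_res, hs, map_zero, map_zero]
    have h5 : MonW.res P i.op s = MonW.res P (homOfLE h2).op (MonW.res P (homOfLE h3).op s) := by
      rw [← MonW.res_comp]
      rfl
    rw [h5, h4, map_zero]

lemma LS_of_basis {P Q : K291.Mon.PM R} (f : P ⟶ Q)
    (hf : ∀ V ∈ B, Function.Surjective (MonW.sec f (op V))) : LS f := by
  rw [LS_iff]
  intro V s
  refine ⟨{ arrows := fun W _ => ∃ W' ∈ B, W ≤ W' ∧ W' ≤ V, downward_closed := ?_ }, ?_, ?_⟩
  · rintro W W1 f ⟨W', h1, h2, h3⟩ g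
    exact ⟨W', h1, g.le.trans h2, h3⟩
  · intro x hx
    obtain ⟨W', h1, h2, h3⟩ := Opens.isBasis_iff_nbhd.1 hB hx
    exact ⟨W', homOfLE h3, ⟨W', h1, le_rfl, h3⟩, h2⟩
  · rintro W i ⟨W', h1, h2, h3⟩
    obtain ⟨t, ht⟩ := hf W' h1 (MonW.res Q (homOfLE h3).op s)
    refine ⟨MonW.res P (homOfLE h2).op t, ?_⟩
    rw [MonW.sec_res, ht, ← MonW.res_comp]
    rfl

end Basis

/-- The presheaf version of `TT`. -/
def pT (M : Mod R) : (K291.Mon.toP R).obj (AU R U) ⊗ (K291.Mon.toP R).obj M ⟶ (K291.Mon.toP R).obj ((J U).obj M) :=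
  (pdesc (A := (K291.Mon.toP R).obj (AU R U)) (B := (K291.Mon.toP R).obj M) (P := (K291.Mon.toP R).obj ((J U).obj M))
      (fun V => LinearMap.mk₂ (R.obj.obj V) (fun m n => (bilT U M).b (U := V.unop) m n)
        (fun m m' n => (bilT U M).add_left m m' n) (fun r m n => (bilT U M).smul_left r m n)
        (fun m n n' => (bilT U M).add_right m n n') (fun r m n => (bilT U M).smul_right r m n))
      (fun _ _ i m n => (bilT U M).res i.unop m n))

lemma TT_eq (M : Mod R) : TT U M = (K291.Mon.shP R).map (pT U M) ≫ (K291.Mon.shAdj R).counit.app _ := by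
  refine Eq.trans ?_ (Adjunction.homEquiv_counit (K291.Mon.shAdj R) _ _ (pT U M))
  rfl

lemma bijective_pT {M : Mod R} {V : Opens T} 
    (hM : IsBC (resO (inf_le_right : U ⊓ V ≤ V)) (resS M (inf_le_right : U ⊓ V ≤ V))) :
    Function.Bijective (MonW.sec (pT U M) (op V)) := by
  letI ia : Algebra (O R V) (O R (U ⊓ V)) := (resO (inf_le_right : U ⊓ V ≤ V)).toAlgebra
  letI im : Module (O R V) (Sec M (U ⊓ V)) := Module.compHom _ (resO (inf_le_right : U ⊓ V ≤ V))
  haveI : IsScalarTower (O R V) (O R (U ⊓ V)) (Sec M (U ⊓ V)) := ⟨fun a b c => by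
    rw [Algebra.smul_def, mul_smul]; rfl⟩
  let f' : Sec M V →ₗ[O R V] Sec M (U ⊓ V) :=
    { toFun := res M (inf_le_right : U ⊓ V ≤ V)
      map_add' := map_add _
      map_smul' := fun a s => res_smul M _ a s }
  have h : Function.Bijective (bc (B := O R (U ⊓ V)) f') := hM.bij _ _ _ rfl f' (fun _ => rfl)
  have e : ∀ x : O R (U ⊓ V) ⊗[O R V] Sec M V, MonW.sec (pT U M) (op V) x = bc (B := O R (U ⊓ V)) f' x := by
    intro x
    induction x using TensorProduct.induction_on with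
    | zero => exact map_zero _
    | tmul a m => rfl
    | add x y hx hy => exact ((map_add _ _ _).trans (congrArg₂ (· + ·) hx hy)).trans (map_add _ _ _).symm
  constructor
  · intro x y hxy
    exact h.1 ((e x).symm.trans (hxy.trans (e y)))
  · intro y
    obtain ⟨x, hx⟩ := h.2 y
    exact ⟨x, (e x).trans hx⟩

theorem isIso_TT {B : Set (Opens T)} (hB : Opens.IsBasis B) {M : Mod R} 
    (hM : ∀ V ∈ B, IsBC (resO (inf_le_right : U ⊓ V ≤ V)) (resS M (inf_le_right : U ⊓ V ≤ V))) : IsIso (TT U M) := by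
  rw [TT_eq]
  have h1 : IsIso ((K291.Mon.shP R).map (pT U M)) := by
    rw [← K291.Mon.WO_iff, WO_iff_LI_LS]
    exact ⟨LI_of_basis hB _ fun V hV => (bijective_pT U (hM V hV)).1,
      LS_of_basis hB _ fun V hV => (bijective_pT U (hM V hV)).2⟩
  infer_instance

section Nat

/-- Naturality of `TT`. -/
lemma TT_naturality {M N : Mod R} (φ : M ⟶ N) : AU R U ◁ φ ≫ TT U N = TT U M ≫ (J U).map φ := by
  refine tens_hom_ext fun V a m => ?_
  change sc (TT U N) V (sc (AU R U ◁ φ) V (tm a m)) = sc ((J U).map φ) V (sc (TT U M) V (tm a m))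
  rw [sc_whiskerLeft_tm]
  refine (sc_TT U (M := N) (V := V) a (app φ V m)).trans ?_
  refine Eq.trans ?_ (congrArg (app φ (U ⊓ V)) (sc_TT U (M := M) (V := V) a m)).symm
  refine Eq.trans ?_ ((app φ (U ⊓ V)).map_smul (show O R (U ⊓ V) from a) (res M (inf_le_right : U ⊓ V ≤ V) m)).symm
  exact congrArg (fun t => (show O R (U ⊓ V) from a) • t) (app_res φ (inf_le_right : U ⊓ V ≤ V) m).symm

/-- Compatibility with the units. -/
lemma η_TT (M : Mod R) : (Idem.η (uA R U)).app M ≫ TT U M = (jη U).app M := by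
  rw [← cancel_epi (λ_ M).hom]
  dsimp [Idem.η]
  rw [Category.assoc, Iso.hom_inv_id_assoc]
  refine tens_hom_ext fun V r m => ?_
  obtain ⟨r, rfl⟩ := exists_ofR r
  refine (congrArg (sc (TT U M) V) (sc_whiskerRight_tm (uA R U) (ofR r) m)).trans ?_
  refine Eq.trans ?_ (congrArg (sc ((jη U).app M) V) (sc_leftUnitor_tm r m)).symm
  refine (sc_TT U (M := M) (V := V) _ m).trans ?_
  exact (res_smul M (inf_le_right : U ⊓ V ≤ V) _ m).symm

/-- The natural transformation `𝒜 ⊗ - ⟶ J`. -/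
def TTn : tensorLeft (AU R U) ⟶ J U where
  app M := TT U M
  naturality _ _ φ := TT_naturality U φ

end Nat

section Flat

/-- `𝒜` is flat if the restriction maps `O(V) → O(U ⊓ V)` are flat for `V` in a basis. -/
theorem isFlat_AU {B : Set (Opens T)} (hB : Opens.IsBasis B)
    (hf : ∀ V ∈ B, (resO (R := R) (inf_le_right : U ⊓ V ≤ V)).Flat) : ModSite.IsFlat (AU R U) := by
  rw [isFlat_iff_LI_injective]
  intro P Q f h
  refine LI_of_basis hB _ fun V hV => ?_
  letI ia : Algebra (R.obj.obj (op V)) (O R (U ⊓ V)) := (resO (inf_le_right : U ⊓ V ≤ V)).toAlgebra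
  have : Module.Flat (R.obj.obj (op V)) (O R (U ⊓ V)) := hf V hV
  exact Module.Flat.rTensor_preserves_injective_linearMap (M := O R (U ⊓ V)) (R := R.obj.obj (op V))
    (MonW.sec f (op V)) (h (op V))

end Flat

section Idem

/-- `J` of the unit `M ⟶ J M` is invertible. -/
instance isIso_J_jη (M : Mod R) : IsIso ((J U).map ((jη U).app M)) := by
  refine K29.RStalk.isIso_of_bijective _ fun V => ?_
  have e : U ⊓ V = U ⊓ (U ⊓ V) := by rw [← inf_assoc, inf_idem]
  exact PM.r_bijective (P := PM.ofMod M) e inf_le_right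

/-- `𝒜` is idempotent. -/
theorem isIso_whiskerLeft_uA {B : Set (Opens T)} (hB : Opens.IsBasis B)
    (hA : ∀ V ∈ B, IsBC (resO (inf_le_right : U ⊓ V ≤ V)) (resS (AU R U) (inf_le_right : U ⊓ V ≤ V))) :
    IsIso (AU R U ◁ uA R U) := by
  have h1 : IsIso (TT U (AU R U)) := isIso_TT U hB hA
  have h2 : IsIso (TT U (ModSite.unit R)) := isIso_TT U hB fun V _ =>
    IsBC.self (resS (ModSite.unit R) (inf_le_right : U ⊓ V ≤ V)) (fun _ => rfl)
  have h3 := TT_naturality U (uA R U)
  have h4 : IsIso ((J U).map (uA R U)) := isIso_J_jη U (ModSite.unit R)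
  have h5 : IsIso (AU R U ◁ uA R U ≫ TT U (AU R U)) := by
    rw [h3]
    exact IsIso.comp_isIso' h2 h4
  exact IsIso.of_isIso_comp_right _ (TT U (AU R U))

end Idem

end K182.OpenLoc
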