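import Groth.Agent.FSch.K182.OpenLoc
import Groth.Agent.ModSite.K295.PTens

/-!
# The functor `N ↦ 𝒜 ⊗_{O(U)} N`
-/

set_option autoImplicit false
set_option linter.style.haveILetI false
universe u

open CategoryTheory CategoryTheory.Limits Opposite TopologicalSpace MonoidalCategory
open scoped TensorProduct

noncomputable section

namespace K182.PhiF

open K29.RSec K181.BC K181.Good K181.Pre K291.Tens K291.FreeOn K295.FlatCrit Groth.Agent.Dcoh K182.OpenLoc
open scoped K291.Mon

variable {T : TopCat.{u}} {R : Sheaf (Opens.grothendieckTopology T) CommRingCat.{u}} (U : Opens T)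

lemma bc_smul {A B : Type*} [CommRing A] [CommRing B] [Algebra A B] {M N : Type*} [AddCommGroup M] [Module A M]
    [AddCommGroup N] [Module A N] [Module B N] [IsScalarTower A B N] (f : M →ₗ[A] N) (b : B) (x : B ⊗[A] M) :
    bc (B := B) f (b • x) = b • bc (B := B) f x := by
  induction x using TensorProduct.induction_on with
  | zero => rw [smul_zero, map_zero, smul_zero]
  | tmul c m => rw [TensorProduct.smul_tmul', bc_tmul, bc_tmul, smul_eq_mul, mul_smul]
  | add x y hx hy => rw [smul_add, map_add, map_add, smul_add, hx, hy]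

instance (P : K181.Pre.PM R) (V : (Opens T)ᵒᵖ) : Module ((ringSheaf R).obj.obj V) (P.ab.obj V) :=
  inferInstanceAs (Module (O R V.unop) (P.S V.unop))

/-- The presheaf of modules of raw data. -/
def toPre (P : K181.Pre.PM R) : K291.Mon.PM R :=
  PresheafOfModules.ofPresheaf (R := (ringSheaf R).obj) P.ab (fun _ _ f r φ => P.r_smul f.unop.le r φ)

/-- Morphisms of raw data. -/
def toPreHom {P Q : K181.Pre.PM R} (f : ∀ V : Opens T, P.S V →+ Q.S V)
    (hs : ∀ V (r : O R V) (m : P.S V), f V (r • m) = r • f V m)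
    (hr : ∀ (V W : Opens T) (h : W ≤ V) (m : P.S V), f W (P.r h m) = Q.r h (f V m)) : toPre P ⟶ toPre Q :=
  PresheafOfModules.homMk (M₁ := toPre P) (M₂ := toPre Q)
    { app := fun V => AddCommGrpCat.ofHom (f V.unop)
      naturality := fun V W i => by
        ext m
        exact hr V.unop W.unop i.unop.le m }
    (fun V r m => hs V.unop r m)

variable (R) in
/-- The presheaf version of `N ↦ 𝒜 ⊗_{O(U)} N`. -/
def Φp : ModuleCat.{u} (O R U) ⥤ K291.Mon.PM R where
  obj N := toPre (TP R U N)
  map {N N'} f := toPreHom (P := TP R U N) (Q := TP R U N')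
    (fun V => (f.hom.lTensor (OA R U V)).toAddMonoidHom)
    (fun V r m => by
      change OA R U V ⊗[O R U] N at m
      change f.hom.lTensor (OA R U V) ((show OA R U V from resO inf_le_right r) • m) =
        (show OA R U V from resO inf_le_right r) • f.hom.lTensor (OA R U V) m
      induction m using TensorProduct.induction_on with
      | zero => rw [smul_zero, map_zero, smul_zero]
      | tmul b m => rfl
      | add x y hx hy => rw [smul_add, map_add, map_add, smul_add, hx, hy])
    (fun V W h m => by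
      change OA R U V ⊗[O R U] N at m
      change f.hom.lTensor (OA R U W) ((rOA (R := R) U h).toLinearMap.rTensor N m) =
        (rOA (R := R) U h).toLinearMap.rTensor N' (f.hom.lTensor (OA R U V) m)
      rw [← LinearMap.comp_apply, ← LinearMap.comp_apply, LinearMap.lTensor_comp_rTensor,
        LinearMap.rTensor_comp_lTensor])
  map_id N := by
    ext V m
    exact congrArg (fun (t : OA R U V.unop ⊗[O R U] N →ₗ[O R U] _) => t m) (LinearMap.lTensor_id (OA R U V.unop) N)
  map_comp {N N' N''} f g := by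
    ext V m
    exact congrArg (fun (t : OA R U V.unop ⊗[O R U] N →ₗ[O R U] _) => t m)
      (LinearMap.lTensor_comp (OA R U V.unop) g.hom f.hom)

/-- The values of `Φp`. -/
def Φpev (V : (Opens T)ᵒᵖ) : Φp R U ⋙ PresheafOfModules.evaluation _ V ⋙ forget₂ (ModuleCat _) AddCommGrpCat.{u} ≅
    tensorLeft (ModuleCat.of (O R U) (OA R U V.unop)) ⋙ forget₂ (ModuleCat.{u} (O R U)) AddCommGrpCat.{u} :=
  NatIso.ofComponents (fun N => Iso.refl _) (fun f => by ext; rfl)

instance preservesColimits_Φp : PreservesColimitsOfSize.{u, u} (Φp R U) where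
  preservesColimitsOfShape {K} _ := ⟨fun {F} => ⟨fun {c} hc => ⟨by
    refine PresheafOfModules.evaluationJointlyReflectsColimits _ _ (fun V => ?_)
    let G := tensorLeft (ModuleCat.of (O R U) (OA R U V.unop)) ⋙ forget₂ (ModuleCat.{u} (O R U)) AddCommGrpCat.{u}
    have h0 : PreservesColimitsOfSize.{u, u} (tensorLeft (ModuleCat.of (O R U) (OA R U V.unop))) :=
      K295.PTens.preservesColimits_tensorLeft' _
    have h1 : IsColimit (G.mapCocone c) := isColimitOfPreserves G hc
    have h2 : IsColimit ((Φp R U ⋙ PresheafOfModules.evaluation _ V ⋙ forget₂ (ModuleCat _) AddCommGrpCat.{u}).mapCocone c) :=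
      (IsColimit.mapCoconeEquiv (Φpev U V).symm) h1
    exact isColimitOfReflects (forget₂ (ModuleCat _) AddCommGrpCat.{u}) h2⟩⟩⟩

variable (R) in
/-- `N ↦ 𝒜 ⊗_{O(U)} N`. -/
def Φ : ModuleCat.{u} (O R U) ⥤ Mod R := Φp R U ⋙ K291.Mon.shP R

instance preservesColimits_Φ : PreservesColimitsOfSize.{u, u} (Φ R U) := by
  have : PreservesColimitsOfSize.{u, u} (K291.Mon.shP R) := (K291.Mon.shAdj R).leftAdjoint_preservesColimits
  unfold Φ
  infer_instance

instance preservesFiniteColimits_Φ : PreservesFiniteColimits (Φ R U) :=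
  PreservesColimitsOfSize.preservesFiniteColimits (Φ R U)

instance additive_Φ : (Φ R U).Additive := by
  have : PreservesBinaryBiproducts (Φ R U) := preservesBinaryBiproducts_of_preservesBinaryCoproducts (Φ R U)
  exact Functor.additive_of_preservesBinaryBiproducts (Φ R U)

theorem preservesFiniteLimits_Φ {B : Set (Opens T)} (hB : Opens.IsBasis B)
    (hf : ∀ V ∈ B, (resO (R := R) (inf_le_left : U ⊓ V ≤ U)).Flat) : PreservesFiniteLimits (Φ R U) := by
  have h : (Φ R U).PreservesMonomorphisms := ⟨fun {N N'} f hfm => by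
    refine (mono_shP_map_iff _).2 ?_
    refine LI_of_basis hB _ fun V hV => ?_
    have : Module.Flat (O R U) (OA R U V) := hf V hV
    exact Module.Flat.lTensor_preserves_injective_linearMap (M := OA R U V) f.hom ((ModuleCat.mono_iff_injective f).1 hfm)⟩
  rw [Functor.preservesFiniteLimits_iff_forall_exact_map_and_mono]
  intro S hS
  have := hS.mono_f
  exact ⟨((Functor.preservesFiniteColimits_iff_forall_exact_map_and_epi (Φ R U)).1 inferInstance S hS).1,
      inferInstance⟩

variable (R) in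
/-- Sections over `U`. -/
def ΓU : Mod R ⥤ ModuleCat.{u} (O R U) where
  obj M := ModuleCat.of (O R U) (Sec M U)
  map φ := ModuleCat.ofHom (app φ U)

/-- The comparison `𝒜 ⊗ M(U) ⟶ J U M` on the level of presheaves. -/
def cmpP (M : Mod R) : (Φp R U).obj ((ΓU R U).obj M) ⟶ (K291.Mon.toP R).obj ((J U).obj M) :=
  PresheafOfModules.homMk (M₁ := (Φp R U).obj ((ΓU R U).obj M)) (M₂ := (K291.Mon.toP R).obj ((J U).obj M))
    (TPtoShift (PM.ofMod M) U) (fun V r m => 
      bc_smul (A := O R U) (B := OA R U V.unop) (M := Sec M U) (N := (PM.ofMod M).S (U ⊓ V.unop))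
        (toLin (B := OA R U V.unop) (N := (PM.ofMod M).S (U ⊓ V.unop))
            (resO (R := R) (inf_le_left : U ⊓ V.unop ≤ U)) rfl ((PM.ofMod M).rS inf_le_left))
        (show OA R U V.unop from resO inf_le_right (show O R V.unop from r)) m)

lemma cmpP_naturality {M N : Mod R} (φ : M ⟶ N) :
    (Φp R U).map ((ΓU R U).map φ) ≫ cmpP U N = cmpP U M ≫ (K291.Mon.toP R).map ((J U).map φ) := by
  ext V m
  change OA R U V.unop ⊗[O R U] Sec M U at m
  change bc (B := OA R U V.unop) (toLin (B := OA R U V.unop) (N := (PM.ofMod N).S (U ⊓ V.unop))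
        (resO (R := R) (inf_le_left : U ⊓ V.unop ≤ U)) rfl ((PM.ofMod N).rS inf_le_left)) 
          ((app φ U).lTensor (OA R U V.unop) m) =
    app φ (U ⊓ V.unop) (bc (B := OA R U V.unop) (toLin (B := OA R U V.unop) (N := (PM.ofMod M).S (U ⊓ V.unop))
        (resO (R := R) (inf_le_left : U ⊓ V.unop ≤ U)) rfl ((PM.ofMod M).rS inf_le_left)) m)
  induction m using TensorProduct.induction_on with
  | zero =>
    rw [map_zero]
    exact (map_zero _).trans ((congrArg (app φ (U ⊓ V.unop)) (map_zero _)).trans (map_zero _)).symm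
  | tmul b m =>
    refine Eq.trans ?_ ((app φ (U ⊓ V.unop)).map_smul (show O R (U ⊓ V.unop) from b) _).symm
    exact congrArg (fun t : Sec N (U ⊓ V.unop) => (show O R (U ⊓ V.unop) from b) • t)
      (app_res φ (inf_le_left : U ⊓ V.unop ≤ U) m).symm
  | add x y hx hy =>
    rw [map_add]
    refine (map_add _ _ _).trans ?_
    rw [hx, hy]
    exact ((congrArg (app φ (U ⊓ V.unop)) (map_add _ _ _)).trans (map_add _ _ _)).symm

lemma bijective_cmpP {M : Mod R} {V : Opens T}
    (hM : IsBC (resO (inf_le_left : U ⊓ V ≤ U)) (resS M (inf_le_left : U ⊓ V ≤ U))) :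
    Function.Bijective (MonW.sec (cmpP U M) (op V)) := by
  have h0 : IsBC (A := O R U) (B := OA R U V) (M := Sec M U) (N := (PM.ofMod M).S (U ⊓ V))
      (resO (R := R) (inf_le_left : U ⊓ V ≤ U)) ((PM.ofMod M).rS inf_le_left) := hM
  exact h0.bij inferInstance (modShift (PM.ofMod M) U V) (IsScalarTower.of_algebraMap_smul fun _ _ => rfl) rfl _ fun _ => rfl

/-- The comparison `𝒜 ⊗ M(U) ⟶ J U M`. -/
def cmp : ΓU R U ⋙ Φ R U ⟶ J U where
  app M := (K291.Mon.shP R).map (cmpP U M) ≫ (K291.Mon.shAdj R).counit.app _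
  naturality M N φ := by
    have h1 : (K291.Mon.shP R).map ((Φp R U).map ((ΓU R U).map φ)) ≫ (K291.Mon.shP R).map (cmpP U N) =
        (K291.Mon.shP R).map (cmpP U M) ≫ (K291.Mon.shP R).map ((K291.Mon.toP R).map ((J U).map φ)) := by
      rw [← Functor.map_comp, cmpP_naturality, Functor.map_comp]
    have h2 := (K291.Mon.shAdj R).counit.naturality ((J U).map φ)
    refine (Category.assoc _ _ _).symm.trans ((congrArg (· ≫ (K291.Mon.shAdj R).counit.app _) h1).trans ?_)
    refine (Category.assoc _ _ _).trans ((congrArg ((K291.Mon.shP R).map (cmpP U M) ≫ ·) h2).trans ?_)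
    exact (Category.assoc _ _ _).symm

theorem isIso_cmp {B : Set (Opens T)} (hB : Opens.IsBasis B) {M : Mod R} 
    (hM : ∀ V ∈ B, IsBC (resO (inf_le_left : U ⊓ V ≤ U)) (resS M (inf_le_left : U ⊓ V ≤ U))) : IsIso ((cmp U).app M) := by
  have h1 : IsIso ((K291.Mon.shP R).map (cmpP U M)) := by
    rw [← K291.Mon.WO_iff, WO_iff_LI_LS]
    exact ⟨LI_of_basis hB _ fun V hV => (bijective_cmpP U (hM V hV)).1,
      LS_of_basis hB _ fun V hV => (bijective_cmpP U (hM V hV)).2⟩
  change IsIso ((K291.Mon.shP R).map (cmpP U M) ≫ (K291.Mon.shAdj R).counit.app _)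
  infer_instance

section Class

variable (S : ObjectProperty (Mod R)) {B : Set (Opens T)} (hB : Opens.IsBasis B)
  (h1 : ∀ M, S M → ∀ V ∈ B, IsBC (resO (inf_le_left : U ⊓ V ≤ U)) (resS M (inf_le_left : U ⊓ V ≤ U)))
  (h2 : ∀ M, S M → ∀ V ∈ B, IsBC (resO (inf_le_right : U ⊓ V ≤ V)) (resS M (inf_le_right : U ⊓ V ≤ V)))

include hB h1 h2 in
/-- `𝒜 ⊗ M = 𝒜 ⊗_{O(U)} M(U)` for cartesian `M`. -/
theorem nonempty_iso : Nonempty (S.ι ⋙ tensorLeft (AU R U) ≅ (S.ι ⋙ ΓU R U) ⋙ Φ R U) := by
  have i1 : ∀ M : S.FullSubcategory, IsIso ((Functor.whiskerLeft S.ι (TTn U)).app M) := fun M =>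
    isIso_TT U hB (h2 _ M.2)
  have i2 : ∀ M : S.FullSubcategory, IsIso ((Functor.whiskerLeft S.ι (cmp U)).app M) := fun M =>
    isIso_cmp U hB (h1 _ M.2)
  have i3 : IsIso (Functor.whiskerLeft S.ι (TTn (R := R) U)) := NatIso.isIso_of_isIso_app _
  have i4 : IsIso (Functor.whiskerLeft S.ι (cmp (R := R) U)) := NatIso.isIso_of_isIso_app _
  exact ⟨asIso (Functor.whiskerLeft S.ι (TTn (R := R) U)) ≪≫ (asIso (Functor.whiskerLeft S.ι (cmp (R := R) U))).symm⟩

end Class

end K182.PhiF
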