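import Mathlib.CategoryTheory.Adjunction.Limits
import Mathlib.CategoryTheory.Limits.Preserves.Limits

/-!
# Colimits and fully faithful right adjoints; comparison maps on colimits
-/

set_option autoImplicit false

open CategoryTheory CategoryTheory.Limits

namespace K182.PushColim

universe v₁ v₂ v₃ u₁ u₂ u₃

variable {A : Type u₁} [Category.{v₁} A] {B : Type u₂} [Category.{v₂} B] {L : B ⥤ A} {R : A ⥤ B}
  (adj : L ⊣ R)

include adj in
/-- A fully faithful right adjoint preserves the colimit of `D` if the colimit of `R ∘ D` is in the essential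
image. -/
theorem preservesColimit_of_isIso_unit (hc : ∀ a, IsIso (adj.counit.app a)) {J : Type u₃} [Category.{v₃} J]
    (D : J ⥤ A) (c : Cocone (D ⋙ R)) (hcol : IsColimit c) (hu : IsIso (adj.unit.app c.pt)) :
    PreservesColimit D R := by
  have hci : IsIso adj.counit := NatIso.isIso_of_isIso_app _
  have : PreservesColimitsOfSize.{v₃, u₃} L := adj.leftAdjoint_preservesColimits
  let e : (D ⋙ R) ⋙ L ≅ D := Functor.associator D R L ≪≫ Functor.isoWhiskerLeft D (asIso adj.counit) ≪≫
    Functor.rightUnitor D
  let h1 : IsColimit (L.mapCocone c) := isColimitOfPreserves L hcol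
  let c2 : Cocone D := (Cocone.precompose e.inv).obj (L.mapCocone c)
  let h2 : IsColimit c2 := (IsColimit.precomposeInvEquiv e _).symm h1
  refine preservesColimit_of_preserves_colimit_cocone h2 ?_
  refine IsColimit.ofIsoColimit hcol (Cocone.ext (asIso (adj.unit.app c.pt)) fun j => ?_)
  change c.ι.app j ≫ adj.unit.app c.pt = R.map (e.inv.app j ≫ L.map (c.ι.app j))
  have h3 : R.map (e.inv.app j) = adj.unit.app (R.obj (D.obj j)) := by
    have h4 : adj.unit.app (R.obj (D.obj j)) ≫ R.map (e.hom.app j) = 𝟙 _ := by
      have h5 : e.hom.app j = adj.counit.app (D.obj j) := by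
        simp [e]
      rw [h5]
      exact adj.right_triangle_components (D.obj j)
    have h6 : R.map (e.inv.app j) ≫ R.map (e.hom.app j) = 𝟙 _ := by
      rw [← R.map_comp, Iso.inv_hom_id_app, R.map_id]
    exact (cancel_mono (R.map (e.hom.app j))).1 (h6.trans h4.symm)
  rw [R.map_comp, h3]
  exact adj.unit.naturality (c.ι.app j)

/-- A transformation between functors preserving a colimit is invertible on it if it is on the terms. -/
theorem isIso_app_of_isColimit {F G : A ⥤ B} (τ : F ⟶ G) {J : Type u₃} [Category.{v₃} J] {D : J ⥤ A}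
    {c : Cocone D} (hc : IsColimit c) [PreservesColimit D F] [PreservesColimit D G]
    (h : ∀ j, IsIso (τ.app (D.obj j))) : IsIso (τ.app c.pt) := by
  let α : D ⋙ F ≅ D ⋙ G := NatIso.ofComponents (fun j => asIso (τ.app (D.obj j)))
    (fun f => τ.naturality (D.map f))
  have h1 : τ.app c.pt = (IsColimit.coconePointsIsoOfNatIso (isColimitOfPreserves F hc)
      (isColimitOfPreserves G hc) α).hom := by
    refine (isColimitOfPreserves F hc).hom_ext fun j => ?_
    rw [IsColimit.comp_coconePointsIsoOfNatIso_hom]
    exact τ.naturality (c.ι.app j)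
  rw [h1]
  infer_instance

end K182.PushColim
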