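import Groth.Agent.CohtopB.TestSysLim

/-!
Bounds for `Hom(X, E[m])` in the derived category when the cohomology objects of `E` have `Ext^p(X, -) = 0` for
`p > d` (unbounded `E`, through `E = Rlim τ_{≥ -n} E`).
-/

set_option autoImplicit false
universe w v u w' v' u'

open CategoryTheory CategoryTheory.Limits CategoryTheory.Pretriangulated DerivedCategory
open Groth.Agent.CohtopB Groth.Agent.CohtopB.TestSys

namespace K182.RlimBound

section Bounded

variable {A : Type u'} [Category.{v'} A] [Abelian A] [HasDerivedCategory.{w} A] [HasExt.{w'} A]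

/-- `Hom(X[0], M[m]) = 0` for `M` in degrees `[a, b]` with `Ext^p(X, H^j(M)) = 0` for `p > d`, if `m > b + d`. -/
lemma hom_eq_zero_of_bounded (X : A) (d : ℕ) (a b m : ℤ) (hm : b + d < m) :
    ∀ (M : DerivedCategory A), M.IsGE a → M.IsLE b →
      (∀ (p : ℕ) (j : ℤ), d < p → Subsingleton (Abelian.Ext.{w'} X ((homologyFunctor A j).obj M) p)) →
      ∀ z : (singleFunctor A 0).obj X ⟶ M⟦m⟧, z = 0 := by
  by_cases hab : b < a
  · intro M h1 h2 _ z
    have hM : IsZero M := by
      rw [IsZero.iff_id_eq_zero]
      exact TStructure.t.zero_of_isLE_of_isGE _ b a hab h2 h1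
    exact ((shiftFunctor _ m).map_isZero hM).eq_of_tgt _ _
  · obtain ⟨n, hn⟩ := Int.eq_ofNat_of_zero_le (show 0 ≤ b - a by lia)
    clear hab
    induction n generalizing b with
    | zero =>
      have hb : b = a := by simpa [sub_eq_zero] using hn
      subst hb
      intro M h1 h2 hE z
      exact DTrunc.hom_eq_zero_of_concentrated.{w, v', u', w'} X M b m (fun k hk => hE k b (by lia)) z
    | succ n ih =>
      intro M h1 h2 hE z
      refine TriLES.eq_zero₂ (TStructure.t.triangleLTGE_distinguished b M) _ m ?_ ?_ z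
      · have h3 : TStructure.t.IsGE ((TStructure.t.truncLT b).obj M) a := inferInstance
        have h4 : TStructure.t.IsLE ((TStructure.t.truncLT b).obj M) (b - 1) := inferInstance
        refine ih (b - 1) (by lia) (by push_cast at hn ⊢; lia) _ h3 h4 ?_
        intro p j hp
        by_cases hj : j < b
        · have := DTrunc.isIso_homology_map_truncLTι M b j hj
          exact subsingleton_ext_of_iso X
            (asIso ((homologyFunctor A j).map ((TStructure.t.truncLTι b).app M))) p (hE p j hp)
        · exact subsingleton_ext_of_isZero X (isZero_of_isLE _ (b - 1) j (by lia)) p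
      · have h3 : TStructure.t.IsGE ((TStructure.t.truncGE b).obj M) b := inferInstance
        have h4 : TStructure.t.IsLE ((TStructure.t.truncGE b).obj M) b := inferInstance
        intro z
        refine DTrunc.hom_eq_zero_of_concentrated.{w, v', u', w'} X ((TStructure.t.truncGE b).obj M) b m
          (fun k hk => ?_) z
        have := DTrunc.isIso_homology_map_truncGEπ M b b le_rfl
        exact subsingleton_ext_of_iso X
          (asIso ((homologyFunctor A b).map ((TStructure.t.truncGEπ b).app M))).symm k (hE k b (by lia))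

end Bounded

section Unbounded

variable {A : Type (u' + 1)} [Category.{u'} A] [Abelian A] [HasDerivedCategory.{w} A] [HasExt.{w'} A]

/-- The `Ext` bound for the truncations `τ_{≥ a} E`. -/
lemma subsingleton_ext_truncGE (X : A) (d : ℕ) (E : DerivedCategory A)
    (hE : ∀ (p : ℕ) (j : ℤ), d < p → Subsingleton (Abelian.Ext.{w'} X ((homologyFunctor A j).obj E) p))
    (a : ℤ) (p : ℕ) (j : ℤ) (hp : d < p) :
    Subsingleton (Abelian.Ext.{w'} X ((homologyFunctor A j).obj ((TStructure.t.truncGE a).obj E)) p) := by
  by_cases hj : a ≤ j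
  · have := DTrunc.isIso_homology_map_truncGEπ E a j hj
    exact subsingleton_ext_of_iso X
      (asIso ((homologyFunctor A j).map ((TStructure.t.truncGEπ a).app E))).symm p (hE p j hp)
  · have : ((TStructure.t.truncGE a).obj E).IsGE a := TStructure.t.isGE_truncGE_obj _ _ _ le_rfl
    exact subsingleton_ext_of_isZero X (isZero_of_isGE _ a j (by lia)) p

/-- The `Ext` bound for the truncations `τ_{< a} E`. -/
lemma subsingleton_ext_truncLT (X : A) (d : ℕ) (E : DerivedCategory A)
    (hE : ∀ (p : ℕ) (j : ℤ), d < p → Subsingleton (Abelian.Ext.{w'} X ((homologyFunctor A j).obj E) p))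
    (a : ℤ) (p : ℕ) (j : ℤ) (hp : d < p) :
    Subsingleton (Abelian.Ext.{w'} X ((homologyFunctor A j).obj ((TStructure.t.truncLT a).obj E)) p) := by
  by_cases hj : j < a
  · have := DTrunc.isIso_homology_map_truncLTι E a j hj
    exact subsingleton_ext_of_iso X
      (asIso ((homologyFunctor A j).map ((TStructure.t.truncLTι a).app E))) p (hE p j hp)
  · have : ((TStructure.t.truncLT a).obj E).IsLE (a - 1) := inferInstance
    exact subsingleton_ext_of_isZero X (isZero_of_isLE _ (a - 1) j (by lia)) p

/-- `Hom(X[0], E[m]) = 0` for `E` in degrees `≤ b` (unbounded below) with `E = Rlim τ_{≥ -n} E` and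
`Ext^p(X, H^j(E)) = 0` for `p > d`, if `m > b + d`. -/
theorem hom_eq_zero_of_isLE (X : A) (d : ℕ) (E : DerivedCategory A) [HasProduct (CohCx.truncTower E)]
    (hR : CohCx.IsRlimVia (CohCx.truncTower E) (CohCx.truncTowerMap E) E (CohCx.toTruncTower E))
    (hE : ∀ (p : ℕ) (j : ℤ), d < p → Subsingleton (Abelian.Ext.{w'} X ((homologyFunctor A j).obj E) p))
    (b m : ℤ) (hb : E.IsLE b) (hm : b + d < m) (z : (singleFunctor A 0).obj X ⟶ E⟦m⟧) : z = 0 := by
  refine RlimHom.eq_zero_of_limOne hR _ m (fun y => ?_) z fun n => ?_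
  · obtain ⟨z', hz'⟩ := TruncTower.limOneIsZero_of_eventually_surjective
      (fun n => (singleFunctor A 0).obj X ⟶ (CohCx.truncTower E n)⟦m - 1⟧)
      (fun n => Preadditive.rightComp _ ((CohCx.truncTowerMap E n)⟦m - 1⟧')) ((d : ℤ) - m).toNat (fun n hn' => by
        refine TruncTower.surjective_step X E n (m - 1) fun k hk => ?_
        exact hE k _ (by lia)) y
    exact ⟨z', fun n => congr_fun hz' n⟩
  · refine hom_eq_zero_of_bounded.{w, w'} X d (-(n : ℤ)) b m hm _ (TStructure.t.isGE_truncGE_obj _ _ _ le_rfl)
      ?_ (fun p j hp => subsingleton_ext_truncGE X d E hE _ p j hp) _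
    exact inferInstanceAs (TStructure.t.IsLE ((TStructure.t.truncGE (-(n : ℤ))).obj E) b)

end Unbounded

end K182.RlimBound
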