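import Groth.Agent.VarietyB.PullSec
import Groth.Agent.FSch.K181.Good

/-!
# Sections of quasi-coherent modules over affine opens of a scheme: base change
-/

set_option autoImplicit false
set_option linter.style.haveILetI false
universe u

open CategoryTheory CategoryTheory.Limits AlgebraicGeometry Opposite TopologicalSpace

namespace K182.SchCart

open K29.RSec K181.BC K181.Good K181.Pre Groth.Agent.VarietyB Groth.Agent

/-- The structure sheaf. -/
abbrev RX (X : Scheme.{u}) : Sheaf (Opens.grothendieckTopology X) CommRingCat.{u} := X.sheaf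

variable {X : Scheme.{u}}

theorem isBC {M : Mod (RX X)} (hM : Coh.IsQCoh (X := X) M) {V W : X.Opens} (hV : IsAffineOpen V)
    (hW : IsAffineOpen W) (h : W ≤ V) : IsBC (resO (R := RX X) h) (resS (R := RX X) M h) := by
  let M : X.Modules := M
  let j1 : Algebra Γ(X, V) Γ(X, W) := (X.presheaf.map (homOfLE h).op).hom.toAlgebra
  let j2 : Module Γ(X, V) Γ(M, W) := Module.compHom _ (X.presheaf.map (homOfLE h).op).hom
  have j3 : IsScalarTower Γ(X, V) Γ(X, W) Γ(M, W) := ⟨fun a b c => by rw [Algebra.smul_def, mul_smul]; rfl⟩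
  let f' : Γ(M, V) →ₗ[Γ(X, V)] Γ(M, W) :=
    { toFun := fun s => M.presheaf.map (homOfLE h).op s
      map_add' := fun s t => map_add _ s t
      map_smul' := fun a s => M.map_smul (homOfLE h) a s }
  refine (@isBC_iff Γ(X, V) Γ(X, W) _ _ (resO (R := RX X) h) Γ(M, V) Γ(M, W) j1
    rfl _ _ _ j2 _ j3 (resS (R := RX X) M h) f' (fun m => rfl)).2 ?_
  change IsBaseChange Γ(X, W) f'
  apply LocBC.isBaseChange_of_local.{u, u}
  intro Q hQ
  let q : PrimeSpectrum Γ(X, W) := ⟨Q, hQ.isPrime⟩
  let y' : W := hW.isoSpec.inv q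
  let y : X := y'.1
  have hyW : y ∈ W := y'.2
  have hyV : y ∈ V := h hyW
  have hq : hW.primeIdealOf ⟨y, hyW⟩ = q := by
    exact congrArg (fun (f : Spec Γ(X, W) ⟶ Spec Γ(X, W)) => f.base q) hW.isoSpec.inv_hom_id
  let k1 : Algebra Γ(X, W) (X.presheaf.stalk y) := PullSec.germAlg y hyW
  let k2 : Module Γ(X, W) (M.presheaf.stalk y) := Fdesc.QCohStalk.stalkModule M y hyW
  have k3 := PullSec.stalk_isScalarTower M y hyW
  let k4 : Algebra Γ(X, V) (X.presheaf.stalk y) := PullSec.germAlg y hyV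
  let k5 : Module Γ(X, V) (M.presheaf.stalk y) := Fdesc.QCohStalk.stalkModule M y hyV
  have k6 := PullSec.stalk_isScalarTower M y hyV
  have hcomp : ∀ a : Γ(X, V), X.presheaf.germ V y hyV a =
      X.presheaf.germ W y hyW (X.presheaf.map (homOfLE h).op a) := fun a =>
    (TopCat.Presheaf.germ_res_apply X.presheaf (homOfLE h) y hyW a).symm
  have k7 : IsScalarTower Γ(X, V) Γ(X, W) (X.presheaf.stalk y) :=
    IsScalarTower.of_algebraMap_eq (fun a => hcomp a)
  have k8 : IsScalarTower Γ(X, V) Γ(X, W) (M.presheaf.stalk y) :=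
    ⟨fun a b c => by
      rw [Algebra.smul_def, mul_smul]
      refine Eq.trans ?_ (congrArg (fun t : X.presheaf.stalk y => t • (b • c)) (hcomp a).symm)
      rfl⟩
  refine ⟨X.presheaf.stalk y, inferInstance, k1, k4, k7, M.presheaf.stalk y,
    inferInstance, inferInstance, k2, k5, k3, k6, k8, Fdesc.QCohStalk.germₗ M y hyW,
    (hW.primeIdealOf ⟨y, hyW⟩).asIdeal.primeCompl, ?_, ?_, ?_, ?_⟩
  · rw [hq]
    exact fun x hx => hx
  · exact hW.isLocalization_stalk ⟨y, hyW⟩
  · exact Fdesc.QCohStalk.isLocalizedModule_germ _ hW hM y hyW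
  · have : (Fdesc.QCohStalk.germₗ M y hyW).restrictScalars Γ(X, V) ∘ₗ f' = Fdesc.QCohStalk.germₗ M y hyV := by
      ext s
      exact TopCat.Presheaf.germ_res_apply M.presheaf (homOfLE h) y hyW s
    rw [this]
    exact PullSec.isBaseChange_germ M hM hV y hyV

end K182.SchCart
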