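import Groth.Agent.FSch.K182.GoodLoc
import Groth.Agent.FSch.K182.SchCart
import Groth.Agent.S2249
import Groth.Agent.S1104
import Groth.Agent.ModSite.K291.PullMon
import Groth.Agent.CohtopB.ExactDerAdj
import Groth.Agent.FCompl.K29.FmlMor

/-!
# The localization functors on a scheme: quasi-coherence
-/

set_option autoImplicit false
set_option linter.style.haveILetI false
universe u

open CategoryTheory CategoryTheory.Limits Opposite TopologicalSpace MonoidalCategory AlgebraicGeometry

attribute [local instance] HasDerivedCategory.standard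

noncomputable section

namespace K182.SchLoc

open K29.RSec K181.BC K181.Good K181.Pre K182.OpenLoc K182.PhiF K182.SchCart
open scoped K291.Mon

variable {X : Scheme.{u}} (U : X.Opens)

/-- The direct image of the restriction. -/
abbrev PR (M : Mod (RX X)) : Mod (RX X) := (Scheme.Modules.pushforward U.ι).obj ((Scheme.Modules.restrictFunctor U.ι).obj M)

lemma le_ii (V : X.Opens) : U ⊓ V ≤ U.ι ''ᵁ (U.ι ⁻¹ᵁ V) := by
  rw [Scheme.Hom.image_preimage_eq_opensRange_inf]
  simp

lemma ii_le (V : X.Opens) : U.ι ''ᵁ (U.ι ⁻¹ᵁ V) ≤ U ⊓ V := by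
  rw [Scheme.Hom.image_preimage_eq_opensRange_inf]
  simp

lemma smul_PR (M : Mod (RX X)) {V : X.Opens} (r : O (RX X) V) (m : Sec (R := RX X) (PR U M) V) :
    (show Sec (R := RX X) M (U.ι ''ᵁ (U.ι ⁻¹ᵁ V)) from (r • m : Sec (R := RX X) (PR U M) V)) =
      (resO (R := RX X) (U.ι.image_preimage_le V) r) • (show Sec (R := RX X) M (U.ι ''ᵁ (U.ι ⁻¹ᵁ V)) from m) := by
  have h : (U.ι.appIso (U.ι ⁻¹ᵁ V)).inv (U.ι.app V r) = resO (R := RX X) (U.ι.image_preimage_le V) r :=
    congrArg (fun t : Γ(X, V) ⟶ Γ(X, U.ι ''ᵁ (U.ι ⁻¹ᵁ V)) => t r) (U.ι.app_appIso_inv V)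
  exact congrArg (fun t : O (RX X) (U.ι ''ᵁ (U.ι ⁻¹ᵁ V)) => t • (show Sec (R := RX X) M (U.ι ''ᵁ (U.ι ⁻¹ᵁ V)) from m)) h

/-- The comparison of the two descriptions. -/
def toJ' (M : Mod (RX X)) : PR U M ⟶ (J (R := RX X) U).obj M :=
  homMk (R := RX X) (M := PR U M) (N := (J (R := RX X) U).obj M)
    (fun V => (res (R := RX X) M (le_ii U V) : Sec (R := RX X) M (U.ι ''ᵁ (U.ι ⁻¹ᵁ V)) →+ Sec (R := RX X) M (U ⊓ V)))
    (fun V r m => by
      refine (congrArg (res (R := RX X) M (le_ii U V)) (smul_PR U M r m)).trans ?_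
      refine (res_smul (R := RX X) M (le_ii U V) _ _).trans ?_
      exact congrArg (fun t : O (RX X) (U ⊓ V) => t • res (R := RX X) M (le_ii U V) (show Sec (R := RX X) M (U.ι ''ᵁ (U.ι ⁻¹ᵁ V)) from m))
        (resO_resO (R := RX X) _ _ r))
    (fun V W h m => by
      let m' : Sec (R := RX X) M (U.ι ''ᵁ (U.ι ⁻¹ᵁ V)) := m
      have h1 := res_res (R := RX X) M (show U.ι ''ᵁ (U.ι ⁻¹ᵁ W) ≤ U.ι ''ᵁ (U.ι ⁻¹ᵁ V) from 
        U.ι.image_mono (U.ι.preimage_mono h)) (le_ii U W) m'
      have h2 := res_res (R := RX X) M (le_ii U V) (inf_le_inf_left U h) m'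
      exact h1.trans h2.symm)

instance isIso_toJ' (M : Mod (RX X)) : IsIso (toJ' U M) :=
  K29.RStalk.isIso_of_bijective (R := RX X) (M := PR U M) (N := (J (R := RX X) U).obj M) _ fun V =>
    PM.r_bijective (P := PM.ofMod (R := RX X) M) (le_antisymm (ii_le U V) (le_ii U V)) (le_ii U V)

variable (X) in
/-- Quasi-coherent modules. -/
abbrev qc : ObjectProperty (Mod (RX X)) := fun M => Coh.IsQCoh (X := X) M

instance isWeakSerre_qc : WSerre.IsWeakSerre (qc X) where
  exists_zero := (inferInstance : (Groth.Agent.PerfA.QCohSerre.qcoh X).ContainsZero).exists_zero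
  kernels_le := (inferInstance : (Groth.Agent.PerfA.QCohSerre.qcoh X).IsClosedUnderKernels).kernels_le
  cokernels_le := (inferInstance : (Groth.Agent.PerfA.QCohSerre.qcoh X).IsClosedUnderCokernels).cokernels_le
  prop_X₂_of_shortExact := (inferInstance :
    (Groth.Agent.PerfA.QCohSerre.qcoh X).IsClosedUnderExtensions).prop_X₂_of_shortExact

theorem isQCoh_J [QuasiCompact U.ι] [QuasiSeparated U.ι] {M : Mod (RX X)} (hM : qc X M) : qc X ((J (R := RX X) U).obj M) := by
  have h1 : Coh.IsQCoh ((Scheme.Modules.restrictFunctor U.ι).obj (show X.Modules from M)) :=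
    Groth.Agent.PerfA.QCohSerre.isQCoh_restrict U.ι hM
  have h2 := Groth.Agent.S2249.result U.ι ((Scheme.Modules.restrictFunctor U.ι).obj (show X.Modules from M))
  exact (qc X).prop_of_iso (asIso (toJ' U M)) h2

lemma flat_resO {V W : X.Opens} (hV : IsAffineOpen V) (hW : IsAffineOpen W) (h : W ≤ V) :
    (resO (R := RX X) h).Flat := by
  have := Scheme.Hom.flat_appLE (𝟙 X) hV hW (by simpa using h)
  have h2 : (𝟙 X : X ⟶ X).appLE V W (by simpa using h) = X.presheaf.map (homOfLE h).op := by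
    rw [Scheme.Hom.appLE, Scheme.Hom.id_app]
    exact Category.id_comp _
  rwa [h2] at this

variable (X) in
lemma isBasis : Opens.IsBasis {V : X.Opens | IsAffineOpen V} := X.isBasis_affineOpens

variable (X) in
lemma qc_unit : qc X (ModSite.unit (RX X)) := Groth.Agent.PerfA.QCohSerre.isQCoh_unit X

instance abelian_qc : Abelian (qc X).FullSubcategory :=
  ObjectProperty.instAbelianFullSubcategoryOfContainsZeroOfIsClosedUnderKernelsOfIsClosedUnderCokernelsOfIsClosedUnderFiniteProducts (qc X)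

variable (X) in
/-- Complexes with quasi-coherent cohomology come from complexes of quasi-coherent modules. -/
theorem exists_der [IsNoetherian X] (G : DerivedCategory (Mod (RX X))) (hG : WSerre.cohIn (qc X) G) :
    ∃ G', Nonempty ((qc X).ι.mapDerivedCategory.obj G' ≅ G) := by
  haveI i1 : ObjectProperty.ContainsZero (fun M : X.Modules => Coh.IsQCoh M) :=
    (inferInstance : (qc X).ContainsZero)
  haveI i2 : ObjectProperty.IsClosedUnderKernels (fun M : X.Modules => Coh.IsQCoh M) :=
    (inferInstance : (qc X).IsClosedUnderKernels)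
  haveI i3 : ObjectProperty.IsClosedUnderCokernels (fun M : X.Modules => Coh.IsQCoh M) :=
    (inferInstance : (qc X).IsClosedUnderCokernels)
  haveI i4 : ObjectProperty.IsClosedUnderFiniteProducts (fun M : X.Modules => Coh.IsQCoh M) :=
    (inferInstance : (qc X).IsClosedUnderFiniteProducts)
  haveI i5 : PreservesFiniteLimits (ObjectProperty.ι (fun M : X.Modules => Coh.IsQCoh M)) :=
    (inferInstance : PreservesFiniteLimits (qc X).ι)
  haveI i6 : PreservesFiniteColimits (ObjectProperty.ι (fun M : X.Modules => Coh.IsQCoh M)) :=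
    (inferInstance : PreservesFiniteColimits (qc X).ι)
  exact ((Groth.Agent.S1104.result X).2.2 G).1 hG

section Sep

variable [X.IsSeparated] [IsNoetherian X] {U} (hU : IsAffineOpen U)

include hU

theorem qc_AU : qc X (AU (RX X) U) := isQCoh_J U (qc_unit X)

theorem isFlat_AU : ModSite.IsFlat (AU (RX X) U) :=
  OpenLoc.isFlat_AU U (isBasis X) fun _ hV => flat_resO hV (hU.inf hV) _

theorem isIso_uA : IsIso (AU (RX X) U ◁ uA (RX X) U) :=
  isIso_whiskerLeft_uA U (isBasis X) fun _ hV => SchCart.isBC (qc_AU hU) hV (hU.inf hV) _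

theorem isIso_TT {M : Mod (RX X)} (hM : qc X M) : IsIso (TT U M) :=
  OpenLoc.isIso_TT U (isBasis X) fun _ hV => SchCart.isBC hM hV (hU.inf hV) _

theorem good [PreservesFiniteLimits (tensorLeft (AU (RX X) U))] : 
    FFAbs.Good (Λ := tensorLeft (AU (RX X) U)) (Idem.η (uA (RX X) U)) (qc X)
      ((DerivedCategory.singleFunctor (Mod (RX X)) 0).obj (ModSite.unit (RX X))) := by
  refine GoodLoc.good U (qc X) (isBasis X) (fun _ hV => flat_resO hU (hU.inf hV) _)
    (fun M hM _ hV => SchCart.isBC hM hU (hU.inf hV) _) (fun M hM _ hV => SchCart.isBC hM hV (hU.inf hV) _)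
    (fun _ hV => SchCart.isBC (qc_AU hU) hV (hU.inf hV) _) ?_ ?_
  · intro M N f hM hN hf
    exact K29.AffPres.surjective_of_epi hM hN f hU
  · intro G hG
    exact exists_der X G hG

end Sep

end K182.SchLoc
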